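import Mathlib
import Groth.Agent.Lib.Helper5.Lim.Descend
import Groth.Agent.Lib.Helper5.Lim.BaseChangeSystem

/-!
# General lemmas for the limit argument on étale descent data (S5124)
-/

set_option autoImplicit false

universe u

open CategoryTheory CategoryTheory.Limits AlgebraicGeometry MorphismProperty

namespace Groth.Agent.H5.EtDesc

section Cube

variable {C : Type*} [Category C] [HasPullbacks C]
  {W V Z W' V' Z' : C} (g₁ : W ⟶ Z) (g₂ : V ⟶ Z) (f₁ : W' ⟶ Z') (f₂ : V' ⟶ Z')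
  (i₁ : W' ⟶ W) (i₂ : V' ⟶ V) (i₃ : Z' ⟶ Z)

/-- Half cube lemma: if the left face is cartesian then so is the face over the right leg. -/
theorem isPullback_map_snd (h₁ : IsPullback i₁ f₁ g₁ i₃) (e₂ : f₂ ≫ i₃ = i₂ ≫ g₂) :
    IsPullback (pullback.map f₁ f₂ g₁ g₂ i₁ i₂ i₃ h₁.w.symm e₂) (pullback.snd f₁ f₂)
      (pullback.snd g₁ g₂) i₂ := by
  have hR : IsPullback (pullback.fst g₁ g₂) (pullback.snd g₁ g₂) g₁ g₂ :=
    IsPullback.of_hasPullback g₁ g₂
  have hL : IsPullback (pullback.fst f₁ f₂) (pullback.snd f₁ f₂) f₁ f₂ :=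
    IsPullback.of_hasPullback f₁ f₂
  have hO : IsPullback (pullback.fst f₁ f₂ ≫ i₁) (pullback.snd f₁ f₂) g₁ (f₂ ≫ i₃) :=
    hL.paste_horiz h₁
  have e : pullback.map f₁ f₂ g₁ g₂ i₁ i₂ i₃ h₁.w.symm e₂ ≫ pullback.fst g₁ g₂ =
      pullback.fst f₁ f₂ ≫ i₁ := pullback.lift_fst _ _ _
  rw [e₂, ← e] at hO
  exact IsPullback.of_right hO (pullback.lift_snd _ _ _) hR

/-- Half cube lemma, other side. -/
theorem isPullback_map_fst (e₁ : f₁ ≫ i₃ = i₁ ≫ g₁) (h₂ : IsPullback i₂ f₂ g₂ i₃) :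
    IsPullback (pullback.map f₁ f₂ g₁ g₂ i₁ i₂ i₃ e₁ h₂.w.symm) (pullback.fst f₁ f₂)
      (pullback.fst g₁ g₂) i₁ := by
  have hR : IsPullback (pullback.snd g₁ g₂) (pullback.fst g₁ g₂) g₂ g₁ :=
    (IsPullback.of_hasPullback g₁ g₂).flip
  have hL : IsPullback (pullback.snd f₁ f₂) (pullback.fst f₁ f₂) f₂ f₁ :=
    (IsPullback.of_hasPullback f₁ f₂).flip
  have hO : IsPullback (pullback.snd f₁ f₂ ≫ i₂) (pullback.fst f₁ f₂) g₂ (f₁ ≫ i₃) :=
    hL.paste_horiz h₂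
  have e : pullback.map f₁ f₂ g₁ g₂ i₁ i₂ i₃ e₁ h₂.w.symm ≫ pullback.snd g₁ g₂ =
      pullback.snd f₁ f₂ ≫ i₂ := pullback.lift_snd _ _ _
  rw [e₁, ← e] at hO
  exact IsPullback.of_right hO (pullback.lift_fst _ _ _) hR

/-- Full cube lemma. -/
theorem isPullback_map_base (h₁ : IsPullback i₁ f₁ g₁ i₃) (h₂ : IsPullback i₂ f₂ g₂ i₃) :
    IsPullback (pullback.map f₁ f₂ g₁ g₂ i₁ i₂ i₃ h₁.w.symm h₂.w.symm) (pullback.snd f₁ f₂ ≫ f₂)
      (pullback.snd g₁ g₂ ≫ g₂) i₃ :=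
  (isPullback_map_snd g₁ g₂ f₁ f₂ i₁ i₂ i₃ h₁ h₂.w.symm).paste_vert h₂

end Cube

section QC

/-- Quasi-compactness descends along surjective quasi-compact morphisms. -/
theorem quasiCompact_of_pullback_fst {X Y Z : Scheme.{u}} (f : X ⟶ Z) (g : Y ⟶ Z)
    [Surjective f] [QuasiCompact f] (h : QuasiCompact (pullback.fst f g)) :
    QuasiCompact g := by
  rw [quasiCompact_iff_forall_isAffineOpen]
  intro V hV
  have h0 : IsCompact ((f ⁻¹ᵁ V : X.Opens) : Set X) :=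
    f.isCompact_preimage hV.isCompact
  have h1 : IsCompact ((pullback.fst f g) ⁻¹ᵁ (f ⁻¹ᵁ V) : Set ↑(pullback f g)) :=
    (pullback.fst f g).isCompact_preimage h0
  have h2 := Scheme.image_preimage_eq_of_isPullback (IsPullback.of_hasPullback f g)
    ((f ⁻¹ᵁ V : X.Opens) : Set X)
  have h3 : (g ⁻¹ᵁ V : Set Y) = (pullback.snd f g) '' ((pullback.fst f g) ⁻¹ᵁ (f ⁻¹ᵁ V) : Set _) := by
    rw [show ((g ⁻¹ᵁ V : Y.Opens) : Set Y) = g ⁻¹' (V : Set Z) from rfl]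
    have : f '' ((f ⁻¹ᵁ V : X.Opens) : Set X) = (V : Set Z) :=
      Set.image_preimage_eq _ f.surjective
    rw [← this]
    exact h2.symm
  rw [h3]
  exact h1.image (pullback.snd f g).continuous

instance descendsAlong_quasiCompact_surj_qc :
    DescendsAlong @QuasiCompact (@Surjective ⊓ @QuasiCompact) := by
  apply DescendsAlong.mk'
  intro X Y Z f g _ hf h
  obtain ⟨h1, h2⟩ := hf
  have : Surjective f := h1
  have : QuasiCompact f := h2
  exact quasiCompact_of_pullback_fst f g h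

instance descendsAlong_quasiSeparated_surj_qc :
    DescendsAlong @QuasiSeparated (@Surjective ⊓ @QuasiCompact) := by
  rw [quasiSeparated_eq_diagonal_is_quasiCompact]
  infer_instance

end QC

end Groth.Agent.H5.EtDesc
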