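import Mathlib
import Groth.Prelude.Def_DescFam
import Groth.Agent.Lib.Helper5.EtDesc.EtA

/-!
# Scheme-level form of effectivity of a descent datum (S5124)
-/

set_option autoImplicit false

universe u

open CategoryTheory CategoryTheory.Limits AlgebraicGeometry MorphismProperty

namespace Groth.Agent.H5.EtDesc

variable {S S' : Scheme.{u}} (g : S' ⟶ S) (D : Desc.SchDDFam (fun _ : PUnit.{1} => g))

/-- transport along the descent datum, as a morphism -/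
noncomputable def tr {T₀ : Scheme.{u}} (x₀ x₁ : T₀ ⟶ S') (h : x₀ ≫ g = x₁ ≫ g)
    (v : T₀ ⟶ (D.obj PUnit.unit).left) (hv : v ≫ (D.obj PUnit.unit).hom = x₀) :
    T₀ ⟶ (D.obj PUnit.unit).left :=
  (D.φ (i := PUnit.unit) (j := PUnit.unit) x₀ x₁ h ⟨v, hv⟩).1

lemma tr_hom {T₀ : Scheme.{u}} (x₀ x₁ : T₀ ⟶ S') (h : x₀ ≫ g = x₁ ≫ g)
    (v : T₀ ⟶ (D.obj PUnit.unit).left) (hv : v ≫ (D.obj PUnit.unit).hom = x₀) :
    tr g D x₀ x₁ h v hv ≫ (D.obj PUnit.unit).hom = x₁ :=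
  (D.φ (i := PUnit.unit) (j := PUnit.unit) x₀ x₁ h ⟨v, hv⟩).2

lemma tr_congr {T₀ : Scheme.{u}} {x₀ x₁ y₀ y₁ : T₀ ⟶ S'} (h : x₀ ≫ g = x₁ ≫ g)
    {v w : T₀ ⟶ (D.obj PUnit.unit).left} (hv : v ≫ (D.obj PUnit.unit).hom = x₀)
    (e₀ : x₀ = y₀) (e₁ : x₁ = y₁) (e : v = w) :
    tr g D x₀ x₁ h v hv = tr g D y₀ y₁ (by rw [← e₀, ← e₁]; exact h) w (by rw [← e, ← e₀]; exact hv) := by
  subst e₀ e₁ e; rfl

lemma tr_natural {T₀ T₁ : Scheme.{u}} (r : T₁ ⟶ T₀) (x₀ x₁ : T₀ ⟶ S') (h : x₀ ≫ g = x₁ ≫ g)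
    (v : T₀ ⟶ (D.obj PUnit.unit).left) (hv : v ≫ (D.obj PUnit.unit).hom = x₀) :
    r ≫ tr g D x₀ x₁ h v hv =
      tr g D (r ≫ x₀) (r ≫ x₁) (by rw [Category.assoc, h, Category.assoc]) (r ≫ v)
        (by rw [Category.assoc, hv]) :=
  (D.φ_natural r x₀ x₁ h (r ≫ x₀) (r ≫ x₁) rfl rfl
    (by rw [Category.assoc, h, Category.assoc]) ⟨v, hv⟩ ⟨r ≫ v, by rw [Category.assoc, hv]⟩ rfl).symm

lemma tr_self {T₀ : Scheme.{u}} (x : T₀ ⟶ S')
    (v : T₀ ⟶ (D.obj PUnit.unit).left) (hv : v ≫ (D.obj PUnit.unit).hom = x) :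
    tr g D x x rfl v hv = v := by
  have := D.φ_self (i := PUnit.unit) x ⟨v, hv⟩
  exact congrArg Subtype.val this

lemma tr_tr {T₀ : Scheme.{u}} (x₀ x₁ x₂ : T₀ ⟶ S') (h₀₁ : x₀ ≫ g = x₁ ≫ g) (h₁₂ : x₁ ≫ g = x₂ ≫ g)
    (v : T₀ ⟶ (D.obj PUnit.unit).left) (hv : v ≫ (D.obj PUnit.unit).hom = x₀) :
    tr g D x₁ x₂ h₁₂ (tr g D x₀ x₁ h₀₁ v hv) (tr_hom g D x₀ x₁ h₀₁ v hv) =
      tr g D x₀ x₂ (h₀₁.trans h₁₂) v hv := by
  have := D.φ_comp (i := PUnit.unit) (j := PUnit.unit) (k := PUnit.unit) x₀ x₁ x₂ h₀₁ h₁₂ ⟨v, hv⟩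
  exact congrArg Subtype.val this

section Eff

variable {T : Scheme.{u}} (p : T ⟶ S)

lemma base_eq {T₀ : Scheme.{u}} {U : Over T} (s₀ s₁ : T₀ ⟶ pullback g p) (u : T₀ ⟶ U.left)
    (h₀ : s₀ ≫ pullback.snd g p = u ≫ U.hom) (h₁ : s₁ ≫ pullback.snd g p = u ≫ U.hom) :
    (s₀ ≫ pullback.fst g p) ≫ g = (s₁ ≫ pullback.fst g p) ≫ g := by
  rw [Category.assoc, Category.assoc, pullback.condition, reassoc_of% h₀, reassoc_of% h₁]

/-- The pulled back descent datum. -/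
noncomputable abbrev pullD : Desc.SchDDFam (fun _ : PUnit.{1} => pullback.snd g p) :=
  (Desc.pullDDFam (f := fun _ : PUnit.{1} => g) (f' := fun _ : PUnit.{1} => pullback.snd g p)
    (α := id) (p := p) (p' := fun _ => pullback.fst g p) (fun _ => pullback.condition)).obj D

/-- Effectivity over `p : T ⟶ S`, in the form of the statement. -/
def Eff : Prop :=
  ∃ U : Over T, Etale U.hom ∧
    Nonempty ((Desc.toDDFam (fun _ : PUnit.{1} => pullback.snd g p)).obj U ≅ pullD g D p)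

/-- A morphism from the canonical datum of `U` to the datum `D`, as a morphism of schemes over `S'`. -/
structure PreEff (U : Over T) where
  ev : pullback (pullback.snd g p) U.hom ⟶ (D.obj PUnit.unit).left
  ev_hom : ev ≫ (D.obj PUnit.unit).hom = pullback.fst (pullback.snd g p) U.hom ≫ pullback.fst g p

variable {g D p} in
/-- the comparison morphism of schemes -/
noncomputable def PreEff.theta {U : Over T} (e : PreEff g D p U) :
    pullback (pullback.snd g p) U.hom ⟶ pullback (D.obj PUnit.unit).hom (pullback.fst g p) :=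
  pullback.lift e.ev (pullback.fst _ _) e.ev_hom

variable {g D p} in
/-- compatibility with the gluing bijections -/
def PreEff.CommProp {U : Over T} (e : PreEff g D p U) : Prop :=
  ∀ ⦃T₀ : Scheme.{u}⦄ (s₀ s₁ : T₀ ⟶ pullback g p) (u : T₀ ⟶ U.left)
    (h₀ : s₀ ≫ pullback.snd g p = u ≫ U.hom) (h₁ : s₁ ≫ pullback.snd g p = u ≫ U.hom),
    tr g D (s₀ ≫ pullback.fst g p) (s₁ ≫ pullback.fst g p) (base_eq g p s₀ s₁ u h₀ h₁)
      (pullback.lift s₀ u h₀ ≫ e.ev) (by rw [Category.assoc, e.ev_hom, pullback.lift_fst_assoc]) =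
      pullback.lift s₁ u h₁ ≫ e.ev

/-- Scheme-level effectivity data for `U` over `T`. -/
structure EffData (U : Over T) extends PreEff g D p U where
  isIso : IsIso toPreEff.theta
  comm : toPreEff.CommProp

end Eff

end Groth.Agent.H5.EtDesc
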