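import Mathlib
import Groth.Prelude.Def_DescFam
import Groth.Agent.Lib.Helper5.EtDesc.EtB

/-!
# Conversion between the statement's form of effectivity and scheme-level data (S5124)
-/

set_option autoImplicit false
set_option backward.isDefEq.respectTransparency false
set_option backward.isDefEq.respectTransparency.types false

universe u

open CategoryTheory CategoryTheory.Limits AlgebraicGeometry MorphismProperty

namespace Groth.Agent.H5.EtDesc

variable {S S' : Scheme.{u}} (g : S' ⟶ S) (D : Desc.SchDDFam (fun _ : PUnit.{1} => g))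
variable {T : Scheme.{u}} (p : T ⟶ S)

section Unfold

lemma pullD_phi_fst {T₀ : Scheme.{u}} (x₀ x₁ : T₀ ⟶ pullback g p)
    (h : x₀ ≫ pullback.snd g p = x₁ ≫ pullback.snd g p)
    (w : Desc.Lifts ((pullD g D p).obj PUnit.unit) x₀) :
    ((pullD g D p).φ (i := PUnit.unit) (j := PUnit.unit) x₀ x₁ h w).1 ≫
        pullback.fst (D.obj PUnit.unit).hom (pullback.fst g p) =
      tr g D (x₀ ≫ pullback.fst g p) (x₁ ≫ pullback.fst g p)
        (by rw [Category.assoc, Category.assoc, pullback.condition, reassoc_of% h])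
        (w.1 ≫ pullback.fst (D.obj PUnit.unit).hom (pullback.fst g p))
        (by
          have e : w.1 ≫ pullback.snd (D.obj PUnit.unit).hom (pullback.fst g p) = x₀ := w.2
          rw [Category.assoc, pullback.condition, ← Category.assoc, e]) :=
  pullback.lift_fst _ _ _

lemma can_phi_val {T₀ : Scheme.{u}} (U : Over T) (x₀ x₁ : T₀ ⟶ pullback g p)
    (h : x₀ ≫ pullback.snd g p = x₁ ≫ pullback.snd g p)
    (v : Desc.Lifts (((Desc.toDDFam (fun _ : PUnit.{1} => pullback.snd g p)).obj U).obj PUnit.unit) x₀) :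
    (((Desc.toDDFam (fun _ : PUnit.{1} => pullback.snd g p)).obj U).φ
        (i := PUnit.unit) (j := PUnit.unit) x₀ x₁ h v).1 =
      pullback.lift x₁ (v.1 ≫ pullback.snd (pullback.snd g p) U.hom) (by
        have e : v.1 ≫ pullback.fst (pullback.snd g p) U.hom = x₀ := v.2
        rw [Category.assoc, ← pullback.condition, ← Category.assoc, e, h]) :=
  rfl

end Unfold

section ofIso

variable (U : Over T)
  (Θ : (Desc.toDDFam (fun _ : PUnit.{1} => pullback.snd g p)).obj U ≅ pullD g D p)

/-- the underlying morphism of schemes of an isomorphism of descent data -/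
noncomputable def thetaOf : pullback (pullback.snd g p) U.hom ⟶
    pullback (D.obj PUnit.unit).hom (pullback.fst g p) :=
  (Θ.hom.hom PUnit.unit).left

lemma thetaOf_snd : thetaOf g D p U Θ ≫ pullback.snd (D.obj PUnit.unit).hom (pullback.fst g p) =
    pullback.fst (pullback.snd g p) U.hom :=
  Over.w (Θ.hom.hom PUnit.unit)

instance : IsIso (thetaOf g D p U Θ) := by
  refine ⟨(Θ.inv.hom PUnit.unit).left, ?_, ?_⟩
  · have h := congrArg (fun a => (Desc.SchDDFam.Hom.hom a PUnit.unit).left) Θ.hom_inv_id
    exact h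
  · have h := congrArg (fun a => (Desc.SchDDFam.Hom.hom a PUnit.unit).left) Θ.inv_hom_id
    exact h

/-- Effectivity data from an isomorphism of descent data. -/
noncomputable def EffData.ofIso : EffData g D p U where
  ev := thetaOf g D p U Θ ≫ pullback.fst (D.obj PUnit.unit).hom (pullback.fst g p)
  ev_hom := by
    rw [Category.assoc, pullback.condition, ← Category.assoc, thetaOf_snd]
  isIso := by
    have : pullback.lift (thetaOf g D p U Θ ≫ pullback.fst (D.obj PUnit.unit).hom (pullback.fst g p))
        (pullback.fst (pullback.snd g p) U.hom)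
        (by rw [Category.assoc, pullback.condition, ← Category.assoc, thetaOf_snd]) =
        thetaOf g D p U Θ := by
      apply pullback.hom_ext
      · rw [pullback.lift_fst]
      · rw [pullback.lift_snd, thetaOf_snd]
    change IsIso (pullback.lift _ _ _)
    rw [this]; infer_instance
  comm := by
    intro T₀ s₀ s₁ u h₀ h₁
    have key := Θ.hom.comm (i := PUnit.unit) (j := PUnit.unit) s₀ s₁ (h₀.trans h₁.symm)
      ⟨pullback.lift s₀ u h₀, pullback.lift_fst _ _ _⟩
      ⟨pullback.lift s₀ u h₀ ≫ thetaOf g D p U Θ, by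
        rw [Category.assoc]
        erw [thetaOf_snd]
        exact pullback.lift_fst _ _ _⟩ rfl
    have key2 := congrArg (fun a => a ≫ pullback.fst (D.obj PUnit.unit).hom (pullback.fst g p)) key
    dsimp only at key2
    rw [pullD_phi_fst, can_phi_val] at key2
    refine (tr_congr g D _ _ rfl rfl (Category.assoc _ _ _).symm).trans (key2.trans ?_)
    rw [Category.assoc]
    congr 1
    apply pullback.hom_ext
    · exact (pullback.lift_fst _ _ _).trans (pullback.lift_fst _ _ _).symm
    · refine (pullback.lift_snd _ _ _).trans ((pullback.lift_snd _ _ _).trans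
        (pullback.lift_snd _ _ _).symm)

end ofIso

section toIso

variable {g D p}
variable {U : Over T} (d : EffData g D p U)

/-- the comparison morphism of schemes -/
noncomputable abbrev EffData.theta : pullback (pullback.snd g p) U.hom ⟶
    pullback (D.obj PUnit.unit).hom (pullback.fst g p) :=
  d.toPreEff.theta

instance : IsIso d.theta := d.isIso

@[reassoc (attr := simp)]
lemma EffData.theta_fst : d.theta ≫ pullback.fst (D.obj PUnit.unit).hom (pullback.fst g p) = d.ev :=
  pullback.lift_fst _ _ _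

@[reassoc (attr := simp)]
lemma PreEff.theta_fst (e : PreEff g D p U) :
    e.theta ≫ pullback.fst (D.obj PUnit.unit).hom (pullback.fst g p) = e.ev :=
  pullback.lift_fst _ _ _

@[reassoc (attr := simp)]
lemma PreEff.theta_snd (e : PreEff g D p U) :
    e.theta ≫ pullback.snd (D.obj PUnit.unit).hom (pullback.fst g p) =
    pullback.fst (pullback.snd g p) U.hom :=
  pullback.lift_snd _ _ _

@[reassoc (attr := simp)]
lemma EffData.theta_snd : d.theta ≫ pullback.snd (D.obj PUnit.unit).hom (pullback.fst g p) =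
    pullback.fst (pullback.snd g p) U.hom :=
  pullback.lift_snd _ _ _

lemma EffData.comm' {T₀ : Scheme.{u}} (x₀ x₁ : T₀ ⟶ pullback g p)
    (h : x₀ ≫ pullback.snd g p = x₁ ≫ pullback.snd g p)
    (v : T₀ ⟶ pullback (pullback.snd g p) U.hom)
    (hv : v ≫ pullback.fst (pullback.snd g p) U.hom = x₀) :
    tr g D (x₀ ≫ pullback.fst g p) (x₁ ≫ pullback.fst g p)
        (by rw [Category.assoc, Category.assoc, pullback.condition, reassoc_of% h])
        (v ≫ d.ev) (by rw [Category.assoc, d.ev_hom, reassoc_of% hv]) =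
      pullback.lift x₁ (v ≫ pullback.snd (pullback.snd g p) U.hom)
        (by rw [Category.assoc, ← pullback.condition, reassoc_of% hv, h]) ≫ d.ev := by
  have h₀ : x₀ ≫ pullback.snd g p = (v ≫ pullback.snd (pullback.snd g p) U.hom) ≫ U.hom := by
    rw [Category.assoc, ← pullback.condition, reassoc_of% hv]
  have h₁ : x₁ ≫ pullback.snd g p = (v ≫ pullback.snd (pullback.snd g p) U.hom) ≫ U.hom := by
    rw [← h, h₀]
  have key := d.comm x₀ x₁ (v ≫ pullback.snd (pullback.snd g p) U.hom) h₀ h₁
  have e : pullback.lift x₀ (v ≫ pullback.snd (pullback.snd g p) U.hom) h₀ = v := by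
    apply pullback.hom_ext
    · rw [pullback.lift_fst, hv]
    · rw [pullback.lift_snd]
  refine (tr_congr g D _ _ rfl rfl ?_).trans key
  rw [e]

/-- key identity behind both compatibility conditions -/
lemma EffData.comm_aux {T₀ : Scheme.{u}} (x₀ x₁ : T₀ ⟶ pullback g p)
    (h : x₀ ≫ pullback.snd g p = x₁ ≫ pullback.snd g p)
    (v : Desc.Lifts (((Desc.toDDFam (fun _ : PUnit.{1} => pullback.snd g p)).obj U).obj PUnit.unit) x₀)
    (w : Desc.Lifts ((pullD g D p).obj PUnit.unit) x₀) (hw : w.1 = v.1 ≫ d.theta) :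
    ((pullD g D p).φ (i := PUnit.unit) (j := PUnit.unit) x₀ x₁ h w).1 =
      (((Desc.toDDFam (fun _ : PUnit.{1} => pullback.snd g p)).obj U).φ
        (i := PUnit.unit) (j := PUnit.unit) x₀ x₁ h v).1 ≫ d.theta := by
  apply pullback.hom_ext
  · rw [pullD_phi_fst, can_phi_val]
    have hv : v.1 ≫ pullback.fst (pullback.snd g p) U.hom = x₀ := v.2
    have e3 : ∀ (a : T₀ ⟶ pullback (pullback.snd g p) U.hom),
        (a ≫ d.theta) ≫ pullback.fst (D.obj PUnit.unit).hom (pullback.fst g p) = a ≫ d.ev := by
      intro a; rw [Category.assoc, d.theta_fst]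
    refine ((tr_congr g D _ _ rfl rfl ?_).trans (d.comm' x₀ x₁ h v.1 hv)).trans (e3 _).symm
    rw [hw, e3]
  · have e1 : ((pullD g D p).φ (i := PUnit.unit) (j := PUnit.unit) x₀ x₁ h w).1 ≫
        pullback.snd (D.obj PUnit.unit).hom (pullback.fst g p) = x₁ :=
      ((pullD g D p).φ (i := PUnit.unit) (j := PUnit.unit) x₀ x₁ h w).2
    rw [e1, can_phi_val, Category.assoc, d.theta_snd]
    exact (pullback.lift_fst _ _ _).symm

/-- the morphism of descent data -/
noncomputable def EffData.homDD :
    (Desc.toDDFam (fun _ : PUnit.{1} => pullback.snd g p)).obj U ⟶ pullD g D p where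
  hom := fun _ => Over.homMk d.theta d.theta_snd
  comm := by
    rintro T₀ ⟨⟩ ⟨⟩ x₀ x₁ h v w hw
    exact d.comm_aux x₀ x₁ h v w hw

/-- the inverse morphism of descent data -/
noncomputable def EffData.invDD :
    pullD g D p ⟶ (Desc.toDDFam (fun _ : PUnit.{1} => pullback.snd g p)).obj U where
  hom := fun _ => Over.homMk (inv d.theta) (by
    rw [IsIso.inv_comp_eq]; exact d.theta_snd.symm)
  comm := by
    rintro T₀ ⟨⟩ ⟨⟩ x₀ x₁ h v w hw
    have hw' : w.1 = v.1 ≫ inv d.theta := hw
    have := d.comm_aux x₀ x₁ h w v (by rw [hw', Category.assoc, IsIso.inv_hom_id, Category.comp_id])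
    change _ = _ ≫ inv d.theta
    rw [this, Category.assoc, IsIso.hom_inv_id, Category.comp_id]

/-- the isomorphism of descent data -/
noncomputable def EffData.isoDD :
    (Desc.toDDFam (fun _ : PUnit.{1} => pullback.snd g p)).obj U ≅ pullD g D p where
  hom := d.homDD
  inv := d.invDD
  hom_inv_id := by
    ext ⟨⟩
    change d.theta ≫ inv d.theta = 𝟙 _
    exact IsIso.hom_inv_id _
  inv_hom_id := by
    ext ⟨⟩
    change inv d.theta ≫ d.theta = 𝟙 _
    exact IsIso.inv_hom_id _

end toIso

variable {g D p} in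
lemma eff_iff : Eff g D p ↔ ∃ U : Over T, Etale U.hom ∧ Nonempty (EffData g D p U) := by
  constructor
  · rintro ⟨U, hU, ⟨Θ⟩⟩
    exact ⟨U, hU, ⟨EffData.ofIso g D p U Θ⟩⟩
  · rintro ⟨U, hU, ⟨d⟩⟩
    exact ⟨U, hU, ⟨d.isoDD⟩⟩

end Groth.Agent.H5.EtDesc
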