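import Mathlib
import Groth.Prelude.Def_DescFam
import Groth.Agent.Lib.Helper5.EtDesc.EtC

/-!
# Base change of effectivity data (S5124)
-/

set_option autoImplicit false
set_option backward.isDefEq.respectTransparency false
set_option backward.isDefEq.respectTransparency.types false

universe u

open CategoryTheory CategoryTheory.Limits AlgebraicGeometry MorphismProperty

namespace Groth.Agent.H5.EtDesc

variable {S S' : Scheme.{u}} (g : S' ⟶ S) (D : Desc.SchDDFam (fun _ : PUnit.{1} => g))
variable {T T' : Scheme.{u}} (p : T ⟶ S) (q : T' ⟶ T) (p' : T' ⟶ S) (hq : q ≫ p = p')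

section Maps

/-- the map between base changes of `S'` -/
noncomputable def Smap : pullback g p' ⟶ pullback g p :=
  pullback.map g p' g p (𝟙 S') q (𝟙 S) (by rw [Category.comp_id, Category.id_comp])
    (by rw [Category.comp_id, hq])

@[reassoc (attr := simp)]
lemma Smap_fst : Smap g p q p' hq ≫ pullback.fst g p = pullback.fst g p' := by
  rw [Smap]; exact (pullback.lift_fst _ _ _).trans (Category.comp_id _)

@[reassoc (attr := simp)]
lemma Smap_snd : Smap g p q p' hq ≫ pullback.snd g p = pullback.snd g p' ≫ q :=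
  pullback.lift_snd _ _ _

lemma isPullback_Smap : IsPullback (Smap g p q p' hq) (pullback.snd g p') (pullback.snd g p) q :=
  isPullback_map_snd g p g p' (𝟙 S') q (𝟙 S) (IsPullback.of_id_fst) (by rw [Category.comp_id, hq])

variable (U : Over T) (U' : Over T') (b : U'.left ⟶ U.left) (hb : IsPullback b U'.hom U.hom q)

/-- the map between the canonical descent data schemes -/
noncomputable def Emap : pullback (pullback.snd g p') U'.hom ⟶ pullback (pullback.snd g p) U.hom :=
  pullback.map (pullback.snd g p') U'.hom (pullback.snd g p) U.hom (Smap g p q p' hq) b q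
    (Smap_snd g p q p' hq).symm hb.w.symm

@[reassoc (attr := simp)]
lemma Emap_fst : Emap g p q p' hq U U' b hb ≫ pullback.fst (pullback.snd g p) U.hom =
    pullback.fst (pullback.snd g p') U'.hom ≫ Smap g p q p' hq :=
  pullback.lift_fst _ _ _

@[reassoc (attr := simp)]
lemma Emap_snd : Emap g p q p' hq U U' b hb ≫ pullback.snd (pullback.snd g p) U.hom =
    pullback.snd (pullback.snd g p') U'.hom ≫ b :=
  pullback.lift_snd _ _ _

lemma isPullback_Emap_fst : IsPullback (Emap g p q p' hq U U' b hb)
    (pullback.fst (pullback.snd g p') U'.hom) (pullback.fst (pullback.snd g p) U.hom)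
    (Smap g p q p' hq) :=
  isPullback_map_fst _ _ _ _ _ _ _ (Smap_snd g p q p' hq).symm hb

lemma isPullback_Emap_base : IsPullback (Emap g p q p' hq U U' b hb)
    (pullback.snd (pullback.snd g p') U'.hom ≫ U'.hom) (pullback.snd (pullback.snd g p) U.hom ≫ U.hom)
    q :=
  isPullback_map_base _ _ _ _ _ _ _ (isPullback_Smap g p q p' hq) hb

lemma lift_Emap {T₀ : Scheme.{u}} (s : T₀ ⟶ pullback g p') (u : T₀ ⟶ U'.left)
    (h : s ≫ pullback.snd g p' = u ≫ U'.hom) :
    pullback.lift s u h ≫ Emap g p q p' hq U U' b hb =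
      pullback.lift (s ≫ Smap g p q p' hq) (u ≫ b)
        (by rw [Category.assoc, Smap_snd, reassoc_of% h, Category.assoc, hb.w]) := by
  apply pullback.hom_ext
  · rw [Category.assoc, Emap_fst, pullback.lift_fst_assoc, pullback.lift_fst]
  · rw [Category.assoc, Emap_snd, pullback.lift_snd_assoc, pullback.lift_snd]

/-- the map between the pulled-back descent data schemes -/
noncomputable def Fmap : pullback (D.obj PUnit.unit).hom (pullback.fst g p') ⟶
    pullback (D.obj PUnit.unit).hom (pullback.fst g p) :=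
  pullback.map (D.obj PUnit.unit).hom (pullback.fst g p') (D.obj PUnit.unit).hom (pullback.fst g p)
    (𝟙 _) (Smap g p q p' hq) (𝟙 _) (by rw [Category.comp_id, Category.id_comp])
    (by rw [Category.comp_id, Smap_fst])

@[reassoc (attr := simp)]
lemma Fmap_fst : Fmap g D p q p' hq ≫ pullback.fst (D.obj PUnit.unit).hom (pullback.fst g p) =
    pullback.fst (D.obj PUnit.unit).hom (pullback.fst g p') := by
  rw [Fmap]; exact (pullback.lift_fst _ _ _).trans (Category.comp_id _)

@[reassoc (attr := simp)]
lemma Fmap_snd : Fmap g D p q p' hq ≫ pullback.snd (D.obj PUnit.unit).hom (pullback.fst g p) =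
    pullback.snd (D.obj PUnit.unit).hom (pullback.fst g p') ≫ Smap g p q p' hq :=
  pullback.lift_snd _ _ _

lemma isPullback_Fmap : IsPullback (Fmap g D p q p' hq)
    (pullback.snd (D.obj PUnit.unit).hom (pullback.fst g p'))
    (pullback.snd (D.obj PUnit.unit).hom (pullback.fst g p)) (Smap g p q p' hq) :=
  isPullback_map_snd _ _ _ _ (𝟙 _) _ (𝟙 _) IsPullback.of_id_fst
    (by rw [Category.comp_id, Smap_fst])

end Maps

section BC

variable {g D p}
variable {U : Over T} (e : PreEff g D p U) (U' : Over T') (b : U'.left ⟶ U.left)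
  (hb : IsPullback b U'.hom U.hom q)

lemma bc_ev_hom : (Emap g p q p' hq U U' b hb ≫ e.ev) ≫ (D.obj PUnit.unit).hom =
    pullback.fst (pullback.snd g p') U'.hom ≫ pullback.fst g p' := by
  rw [Category.assoc, e.ev_hom, Emap_fst_assoc, Smap_fst]

/-- Base change of a morphism of descent data (scheme-level). -/
noncomputable def PreEff.bc : PreEff g D p' U' where
  ev := Emap g p q p' hq U U' b hb ≫ e.ev
  ev_hom := bc_ev_hom q p' hq e U' b hb

@[simp] lemma PreEff.bc_ev : (e.bc q p' hq U' b hb).ev = Emap g p q p' hq U U' b hb ≫ e.ev := rfl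

lemma bc_theta_comm :
    (e.bc q p' hq U' b hb).theta ≫ Fmap g D p q p' hq = Emap g p q p' hq U U' b hb ≫ e.theta := by
  apply pullback.hom_ext
  · rw [Category.assoc, Fmap_fst, PreEff.theta_fst, Category.assoc, PreEff.theta_fst, PreEff.bc_ev]
  · rw [Category.assoc, Fmap_snd, PreEff.theta_snd_assoc, Category.assoc, PreEff.theta_snd, Emap_fst]

lemma PreEff.bc_theta_isPullback :
    IsPullback (Emap g p q p' hq U U' b hb) (e.bc q p' hq U' b hb).theta e.theta
      (Fmap g D p q p' hq) := by
  refine IsPullback.of_bot ?_ (bc_theta_comm q p' hq e U' b hb).symm (isPullback_Fmap g D p q p' hq)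
  rw [PreEff.theta_snd, PreEff.theta_snd]
  exact isPullback_Emap_fst g p q p' hq U U' b hb

lemma PreEff.bc_isIso (h : IsIso e.theta) : IsIso (e.bc q p' hq U' b hb).theta := by
  have h' : (isomorphisms Scheme.{u}) e.theta := h
  exact (isomorphisms Scheme.{u}).of_isPullback (e.bc_theta_isPullback q p' hq U' b hb) h'

lemma PreEff.bc_comm (h : e.CommProp) : (e.bc q p' hq U' b hb).CommProp := by
  intro T₀ s₀ s₁ u h₀ h₁
  have h₀' : (s₀ ≫ Smap g p q p' hq) ≫ pullback.snd g p = (u ≫ b) ≫ U.hom := by
    rw [Category.assoc, Smap_snd, reassoc_of% h₀, Category.assoc, hb.w]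
  have h₁' : (s₁ ≫ Smap g p q p' hq) ≫ pullback.snd g p = (u ≫ b) ≫ U.hom := by
    rw [Category.assoc, Smap_snd, reassoc_of% h₁, Category.assoc, hb.w]
  have key := h (s₀ ≫ Smap g p q p' hq) (s₁ ≫ Smap g p q p' hq) (u ≫ b) h₀' h₁'
  have e₀ := lift_Emap g p q p' hq U U' b hb s₀ u h₀
  have e₁ := lift_Emap g p q p' hq U U' b hb s₁ u h₁
  have e₁' : pullback.lift s₁ u h₁ ≫ Emap g p q p' hq U U' b hb ≫ e.ev =
      pullback.lift (s₁ ≫ Smap g p q p' hq) (u ≫ b) h₁' ≫ e.ev := by
    rw [← Category.assoc, e₁]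
  refine (tr_congr g D _ _ ?_ ?_ ?_).trans (key.trans e₁'.symm)
  · rw [Category.assoc, Smap_fst]
  · rw [Category.assoc, Smap_fst]
  · change pullback.lift s₀ u h₀ ≫ Emap g p q p' hq U U' b hb ≫ e.ev = _
    rw [← Category.assoc, e₀]

/-- Base change of effectivity data. -/
noncomputable def EffData.bc (d : EffData g D p U) : EffData g D p' U' where
  toPreEff := d.toPreEff.bc q p' hq U' b hb
  isIso := d.toPreEff.bc_isIso q p' hq U' b hb d.isIso
  comm := d.toPreEff.bc_comm q p' hq U' b hb d.comm

end BC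

section Stable

variable {g D p}

include hq in
/-- Effectivity is stable under base change. -/
theorem Eff.bc (h : Eff g D p) : Eff g D p' := by
  rw [eff_iff] at h ⊢
  obtain ⟨U, hU, ⟨d⟩⟩ := h
  refine ⟨Over.mk (pullback.snd U.hom q), ?_, ⟨d.bc q p' hq (Over.mk (pullback.snd U.hom q))
    (pullback.fst U.hom q) (IsPullback.of_hasPullback U.hom q)⟩⟩
  change Etale (pullback.snd U.hom q)
  infer_instance

end Stable

end Groth.Agent.H5.EtDesc
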