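import Mathlib
import Groth.Agent.Lib.Helper5.EtDesc.EtA
import Groth.Agent.Lib.Helper5.AlgSp.FppfLocal

/-!
# Flexible forms of descent of morphisms / properties along a limit (S5124)
-/

set_option autoImplicit false
set_option backward.isDefEq.respectTransparency false
set_option backward.isDefEq.respectTransparency.types false

universe u

open CategoryTheory CategoryTheory.Limits AlgebraicGeometry MorphismProperty

namespace Groth.Agent.H5.EtDesc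

variable {I : Type u} [SmallCategory I] [IsCofiltered I] (Dg : I ⥤ Scheme.{u}) (c : Cone Dg)
  (hc : IsLimit c) [∀ (i j : I) (a : i ⟶ j), IsAffineHom (Dg.map a)]

include hc in
/-- Flexible existence: a morphism from the limit stage of a qcqs scheme over a stage, into a scheme
locally of finite presentation over a base, descends to a stage. -/
theorem exists_hom_of_isPullback (j : I) [CompactSpace (Dg.obj j)] [QuasiSeparatedSpace (Dg.obj j)]
    {Z Y B : Scheme.{u}} (z : Z ⟶ Dg.obj j) [QuasiCompact z] [QuasiSeparated z]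
    (f : Y ⟶ B) [LocallyOfFinitePresentation f] (zB : Z ⟶ B)
    {Zc : Scheme.{u}} (πZ : Zc ⟶ Z) (zc : Zc ⟶ c.pt) (hZc : IsPullback πZ zc z (c.π.app j))
    (a : Zc ⟶ Y) (ha : a ≫ f = πZ ≫ zB) :
    ∃ (k : I) (φ : k ⟶ j), ∀ {Zk : Scheme.{u}} (πk : Zk ⟶ Z) (zk : Zk ⟶ Dg.obj k)
      (_ : IsPullback πk zk z (Dg.map φ)) (lam : Zc ⟶ Zk) (_ : lam ≫ πk = πZ)
      (_ : lam ≫ zk = zc ≫ c.π.app k),
      ∃ ak : Zk ⟶ Y, ak ≫ f = πk ≫ zB ∧ lam ≫ ak = a := by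
  have hDaff : ∀ {i j : I} (f : i ⟶ j), IsAffineHom (Dg.map f) := fun f => inferInstance
  haveI : CompactSpace Z := QuasiCompact.compactSpace_of_compactSpace z
  haveI : QuasiSeparatedSpace Z := quasiSeparatedSpace_of_quasiSeparated z
  haveI : ∀ {k k' : Over j} (φ : k ⟶ k'), IsAffineHom ((Lim.bcDiagram Dg z).map φ) :=
    fun φ => Lim.isAffineHom_bcMap Dg z φ (hDaff _)
  haveI : ∀ k : Over j, CompactSpace ((Lim.bcDiagram Dg z).obj k) :=
    fun k => Lim.compactSpace_bcDiagram_obj Dg z k (hDaff _)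
  haveI : ∀ k : Over j, QuasiSeparatedSpace ((Lim.bcDiagram Dg z).obj k) :=
    fun k => Lim.quasiSeparatedSpace_bcDiagram_obj Dg z k (hDaff _)
  let t : Lim.bcDiagram Dg z ⟶ (Functor.const (Over j)).obj B :=
    Lim.bcDiagramFst Dg z ≫ (Functor.const _).map zB
  obtain ⟨k, gk, hgk, hgk'⟩ := Scheme.exists_π_app_comp_eq_of_locallyOfFinitePresentation
    (Lim.bcDiagram Dg z) t f (Lim.bcCone Dg c z) (Lim.isLimitBcCone Dg c z hc)
    (hZc.isoPullback.inv ≫ a) (by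
      ext k : 2
      change Lim.bcProj Dg c z k ≫ pullback.fst z (Dg.map k.hom) ≫ zB =
        (hZc.isoPullback.inv ≫ a) ≫ f
      rw [Lim.bcProj_fst_assoc, Category.assoc, ha, ← Category.assoc, hZc.isoPullback_inv_fst])
  refine ⟨k.left, k.hom, fun {Zk} πk zk hk lam h1 h2 => ⟨hk.isoPullback.hom ≫ gk, ?_, ?_⟩⟩
  · rw [Category.assoc, hgk']
    change hk.isoPullback.hom ≫ pullback.fst z (Dg.map k.hom) ≫ zB = _
    rw [← Category.assoc, hk.isoPullback_hom_fst]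
  · have e : lam ≫ hk.isoPullback.hom = hZc.isoPullback.hom ≫ Lim.bcProj Dg c z k := by
      apply pullback.hom_ext
      · rw [Category.assoc, hk.isoPullback_hom_fst, h1, Category.assoc, Lim.bcProj_fst,
          hZc.isoPullback_hom_fst]
      · rw [Category.assoc, hk.isoPullback_hom_snd, h2, Category.assoc, Lim.bcProj_snd,
          ← Category.assoc, hZc.isoPullback_hom_snd]
    have hgk2 : Lim.bcProj Dg c z k ≫ gk = hZc.isoPullback.inv ≫ a := hgk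
    rw [← Category.assoc, e, Category.assoc, hgk2, Iso.hom_inv_id_assoc]

include hc in
/-- Flexible uniqueness. -/
theorem exists_eq_of_isPullback [∀ i, CompactSpace (Dg.obj i)] (k : I)
    {Zk Y B : Scheme.{u}} (zk : Zk ⟶ Dg.obj k) [QuasiCompact zk]
    (f : Y ⟶ B) [LocallyOfFiniteType f] (zB : Zk ⟶ B)
    {Zc : Scheme.{u}} (lam : Zc ⟶ Zk) (zc : Zc ⟶ c.pt) (hZc : IsPullback lam zc zk (c.π.app k))
    (a b : Zk ⟶ Y) (ha : a ≫ f = zB) (hb : b ≫ f = zB) (hab : lam ≫ a = lam ≫ b) :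
    ∃ (k' : I) (ψ : k' ⟶ k), ∀ {Zk' : Scheme.{u}} (μ : Zk' ⟶ Zk) (zk' : Zk' ⟶ Dg.obj k')
      (_ : IsPullback μ zk' zk (Dg.map ψ)), μ ≫ a = μ ≫ b := by
  have hDaff : ∀ {i j : I} (f : i ⟶ j), IsAffineHom (Dg.map f) := fun f => inferInstance
  haveI : CompactSpace Zk := QuasiCompact.compactSpace_of_compactSpace zk
  haveI : ∀ {j j' : Over k} (φ : j ⟶ j'), IsAffineHom ((Lim.bcDiagram Dg zk).map φ) :=
    fun φ => Lim.isAffineHom_bcMap Dg zk φ (hDaff _)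
  haveI : ∀ j : Over k, CompactSpace ((Lim.bcDiagram Dg zk).obj j) :=
    fun j => Lim.compactSpace_bcDiagram_obj Dg zk j (hDaff _)
  let t : Lim.bcDiagram Dg zk ⟶ (Functor.const (Over k)).obj B :=
    Lim.bcDiagramFst Dg zk ≫ (Functor.const _).map zB
  let i₁ : Over k := Over.mk (𝟙 k)
  let e₁ : (Lim.bcDiagram Dg zk).obj i₁ ⟶ Zk := pullback.fst zk (Dg.map (𝟙 k))
  obtain ⟨k', ψ, hψ⟩ := Scheme.exists_hom_comp_eq_comp_of_locallyOfFiniteType
    (Lim.bcDiagram Dg zk) t f (Lim.bcCone Dg c zk) (Lim.isLimitBcCone Dg c zk hc) (i := i₁)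
    (e₁ ≫ a) (e₁ ≫ b)
    (by change pullback.fst zk (Dg.map (𝟙 k)) ≫ zB = _; rw [Category.assoc, ha])
    (by change pullback.fst zk (Dg.map (𝟙 k)) ≫ zB = _; rw [Category.assoc, hb])
    (by
      change Lim.bcProj Dg c zk i₁ ≫ pullback.fst zk (Dg.map (𝟙 k)) ≫ a =
        Lim.bcProj Dg c zk i₁ ≫ pullback.fst zk (Dg.map (𝟙 k)) ≫ b
      have e5 : Lim.bcProj Dg c zk i₁ ≫ pullback.fst zk (Dg.map (𝟙 k)) =
          pullback.fst zk (c.π.app k) := Lim.bcProj_fst Dg c zk i₁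
      have e6 : pullback.fst zk (c.π.app k) = hZc.isoPullback.inv ≫ lam :=
        (hZc.isoPullback_inv_fst).symm
      rw [reassoc_of% e5, reassoc_of% e5, e6, Category.assoc, Category.assoc, hab])
  refine ⟨k'.left, k'.hom, fun {Zk'} μ zk' hμ => ?_⟩
  have e2 : (Lim.bcDiagram Dg zk).map ψ ≫ e₁ = pullback.fst zk (Dg.map k'.hom) :=
    Lim.bcMap_fst Dg zk ψ
  have e3 : μ = hμ.isoPullback.hom ≫ (Lim.bcDiagram Dg zk).map ψ ≫ e₁ := by
    rw [e2, hμ.isoPullback_hom_fst]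
  rw [e3, Category.assoc, Category.assoc, Category.assoc, Category.assoc, hψ]

omit [IsCofiltered I] [∀ (i j : I) (a : i ⟶ j), IsAffineHom (Dg.map a)] in
lemma prop_iff_of_two_isPullback {P : MorphismProperty Scheme.{u}} [P.RespectsIso]
    {X₀ Y₀ B Bk Xk Yk : Scheme.{u}} (f₀ : X₀ ⟶ Y₀) (g₀ : Y₀ ⟶ B) (β : Bk ⟶ B) (fk : Xk ⟶ Yk)
    (xk : Xk ⟶ X₀) (yk : Yk ⟶ Y₀) (ykk : Yk ⟶ Bk) (h1 : IsPullback xk fk f₀ yk)
    (h2 : IsPullback yk ykk g₀ β) :
    P fk ↔ P (pullback.snd f₀ (pullback.fst g₀ β)) := by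
  have sq' : IsPullback xk (fk ≫ h2.isoPullback.hom) f₀ (pullback.fst g₀ β) :=
    IsPullback.of_iso h1 (Iso.refl _) (Iso.refl _) h2.isoPullback (Iso.refl _)
      (by simp) (by simp) (by simp) (by simp)
  rw [← AlgSp.prop_of_isPullback_snd_iff (P := P) sq', P.cancel_right_of_respectsIso]

include hc in
/-- Flexible descent of a property of a morphism. -/
theorem exists_prop_of_isPullback {P Φ : MorphismProperty Scheme.{u}} [IsZariskiLocalAtTarget P]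
    [P.IsStableUnderBaseChange] [Φ.IsStableUnderBaseChange] (H : Lim.AffineSystemDescent P Φ)
    (j : I) {X₀ Y₀ : Scheme.{u}} (f₀ : X₀ ⟶ Y₀) (g₀ : Y₀ ⟶ Dg.obj j) [CompactSpace Y₀] (hΦ : Φ f₀)
    {Xc Yc : Scheme.{u}} (fc : Xc ⟶ Yc) (x : Xc ⟶ X₀) (y : Yc ⟶ Y₀) (yc : Yc ⟶ c.pt)
    (h1 : IsPullback x fc f₀ y) (h2 : IsPullback y yc g₀ (c.π.app j)) (hP : P fc) :
    ∃ (k : I) (φ : k ⟶ j), ∀ {Xk Yk : Scheme.{u}} (fk : Xk ⟶ Yk) (xk : Xk ⟶ X₀) (yk : Yk ⟶ Y₀)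
      (ykk : Yk ⟶ Dg.obj k) (_ : IsPullback xk fk f₀ yk) (_ : IsPullback yk ykk g₀ (Dg.map φ)),
      P fk := by
  have hP₁ : P (pullback.snd f₀ (pullback.fst g₀ (c.π.app j))) :=
    (prop_iff_of_two_isPullback f₀ g₀ (c.π.app j) fc x y yc h1 h2).mp hP
  obtain ⟨k, hk⟩ := Lim.exists_descend_core Dg c hc H j f₀ g₀ hΦ hP₁
  exact ⟨k.left, k.hom, fun fk xk yk ykk h1k h2k =>
    (prop_iff_of_two_isPullback f₀ g₀ (Dg.map k.hom) fk xk yk ykk h1k h2k).mpr hk⟩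

end Groth.Agent.H5.EtDesc
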