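import Mathlib
import Groth.Prelude.Def_DescFam
import Groth.Agent.Lib.Helper5.EtDesc.EtD

/-!
# The universal test point for the cocycle compatibility (S5124)
-/

set_option autoImplicit false
set_option backward.isDefEq.respectTransparency false
set_option backward.isDefEq.respectTransparency.types false

universe u

open CategoryTheory CategoryTheory.Limits AlgebraicGeometry MorphismProperty

namespace Groth.Agent.H5.EtDesc

variable {S S' : Scheme.{u}} (g : S' ⟶ S) (D : Desc.SchDDFam (fun _ : PUnit.{1} => g))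

section Univ

variable {T : Scheme.{u}} (p : T ⟶ S) (U : Over T)

/-- the universal test scheme `(S'_T ×_T U) ×_T S'_T` -/
noncomputable abbrev Rsch : Scheme.{u} :=
  pullback (pullback.snd (pullback.snd g p) U.hom ≫ U.hom) (pullback.snd g p)

/-- first point of `S'_T` -/
noncomputable def Rs₀ : Rsch g p U ⟶ pullback g p :=
  pullback.fst _ _ ≫ pullback.fst (pullback.snd g p) U.hom

/-- second point of `S'_T` -/
noncomputable def Rs₁ : Rsch g p U ⟶ pullback g p := pullback.snd _ _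

/-- the point of `U` -/
noncomputable def Ru : Rsch g p U ⟶ U.left :=
  pullback.fst _ _ ≫ pullback.snd (pullback.snd g p) U.hom

lemma Rh₀ : Rs₀ g p U ≫ pullback.snd g p = Ru g p U ≫ U.hom := by
  rw [Rs₀, Ru, Category.assoc, Category.assoc, pullback.condition]

lemma Rh₁ : Rs₁ g p U ≫ pullback.snd g p = Ru g p U ≫ U.hom := by
  rw [Rs₁, Ru, Category.assoc, ← pullback.condition]

lemma Rlift₀ : pullback.lift (Rs₀ g p U) (Ru g p U) (Rh₀ g p U) = pullback.fst _ _ := by
  apply pullback.hom_ext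
  · rw [pullback.lift_fst, Rs₀]
  · rw [pullback.lift_snd, Ru]

variable {g D p U}
variable (e : PreEff g D p U)

/-- left side of the universal compatibility equation -/
noncomputable def PreEff.lhs : Rsch g p U ⟶ (D.obj PUnit.unit).left :=
  tr g D (Rs₀ g p U ≫ pullback.fst g p) (Rs₁ g p U ≫ pullback.fst g p)
    (base_eq g p _ _ _ (Rh₀ g p U) (Rh₁ g p U))
    (pullback.fst _ _ ≫ e.ev)
    (by rw [Category.assoc, e.ev_hom, Rs₀, Category.assoc])

/-- right side of the universal compatibility equation -/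
noncomputable def PreEff.rhs : Rsch g p U ⟶ (D.obj PUnit.unit).left :=
  pullback.lift (Rs₁ g p U) (Ru g p U) (Rh₁ g p U) ≫ e.ev

lemma PreEff.lhs_hom : e.lhs ≫ (D.obj PUnit.unit).hom = Rs₁ g p U ≫ pullback.fst g p :=
  tr_hom g D _ _ _ _ _

lemma PreEff.rhs_hom : e.rhs ≫ (D.obj PUnit.unit).hom = Rs₁ g p U ≫ pullback.fst g p := by
  rw [PreEff.rhs, Category.assoc, e.ev_hom, pullback.lift_fst_assoc]

lemma PreEff.commProp_iff : e.CommProp ↔ e.lhs = e.rhs := by
  constructor
  · intro h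
    have key := h (Rs₀ g p U) (Rs₁ g p U) (Ru g p U) (Rh₀ g p U) (Rh₁ g p U)
    refine (tr_congr g D _ _ rfl rfl ?_).trans key
    rw [Rlift₀]
  · intro h T₀ s₀ s₁ u h₀ h₁
    let r : T₀ ⟶ Rsch g p U := pullback.lift (pullback.lift s₀ u h₀) s₁
      (by rw [pullback.lift_snd_assoc, h₁])
    have r0 : r ≫ Rs₀ g p U = s₀ := by
      rw [Rs₀, pullback.lift_fst_assoc, pullback.lift_fst]
    have r1 : r ≫ Rs₁ g p U = s₁ := by
      rw [Rs₁, pullback.lift_snd]
    have ru : r ≫ Ru g p U = u := by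
      rw [Ru, pullback.lift_fst_assoc, pullback.lift_snd]
    have e1 : r ≫ e.lhs = r ≫ e.rhs := by rw [h]
    rw [PreEff.lhs, tr_natural] at e1
    have e2 : r ≫ e.rhs = pullback.lift s₁ u h₁ ≫ e.ev := by
      rw [PreEff.rhs, ← Category.assoc]
      congr 1
      apply pullback.hom_ext
      · rw [Category.assoc, pullback.lift_fst, pullback.lift_fst, r1]
      · rw [Category.assoc, pullback.lift_snd, pullback.lift_snd, ru]
    refine (tr_congr g D _ _ ?_ ?_ ?_).trans (e1.trans e2)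
    · rw [← Category.assoc, r0]
    · rw [← Category.assoc, r1]
    · rw [← Category.assoc, pullback.lift_fst]

end Univ

section UnivBC

variable {T T' : Scheme.{u}} (p : T ⟶ S) (q : T' ⟶ T) (p' : T' ⟶ S) (hq : q ≫ p = p')
  (U : Over T) (U' : Over T') (b : U'.left ⟶ U.left) (hb : IsPullback b U'.hom U.hom q)

/-- the map between universal test schemes -/
noncomputable def Rmap : Rsch g p' U' ⟶ Rsch g p U :=
  pullback.map _ _ _ _ (Emap g p q p' hq U U' b hb) (Smap g p q p' hq) q
    (isPullback_Emap_base g p q p' hq U U' b hb).w.symm (Smap_snd g p q p' hq).symm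

lemma isPullback_Rmap : IsPullback (Rmap g p q p' hq U U' b hb)
    (pullback.snd _ _ ≫ pullback.snd g p') (pullback.snd _ _ ≫ pullback.snd g p) q :=
  isPullback_map_base _ _ _ _ _ _ _ (isPullback_Emap_base g p q p' hq U U' b hb)
    (isPullback_Smap g p q p' hq)

@[reassoc]
lemma Rmap_fst : Rmap g p q p' hq U U' b hb ≫ pullback.fst _ _ =
    pullback.fst _ _ ≫ Emap g p q p' hq U U' b hb :=
  pullback.lift_fst _ _ _

@[reassoc]
lemma Rmap_s₁ : Rmap g p q p' hq U U' b hb ≫ Rs₁ g p U = Rs₁ g p' U' ≫ Smap g p q p' hq :=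
  pullback.lift_snd _ _ _

@[reassoc]
lemma Rmap_s₀ : Rmap g p q p' hq U U' b hb ≫ Rs₀ g p U = Rs₀ g p' U' ≫ Smap g p q p' hq := by
  rw [Rs₀, Rs₀, Rmap_fst_assoc, Emap_fst, Category.assoc]

@[reassoc]
lemma Rmap_u : Rmap g p q p' hq U U' b hb ≫ Ru g p U = Ru g p' U' ≫ b := by
  rw [Ru, Ru, Rmap_fst_assoc, Emap_snd, Category.assoc]

variable {g D p U}
variable (e : PreEff g D p U)

lemma PreEff.bc_lhs : Rmap g p q p' hq U U' b hb ≫ e.lhs = (e.bc q p' hq U' b hb).lhs := by
  rw [PreEff.lhs, tr_natural, PreEff.lhs]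
  refine tr_congr g D _ _ ?_ ?_ ?_
  · rw [Rmap_s₀_assoc, Smap_fst]
  · rw [Rmap_s₁_assoc, Smap_fst]
  · rw [Rmap_fst_assoc, PreEff.bc_ev]

lemma PreEff.bc_rhs : Rmap g p q p' hq U U' b hb ≫ e.rhs = (e.bc q p' hq U' b hb).rhs := by
  rw [PreEff.rhs, PreEff.rhs, PreEff.bc_ev, ← Category.assoc, ← Category.assoc]
  congr 1
  rw [lift_Emap]
  apply pullback.hom_ext
  · rw [Category.assoc, pullback.lift_fst, pullback.lift_fst, Rmap_s₁]
  · rw [Category.assoc, pullback.lift_snd, pullback.lift_snd, Rmap_u]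

end UnivBC

end Groth.Agent.H5.EtDesc
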