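import Mathlib
import Groth.Prelude.Def_DescFam
import Groth.Agent.Lib.Helper5.EtDesc.EtF

/-!
# Composition of base changes of morphisms of descent data (S5124)
-/

set_option autoImplicit false
set_option backward.isDefEq.respectTransparency false
set_option backward.isDefEq.respectTransparency.types false

universe u

open CategoryTheory CategoryTheory.Limits AlgebraicGeometry MorphismProperty

namespace Groth.Agent.H5.EtDesc

variable {S S' : Scheme.{u}} (g : S' ⟶ S) (D : Desc.SchDDFam (fun _ : PUnit.{1} => g))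

section Comp

variable {T T' T'' : Scheme.{u}} (p : T ⟶ S) (q : T' ⟶ T) (p' : T' ⟶ S) (hq : q ≫ p = p')
  (q' : T'' ⟶ T') (p'' : T'' ⟶ S) (hq' : q' ≫ p' = p'')

include hq hq' in
lemma comp_eq : (q' ≫ q) ≫ p = p'' := by rw [Category.assoc, hq, hq']

lemma Smap_comp : Smap g p' q' p'' hq' ≫ Smap g p q p' hq =
    Smap g p (q' ≫ q) p'' (comp_eq p q p' hq q' p'' hq') := by
  apply pullback.hom_ext
  · rw [Category.assoc, Smap_fst, Smap_fst, Smap_fst]
  · rw [Category.assoc, Smap_snd, Smap_snd_assoc, Smap_snd]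

variable (U : Over T) (U' : Over T') (U'' : Over T'') (b : U'.left ⟶ U.left)
  (hb : IsPullback b U'.hom U.hom q) (b' : U''.left ⟶ U'.left)
  (hb' : IsPullback b' U''.hom U'.hom q')

lemma Emap_comp : Emap g p' q' p'' hq' U' U'' b' hb' ≫ Emap g p q p' hq U U' b hb =
    Emap g p (q' ≫ q) p'' (comp_eq p q p' hq q' p'' hq') U U'' (b' ≫ b) (hb'.paste_horiz hb) := by
  apply pullback.hom_ext
  · rw [Category.assoc, Emap_fst, Emap_fst_assoc, Emap_fst, Smap_comp]
  · rw [Category.assoc, Emap_snd, Emap_snd_assoc, Emap_snd]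

lemma Emap_comp' (q₂ : T'' ⟶ T) (hq₂ : q₂ ≫ p = p'') (b₂ : U''.left ⟶ U.left)
    (hb₂ : IsPullback b₂ U''.hom U.hom q₂) (hqq : q' ≫ q = q₂) (hbb : b' ≫ b = b₂) :
    Emap g p' q' p'' hq' U' U'' b' hb' ≫ Emap g p q p' hq U U' b hb =
      Emap g p q₂ p'' hq₂ U U'' b₂ hb₂ := by
  subst hqq hbb
  exact Emap_comp g p q p' hq q' p'' hq' U U' U'' b hb b' hb'

variable {g D p U}

lemma PreEff.ext' {e e' : PreEff g D p U} (h : e.ev = e'.ev) : e = e' := by
  cases e; cases e'; cases h; rfl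

lemma PreEff.bc_bc (e : PreEff g D p U) :
    (e.bc q p' hq U' b hb).bc q' p'' hq' U'' b' hb' =
      e.bc (q' ≫ q) p'' (comp_eq p q p' hq q' p'' hq') U'' (b' ≫ b) (hb'.paste_horiz hb) := by
  apply PreEff.ext'
  rw [PreEff.bc_ev, PreEff.bc_ev, PreEff.bc_ev, ← Category.assoc, Emap_comp]

end Comp

end Groth.Agent.H5.EtDesc
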