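import Mathlib
import Groth.Prelude.Def_DescFam
import Groth.Prelude.Def_SGA1
import Groth.Agent.Lib.Helper5.EtDesc.EtG
import Groth.Agent.Lib.Helper5.EtDesc.EtE
import Groth.Agent.Lib.Helper5.Lim.ModelOver
import Groth.Agent.Lib.Helper5.Lim.DescendProps
import Groth.Agent.Lib.Helper5.Lim.DescendIso
import Groth.Agent.Lib.Helper5.EtSrc.OfComp

/-!
# Effectivity of an étale descent datum over a limit descends to a stage (S5124)
-/

set_option autoImplicit false
set_option backward.isDefEq.respectTransparency false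
set_option backward.isDefEq.respectTransparency.types false

universe u

open CategoryTheory CategoryTheory.Limits AlgebraicGeometry MorphismProperty

namespace Groth.Agent.H5.EtDesc

variable {S S' : Scheme.{u}} (g : S' ⟶ S) (D : Desc.SchDDFam (fun _ : PUnit.{1} => g))

section QCQS

variable {T : Scheme.{u}} (p : T ⟶ S) (hg : SGA1.UnivSubmersive g) [QuasiCompact g]
  [QuasiCompact (D.obj PUnit.unit).hom] [QuasiSeparated (D.obj PUnit.unit).hom]

include hg in
lemma surjective_snd : Surjective (pullback.snd g p) := by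
  have h := hg (pullback.fst g p) p (pullback.snd g p) (IsPullback.of_hasPullback g p).flip
  exact ⟨h.surjective⟩

variable {g D p}

include hg in
lemma EffData.quasiCompact {U : Over T} (d : EffData g D p U) : QuasiCompact U.hom := by
  haveI := d.isIso
  have h1 : QuasiCompact (pullback.fst (pullback.snd g p) U.hom) := by
    rw [← d.toPreEff.theta_snd]
    infer_instance
  have hQ : (@Surjective ⊓ @QuasiCompact : MorphismProperty Scheme.{u}) (pullback.snd g p) :=
    ⟨surjective_snd g p hg, inferInstance⟩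
  exact MorphismProperty.of_pullback_fst_of_descendsAlong (P := @QuasiCompact)
    (Q := @Surjective ⊓ @QuasiCompact) hQ h1

include hg in
lemma EffData.quasiSeparated {U : Over T} (d : EffData g D p U) : QuasiSeparated U.hom := by
  haveI := d.isIso
  have h1 : QuasiSeparated (pullback.fst (pullback.snd g p) U.hom) := by
    rw [← d.toPreEff.theta_snd]
    infer_instance
  have hQ : (@Surjective ⊓ @QuasiCompact : MorphismProperty Scheme.{u}) (pullback.snd g p) :=
    ⟨surjective_snd g p hg, inferInstance⟩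
  exact MorphismProperty.of_pullback_fst_of_descendsAlong (P := @QuasiSeparated)
    (Q := @Surjective ⊓ @QuasiCompact) hQ h1

end QCQS

section Limit

variable {I : Type u} [SmallCategory I] [IsCofiltered I] (Dg : I ⥤ Scheme.{u}) (c : Cone Dg)
  (hc : IsLimit c) [∀ (i j : I) (a : i ⟶ j), IsAffineHom (Dg.map a)]
  [∀ i, CompactSpace (Dg.obj i)] [∀ i, QuasiSeparatedSpace (Dg.obj i)]
  (p : ∀ i, Dg.obj i ⟶ S) (hp : ∀ {i j : I} (a : i ⟶ j), Dg.map a ≫ p j = p i)
  (pc : c.pt ⟶ S) (hpc : ∀ i, c.π.app i ≫ p i = pc)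
  (Uc : Over c.pt) (dc : EffData g D pc Uc)

/-- Stage-`k` data approximating the effectivity data over the limit. -/
structure Stage (k : I) where
  U : Over (Dg.obj k)
  et : Etale U.hom
  qc : QuasiCompact U.hom
  qs : QuasiSeparated U.hom
  b : Uc.left ⟶ U.left
  hb : IsPullback b Uc.hom U.hom (c.π.app k)
  e : PreEff g D (p k) U
  compat : e.bc (c.π.app k) pc (hpc k) Uc b hb = dc.toPreEff

variable {g D Dg c p pc hpc Uc dc}

section StageBC

variable {k k' : I} (s : Stage g D Dg c p pc hpc Uc dc k) (φ : k' ⟶ k)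

/-- the base-changed scheme -/
noncomputable abbrev Stage.bcU : Over (Dg.obj k') := Over.mk (pullback.snd s.U.hom (Dg.map φ))

/-- the comparison map from the limit stage -/
noncomputable def Stage.bcb : Uc.left ⟶ (s.bcU φ).left :=
  pullback.lift s.b (Uc.hom ≫ c.π.app k') (by rw [s.hb.w, Category.assoc, c.w])

lemma Stage.bcb_fst : s.bcb φ ≫ pullback.fst s.U.hom (Dg.map φ) = s.b := pullback.lift_fst _ _ _

lemma Stage.bchb : IsPullback (s.bcb φ) Uc.hom (s.bcU φ).hom (c.π.app k') := by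
  refine IsPullback.of_right ?_ (pullback.lift_snd _ _ _) (IsPullback.of_hasPullback s.U.hom (Dg.map φ))
  rw [s.bcb_fst, c.w]
  exact s.hb

include hp in
/-- Base change of a stage. -/
noncomputable def Stage.bc : Stage g D Dg c p pc hpc Uc dc k' where
  U := s.bcU φ
  et := by
    haveI := s.et
    change Etale (pullback.snd s.U.hom (Dg.map φ)); infer_instance
  qc := by
    haveI := s.qc
    change QuasiCompact (pullback.snd s.U.hom (Dg.map φ)); infer_instance
  qs := by
    haveI := s.qs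
    change QuasiSeparated (pullback.snd s.U.hom (Dg.map φ)); infer_instance
  b := s.bcb φ
  hb := s.bchb φ
  e := s.e.bc (Dg.map φ) (p k') (hp φ) (s.bcU φ) (pullback.fst s.U.hom (Dg.map φ))
    (IsPullback.of_hasPullback s.U.hom (Dg.map φ))
  compat := by
    rw [PreEff.bc_bc]
    rw [← s.compat]
    apply PreEff.ext'
    rw [PreEff.bc_ev, PreEff.bc_ev]
    congr 1
    apply pullback.hom_ext
    · rw [Emap_fst, Emap_fst]
      congr 1
      apply pullback.hom_ext
      · rw [Smap_fst, Smap_fst]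
      · rw [Smap_snd, Smap_snd, c.w]
    · rw [Emap_snd, Emap_snd, s.bcb_fst]

end StageBC

section Exists

variable (hg : SGA1.UnivSubmersive g) [QuasiCompact g] [QuasiSeparated g]
  [Etale (D.obj PUnit.unit).hom]
  [QuasiCompact (D.obj PUnit.unit).hom] [QuasiSeparated (D.obj PUnit.unit).hom]

include hc hg hp in
/-- There is a stage with an approximating morphism of descent data. -/
theorem exists_stage (hUc : Etale Uc.hom) :
    ∃ k, Nonempty (Stage g D Dg c p pc hpc Uc dc k) := by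
  haveI := hUc
  haveI : QuasiCompact Uc.hom := dc.quasiCompact hg
  haveI : QuasiSeparated Uc.hom := dc.quasiSeparated hg
  obtain ⟨i₀⟩ := IsCofiltered.nonempty (C := I)
  obtain ⟨j, -, Xj, fj, gU, hEt, hlfp, hqc, hqs, hpb⟩ := Lim.exists_model_over Dg c hc i₀
    Lim.affineSystemDescent_etale (fun g h1 h2 h3 => ⟨h1, h2, h3⟩) Uc.hom hUc
  let Uj : Over (Dg.obj j) := Over.mk fj
  have hpb' : IsPullback gU Uc.hom Uj.hom (c.π.app j) := hpb
  haveI : QuasiCompact Uj.hom := hqc
  haveI : QuasiSeparated Uj.hom := hqs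
  have hE := isPullback_Emap_base g (p j) (c.π.app j) pc (hpc j) Uj Uc gU hpb'
  obtain ⟨k, φ, hk⟩ := exists_hom_of_isPullback Dg c hc j
    (pullback.snd (pullback.snd g (p j)) Uj.hom ≫ Uj.hom) (D.obj PUnit.unit).hom
    (pullback.fst (pullback.snd g (p j)) Uj.hom ≫ pullback.fst g (p j))
    (Emap g (p j) (c.π.app j) pc (hpc j) Uj Uc gU hpb') (pullback.snd _ _ ≫ Uc.hom) hE dc.ev
    (by rw [dc.ev_hom, Emap_fst_assoc, Smap_fst])
  let Uk : Over (Dg.obj k) := Over.mk (pullback.snd Uj.hom (Dg.map φ))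
  let bk : Uc.left ⟶ Uk.left := pullback.lift gU (Uc.hom ≫ c.π.app k)
    (by rw [hpb'.w, Category.assoc, c.w])
  have hbk1 : bk ≫ pullback.fst Uj.hom (Dg.map φ) = gU := pullback.lift_fst _ _ _
  have hkj : IsPullback (pullback.fst Uj.hom (Dg.map φ)) Uk.hom Uj.hom (Dg.map φ) :=
    IsPullback.of_hasPullback Uj.hom (Dg.map φ)
  have hbk : IsPullback bk Uc.hom Uk.hom (c.π.app k) := by
    refine IsPullback.of_right ?_ (pullback.lift_snd _ _ _) hkj
    rw [hbk1, c.w]
    exact hpb'
  obtain ⟨ak, hak1, hak2⟩ := hk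
    (Emap g (p j) (Dg.map φ) (p k) (hp φ) Uj Uk (pullback.fst Uj.hom (Dg.map φ)) hkj)
    (pullback.snd _ _ ≫ Uk.hom)
    (isPullback_Emap_base g (p j) (Dg.map φ) (p k) (hp φ) Uj Uk _ hkj)
    (Emap g (p k) (c.π.app k) pc (hpc k) Uk Uc bk hbk)
    (Emap_comp' g (p j) (Dg.map φ) (p k) (hp φ) (c.π.app k) pc (hpc k) Uj Uk Uc _ hkj bk hbk
      (c.π.app j) (hpc j) gU hpb' (c.w φ) hbk1)
    (isPullback_Emap_base g (p k) (c.π.app k) pc (hpc k) Uk Uc bk hbk).w
  have hev : ak ≫ (D.obj PUnit.unit).hom =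
      pullback.fst (pullback.snd g (p k)) Uk.hom ≫ pullback.fst g (p k) := by
    rw [hak1, Emap_fst_assoc, Smap_fst]
  have h1 : Etale Uk.hom := by
    change Etale (pullback.snd fj (Dg.map φ)); infer_instance
  have h2 : QuasiCompact Uk.hom := by
    change QuasiCompact (pullback.snd fj (Dg.map φ)); infer_instance
  have h3 : QuasiSeparated Uk.hom := by
    change QuasiSeparated (pullback.snd fj (Dg.map φ)); infer_instance
  exact ⟨k, ⟨⟨Uk, h1, h2, h3, bk, hbk, ⟨ak, hev⟩, PreEff.ext' hak2⟩⟩⟩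

end Exists

section Descend

variable [QuasiCompact g] [QuasiSeparated g] [Etale (D.obj PUnit.unit).hom]
  [QuasiCompact (D.obj PUnit.unit).hom] [QuasiSeparated (D.obj PUnit.unit).hom]
  {k : I} (s : Stage g D Dg c p pc hpc Uc dc k)

include hc in
/-- The cocycle compatibility holds at a later stage. -/
theorem Stage.exists_comm : ∃ (k' : I) (φ : k' ⟶ k), (s.bc hp φ).e.CommProp := by
  haveI := s.qc
  have hR := isPullback_Rmap g (p k) (c.π.app k) pc (hpc k) s.U Uc s.b s.hb
  have hab : Rmap g (p k) (c.π.app k) pc (hpc k) s.U Uc s.b s.hb ≫ s.e.lhs =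
      Rmap g (p k) (c.π.app k) pc (hpc k) s.U Uc s.b s.hb ≫ s.e.rhs := by
    rw [PreEff.bc_lhs, PreEff.bc_rhs, s.compat]
    exact (PreEff.commProp_iff _).mp dc.comm
  obtain ⟨k', ψ, h⟩ := exists_eq_of_isPullback Dg c hc k
    (pullback.snd _ _ ≫ pullback.snd g (p k)) (D.obj PUnit.unit).hom
    (Rs₁ g (p k) s.U ≫ pullback.fst g (p k))
    (Rmap g (p k) (c.π.app k) pc (hpc k) s.U Uc s.b s.hb)
    (pullback.snd _ _ ≫ pullback.snd g pc) hR s.e.lhs s.e.rhs s.e.lhs_hom s.e.rhs_hom hab
  refine ⟨k', ψ, ?_⟩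
  rw [PreEff.commProp_iff]
  change (s.e.bc (Dg.map ψ) (p k') (hp ψ) (s.bcU ψ) (pullback.fst s.U.hom (Dg.map ψ))
    (IsPullback.of_hasPullback s.U.hom (Dg.map ψ))).lhs = (s.e.bc (Dg.map ψ) (p k') (hp ψ) (s.bcU ψ)
      (pullback.fst s.U.hom (Dg.map ψ)) (IsPullback.of_hasPullback s.U.hom (Dg.map ψ))).rhs
  rw [← PreEff.bc_lhs, ← PreEff.bc_rhs]
  exact h _ (pullback.snd _ _ ≫ pullback.snd g (p k'))
    (isPullback_Rmap g (p k) (Dg.map ψ) (p k') (hp ψ) s.U (s.bcU ψ) _
      (IsPullback.of_hasPullback s.U.hom (Dg.map ψ)))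

include hc in
/-- The comparison morphism is an isomorphism at a later stage. -/
theorem Stage.exists_isIso : ∃ (k' : I) (φ : k' ⟶ k), IsIso (s.bc hp φ).e.theta := by
  haveI := s.et
  haveI := s.qc
  haveI := s.qs
  have hsnd : s.e.theta ≫ pullback.snd (D.obj PUnit.unit).hom (pullback.fst g (p k)) =
      pullback.fst (pullback.snd g (p k)) s.U.hom := s.e.theta_snd
  have hΦ : (@LocallyOfFinitePresentation ⊓ (@QuasiCompact ⊓ @QuasiSeparated) :
      MorphismProperty Scheme.{u}) s.e.theta := by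
    refine ⟨?_, ?_, ?_⟩
    · refine EtSrc.locallyOfFinitePresentation_of_comp s.e.theta
        (pullback.snd (D.obj PUnit.unit).hom (pullback.fst g (p k))) ?_ inferInstance
      rw [hsnd]; infer_instance
    · haveI : QuasiCompact (s.e.theta ≫
          pullback.snd (D.obj PUnit.unit).hom (pullback.fst g (p k))) := by
        rw [hsnd]; infer_instance
      exact QuasiCompact.of_comp s.e.theta
        (pullback.snd (D.obj PUnit.unit).hom (pullback.fst g (p k)))
    · haveI : QuasiSeparated (s.e.theta ≫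
          pullback.snd (D.obj PUnit.unit).hom (pullback.fst g (p k))) := by
        rw [hsnd]; infer_instance
      exact QuasiSeparated.of_comp s.e.theta
        (pullback.snd (D.obj PUnit.unit).hom (pullback.fst g (p k)))
  haveI : CompactSpace ↥(pullback (D.obj PUnit.unit).hom (pullback.fst g (p k))) :=
    QuasiCompact.compactSpace_of_compactSpace
      (pullback.snd (D.obj PUnit.unit).hom (pullback.fst g (p k)) ≫ pullback.snd g (p k))
  have hiso : (isomorphisms Scheme.{u}) dc.theta := dc.isIso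
  have h1 : IsPullback (Emap g (p k) (c.π.app k) pc (hpc k) s.U Uc s.b s.hb) dc.theta s.e.theta
      (Fmap g D (p k) (c.π.app k) pc (hpc k)) := by
    have := s.e.bc_theta_isPullback (c.π.app k) pc (hpc k) Uc s.b s.hb
    rw [s.compat] at this
    exact this
  have h2 : IsPullback (Fmap g D (p k) (c.π.app k) pc (hpc k))
      (pullback.snd (D.obj PUnit.unit).hom (pullback.fst g pc) ≫ pullback.snd g pc)
      (pullback.snd (D.obj PUnit.unit).hom (pullback.fst g (p k)) ≫ pullback.snd g (p k))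
      (c.π.app k) :=
    (isPullback_Fmap g D (p k) (c.π.app k) pc (hpc k)).paste_vert
      (isPullback_Smap g (p k) (c.π.app k) pc (hpc k))
  obtain ⟨k', φ, h⟩ := exists_prop_of_isPullback Dg c hc Lim.affineSystemDescent_isomorphisms k
    s.e.theta
    (pullback.snd (D.obj PUnit.unit).hom (pullback.fst g (p k)) ≫ pullback.snd g (p k)) hΦ
    dc.theta _ _ _ h1 h2 hiso
  refine ⟨k', φ, ?_⟩
  exact h (s.bc hp φ).e.theta _ _
    (pullback.snd (D.obj PUnit.unit).hom (pullback.fst g (p k')) ≫ pullback.snd g (p k'))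
    (s.e.bc_theta_isPullback (Dg.map φ) (p k') (hp φ) (s.bcU φ) (pullback.fst s.U.hom (Dg.map φ))
      (IsPullback.of_hasPullback s.U.hom (Dg.map φ)))
    ((isPullback_Fmap g D (p k) (Dg.map φ) (p k') (hp φ)).paste_vert
      (isPullback_Smap g (p k) (Dg.map φ) (p k') (hp φ)))

end Descend

section Main

variable (hg : SGA1.UnivSubmersive g) [QuasiCompact g] [QuasiSeparated g]
  [Etale (D.obj PUnit.unit).hom]
  [QuasiCompact (D.obj PUnit.unit).hom] [QuasiSeparated (D.obj PUnit.unit).hom]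

include hc hp hpc hg in
/-- **Effectivity over a limit descends to a stage.** -/
theorem eff_descend (h : Eff g D pc) : ∃ i, Eff g D (p i) := by
  rw [eff_iff] at h
  obtain ⟨Uc, hUc, ⟨dc⟩⟩ := h
  obtain ⟨k, ⟨s⟩⟩ := exists_stage (hpc := hpc) (dc := dc) hc hp hg hUc
  obtain ⟨k₁, φ₁, hcomm⟩ := s.exists_comm hc hp
  obtain ⟨k₂, φ₂, hiso⟩ := (s.bc hp φ₁).exists_isIso hc hp
  have hcomm₂ : ((s.bc hp φ₁).bc hp φ₂).e.CommProp :=
    (s.bc hp φ₁).e.bc_comm _ _ _ _ _ _ hcomm
  refine ⟨k₂, ?_⟩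
  rw [eff_iff]
  exact ⟨((s.bc hp φ₁).bc hp φ₂).U, ((s.bc hp φ₁).bc hp φ₂).et,
    ⟨{ toPreEff := ((s.bc hp φ₁).bc hp φ₂).e, isIso := hiso, comm := hcomm₂ }⟩⟩

end Main

end Limit

end Groth.Agent.H5.EtDesc
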