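import Mathlib
import Groth.Prelude.Def_DescFam
import Groth.Prelude.Def_SGA1
import Groth.Agent.Lib.Helper5.EtDesc.EtH
import Groth.Agent.Lib.Helper5.PropNhd.PnB

/-!
# Effectivity near a point iff effectivity over the local ring (S5124)
-/

set_option autoImplicit false
set_option backward.isDefEq.respectTransparency false
set_option backward.isDefEq.respectTransparency.types false

universe u

open CategoryTheory CategoryTheory.Limits AlgebraicGeometry MorphismProperty
open Groth.Agent.H5.NApprox Groth.Agent.H5.PropNhd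

namespace Groth.Agent.H5.EtDesc

variable {S S' : Scheme.{u}} (g : S' ⟶ S) (D : Desc.SchDDFam (fun _ : PUnit.{1} => g))

section

variable (hg : SGA1.UnivSubmersive g) [QuasiCompact g] [QuasiSeparated g]
  [Etale (D.obj PUnit.unit).hom]
  [QuasiCompact (D.obj PUnit.unit).hom] [QuasiSeparated (D.obj PUnit.unit).hom]

include hg in
/-- Effectivity over the local ring at a point of an affine open spreads out. -/
theorem eff_nhd_of_stalk_affine (U : S.Opens) (hU : IsAffineOpen U) (x : U.toScheme)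
    (h : Eff g D (S.fromSpecStalk (U.ι x))) :
    ∃ W : S.Opens, U.ι x ∈ W ∧ Eff g D W.ι := by
  classical
  haveI : IsAffine U.toScheme := hU
  let b : U.toScheme ⟶ S := U.ι
  let Dg : BI x ⥤ Scheme.{u} := stD x b ⋙ Over.forget S
  let c : Cone Dg := (Over.forget S).mapCone (stCone x b)
  have hc : IsLimit c := stIsLimitForget x b
  haveI : ∀ (i j : BI x) (φ : i ⟶ j), IsAffineHom (Dg.map φ) := fun i j φ =>
    stD_isAffineHom x b φ
  haveI : ∀ i : BI x, IsAffine (Dg.obj i) := fun i => stD_isAffine x b i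
  let t : ∀ a : BI x, Dg.obj a ⟶ S := fun a => ((stD x b).obj a).hom
  have ht : ∀ {a a' : BI x} (φ : a ⟶ a'), Dg.map φ ≫ t a' = t a := fun φ =>
    CategoryTheory.Over.w ((stD x b).map φ)
  let tl : c.pt ⟶ S := U.toScheme.fromSpecStalk x ≫ b
  have htl : ∀ a, c.π.app a ≫ t a = tl := fun a =>
    CategoryTheory.Over.w ((stCone x b).π.app a)
  have hl : Eff g D tl :=
    Eff.bc (Spec.map (U.ι.stalkMap x)) tl (Scheme.SpecMap_stalkMap_fromSpecStalk U.ι) h
  obtain ⟨i, hi⟩ := eff_descend (Dg := Dg) (c := c) (p := t) (pc := tl) (hpc := htl) hc ht hg hl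
  haveI : IsOpenImmersion (t i) := by
    show IsOpenImmersion ((U.toScheme.basicOpen i.f).ι ≫ U.ι)
    infer_instance
  refine ⟨(t i).opensRange, ⟨⟨x, i.mem⟩, rfl⟩, ?_⟩
  exact Eff.bc (t i).isoOpensRange.inv _ (Scheme.Hom.isoOpensRange_inv_comp (t i)) hi

include hg in
/-- **S5124.** -/
theorem eff_nhd_iff_stalk (a : S) :
    (∃ W : S.Opens, a ∈ W ∧ Eff g D W.ι) ↔ Eff g D (S.fromSpecStalk a) := by
  constructor
  · rintro ⟨W, ha, h⟩
    exact Eff.bc (W.fromSpecStalkOfMem a ha) _ (Scheme.Opens.fromSpecStalkOfMem_ι W a ha) h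
  · intro h
    obtain ⟨U, hU, haU, -⟩ := exists_isAffineOpen_mem_and_subset (x := a) (U := ⊤) trivial
    exact eff_nhd_of_stalk_affine g D hg U hU ⟨a, haU⟩ h

end

end Groth.Agent.H5.EtDesc
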