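import Mathlib
import Groth.Prelude.Def_DescFam
import Groth.Agent.Lib.Helper5.EtDesc.EtD

/-!
# Effectivity of a descent datum itself versus effectivity of its pullback along the identity (S5123)
-/

set_option autoImplicit false
set_option backward.isDefEq.respectTransparency false
set_option backward.isDefEq.respectTransparency.types false

universe u

open CategoryTheory CategoryTheory.Limits AlgebraicGeometry MorphismProperty

namespace Groth.Agent.H5.EtDesc

variable {S S' : Scheme.{u}} (g : S' ⟶ S) (D : Desc.SchDDFam (fun _ : PUnit.{1} => g))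

/-- An isomorphism of descent data from an isomorphism of the underlying schemes compatible with the
gluing bijections in one direction. -/
noncomputable def isoDD_of {A B : Desc.SchDDFam (fun _ : PUnit.{1} => g)}
    (θ : A.obj PUnit.unit ≅ B.obj PUnit.unit)
    (comm : ∀ ⦃T₀ : Scheme.{u}⦄ (x₀ x₁ : T₀ ⟶ S') (h : x₀ ≫ g = x₁ ≫ g)
      (v : Desc.Lifts (A.obj PUnit.unit) x₀) (w : Desc.Lifts (B.obj PUnit.unit) x₀),
      w.1 = v.1 ≫ θ.hom.left →
      (B.φ (i := PUnit.unit) (j := PUnit.unit) x₀ x₁ h w).1 =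
        (A.φ (i := PUnit.unit) (j := PUnit.unit) x₀ x₁ h v).1 ≫ θ.hom.left) : A ≅ B where
  hom :=
    { hom := fun _ => θ.hom
      comm := by
        rintro T₀ ⟨⟩ ⟨⟩ x₀ x₁ h v w hw
        exact comm x₀ x₁ h v w hw }
  inv :=
    { hom := fun _ => θ.inv
      comm := by
        rintro T₀ ⟨⟩ ⟨⟩ x₀ x₁ h v w hw
        have hw' : w.1 = v.1 ≫ θ.inv.left := hw
        have e : θ.inv.left ≫ θ.hom.left = 𝟙 _ := by
          rw [← Over.comp_left, θ.inv_hom_id]; rfl
        have e' : θ.hom.left ≫ θ.inv.left = 𝟙 _ := by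
          rw [← Over.comp_left, θ.hom_inv_id]; rfl
        have := comm x₀ x₁ h w v (by rw [hw', Category.assoc, e, Category.comp_id])
        change _ = _ ≫ θ.inv.left
        rw [this, Category.assoc, e', Category.comp_id] }
  hom_inv_id := by
    ext ⟨⟩
    exact congrArg Over.Hom.left θ.hom_inv_id
  inv_hom_id := by
    ext ⟨⟩
    exact congrArg Over.Hom.left θ.inv_hom_id

/-- Effectivity of `D` itself. -/
def Eff₀ : Prop :=
  ∃ U : Over S, Etale U.hom ∧ Nonempty ((Desc.toDDFam (fun _ : PUnit.{1} => g)).obj U ≅ D)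

section IdBase

/-- the identification `S' ×_S S ≅ S'` -/
noncomputable abbrev epsHom : pullback g (𝟙 S) ⟶ S' := pullback.fst g (𝟙 S)

/-- its inverse -/
noncomputable def epsInv : S' ⟶ pullback g (𝟙 S) :=
  pullback.lift (𝟙 S') g (by rw [Category.id_comp, Category.comp_id])

@[reassoc (attr := simp)]
lemma epsInv_hom : epsInv g ≫ pullback.fst g (𝟙 S) = 𝟙 S' := pullback.lift_fst _ _ _

@[reassoc (attr := simp)]
lemma epsInv_snd : epsInv g ≫ pullback.snd g (𝟙 S) = g := pullback.lift_snd _ _ _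

@[reassoc (attr := simp)]
lemma epsHom_inv : pullback.fst g (𝟙 S) ≫ epsInv g = 𝟙 _ := by
  apply pullback.hom_ext
  · rw [Category.assoc, epsInv_hom, Category.comp_id, Category.id_comp]
  · rw [Category.assoc, epsInv_snd, Category.id_comp, pullback.condition, Category.comp_id]

instance : IsIso (pullback.fst g (𝟙 S)) := ⟨epsInv g, epsHom_inv g, epsInv_hom g⟩

variable (U : Over S)

/-- `(S' ×_S S) ×_S U ⟶ S' ×_S U` -/
noncomputable def kap : pullback (pullback.snd g (𝟙 S)) U.hom ⟶ pullback g U.hom :=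
  pullback.lift (pullback.fst _ _ ≫ pullback.fst g (𝟙 S)) (pullback.snd _ _)
    (by rw [Category.assoc, pullback.condition, Category.comp_id, pullback.condition])

/-- `S' ×_S U ⟶ (S' ×_S S) ×_S U` -/
noncomputable def kapInv : pullback g U.hom ⟶ pullback (pullback.snd g (𝟙 S)) U.hom :=
  pullback.lift (pullback.fst _ _ ≫ epsInv g) (pullback.snd _ _)
    (by rw [Category.assoc, epsInv_snd, pullback.condition])

@[reassoc (attr := simp)]
lemma kap_fst : kap g U ≫ pullback.fst g U.hom = pullback.fst _ _ ≫ pullback.fst g (𝟙 S) :=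
  pullback.lift_fst _ _ _

@[reassoc (attr := simp)]
lemma kap_snd : kap g U ≫ pullback.snd g U.hom = pullback.snd _ _ := pullback.lift_snd _ _ _

@[reassoc (attr := simp)]
lemma kapInv_fst : kapInv g U ≫ pullback.fst (pullback.snd g (𝟙 S)) U.hom =
    pullback.fst _ _ ≫ epsInv g := pullback.lift_fst _ _ _

@[reassoc (attr := simp)]
lemma kapInv_snd : kapInv g U ≫ pullback.snd (pullback.snd g (𝟙 S)) U.hom = pullback.snd _ _ :=
  pullback.lift_snd _ _ _

@[reassoc (attr := simp)]
lemma kap_kapInv : kap g U ≫ kapInv g U = 𝟙 _ := by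
  apply pullback.hom_ext
  · rw [Category.assoc, kapInv_fst, kap_fst_assoc, epsHom_inv, Category.comp_id,
      Category.id_comp]
  · rw [Category.assoc, kapInv_snd, kap_snd, Category.id_comp]

@[reassoc (attr := simp)]
lemma kapInv_kap : kapInv g U ≫ kap g U = 𝟙 _ := by
  apply pullback.hom_ext
  · rw [Category.assoc, kap_fst, kapInv_fst_assoc, epsInv_hom, Category.comp_id,
      Category.id_comp]
  · rw [Category.assoc, kap_snd, kapInv_snd, Category.id_comp]

instance : IsIso (kap g U) := ⟨kapInv g U, kap_kapInv g U, kapInv_kap g U⟩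

instance : IsIso (kapInv g U) := ⟨kap g U, kapInv_kap g U, kap_kapInv g U⟩

lemma lift_kap {T₀ : Scheme.{u}} (s : T₀ ⟶ pullback g (𝟙 S)) (u : T₀ ⟶ U.left)
    (h : s ≫ pullback.snd g (𝟙 S) = u ≫ U.hom) :
    pullback.lift s u h ≫ kap g U = pullback.lift (s ≫ pullback.fst g (𝟙 S)) u
      (by rw [Category.assoc, pullback.condition, Category.comp_id, h]) := by
  apply pullback.hom_ext
  · rw [Category.assoc, kap_fst, pullback.lift_fst_assoc, pullback.lift_fst]
  · rw [Category.assoc, kap_snd, pullback.lift_snd, pullback.lift_snd]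

lemma lift_kapInv {T₀ : Scheme.{u}} (x : T₀ ⟶ S') (u : T₀ ⟶ U.left) (h : x ≫ g = u ≫ U.hom) :
    pullback.lift x u h ≫ kapInv g U = pullback.lift (x ≫ epsInv g) u
      (by rw [Category.assoc, epsInv_snd, h]) := by
  apply pullback.hom_ext
  · rw [Category.assoc, kapInv_fst, pullback.lift_fst_assoc, pullback.lift_fst]
  · rw [Category.assoc, kapInv_snd, pullback.lift_snd, pullback.lift_snd]

end IdBase

section OfEff₀

variable {g D} {U : Over S}
variable (Θ : (Desc.toDDFam (fun _ : PUnit.{1} => g)).obj U ≅ D)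

/-- the underlying morphism of schemes -/
noncomputable def theta₀Of : pullback g U.hom ⟶ (D.obj PUnit.unit).left :=
  (Θ.hom.hom PUnit.unit).left

lemma theta₀Of_hom : theta₀Of Θ ≫ (D.obj PUnit.unit).hom = pullback.fst g U.hom :=
  Over.w (Θ.hom.hom PUnit.unit)

instance : IsIso (theta₀Of Θ) := by
  refine ⟨(Θ.inv.hom PUnit.unit).left, ?_, ?_⟩
  · exact congrArg (fun a => (Desc.SchDDFam.Hom.hom a PUnit.unit).left) Θ.hom_inv_id
  · exact congrArg (fun a => (Desc.SchDDFam.Hom.hom a PUnit.unit).left) Θ.inv_hom_id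

lemma theta₀Of_comm {T₀ : Scheme.{u}} (x₀ x₁ : T₀ ⟶ S') (h : x₀ ≫ g = x₁ ≫ g)
    (v : T₀ ⟶ pullback g U.hom) (hv : v ≫ pullback.fst g U.hom = x₀) :
    tr g D x₀ x₁ h (v ≫ theta₀Of Θ) (by rw [Category.assoc, theta₀Of_hom, hv]) =
      pullback.lift x₁ (v ≫ pullback.snd g U.hom)
        (by rw [Category.assoc, ← pullback.condition, reassoc_of% hv, h]) ≫ theta₀Of Θ :=
  Θ.hom.comm (i := PUnit.unit) (j := PUnit.unit) x₀ x₁ h ⟨v, hv⟩
    ⟨v ≫ theta₀Of Θ, by rw [Category.assoc]; erw [theta₀Of_hom]; exact hv⟩ rfl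

/-- From effectivity of `D` to effectivity data over the identity. -/
noncomputable def EffData.ofIso₀ : EffData g D (𝟙 S) U where
  ev := kap g U ≫ theta₀Of Θ
  ev_hom := by rw [Category.assoc, theta₀Of_hom, kap_fst]
  isIso := by
    have e : (PreEff.mk (kap g U ≫ theta₀Of Θ)
        (by rw [Category.assoc, theta₀Of_hom, kap_fst]) : PreEff g D (𝟙 S) U).theta ≫
        pullback.fst (D.obj PUnit.unit).hom (pullback.fst g (𝟙 S)) = kap g U ≫ theta₀Of Θ :=
      PreEff.theta_fst _
    have h2 : IsIso ((PreEff.mk (kap g U ≫ theta₀Of Θ)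
        (by rw [Category.assoc, theta₀Of_hom, kap_fst]) : PreEff g D (𝟙 S) U).theta ≫
        pullback.fst (D.obj PUnit.unit).hom (pullback.fst g (𝟙 S))) := by
      rw [e]; infer_instance
    exact IsIso.of_isIso_comp_right _
      (pullback.fst (D.obj PUnit.unit).hom (pullback.fst g (𝟙 S)))
  comm := by
    intro T₀ s₀ s₁ u h₀ h₁
    have key := theta₀Of_comm Θ (s₀ ≫ pullback.fst g (𝟙 S)) (s₁ ≫ pullback.fst g (𝟙 S))
      (base_eq g (𝟙 S) s₀ s₁ u h₀ h₁) (pullback.lift s₀ u h₀ ≫ kap g U)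
      (by rw [Category.assoc, kap_fst, pullback.lift_fst_assoc])
    have e2 : pullback.lift s₁ u h₁ ≫ kap g U ≫ theta₀Of Θ =
        (pullback.lift s₁ u h₁ ≫ kap g U) ≫ theta₀Of Θ := (Category.assoc _ _ _).symm
    refine (tr_congr g D _ _ rfl rfl (Category.assoc _ _ _).symm).trans
      (key.trans (Eq.trans ?_ e2.symm))
    congr 1
    refine Eq.trans ?_ (lift_kap g U s₁ u h₁).symm
    apply pullback.hom_ext
    · rw [pullback.lift_fst, pullback.lift_fst]
    · rw [pullback.lift_snd, pullback.lift_snd, Category.assoc, kap_snd, pullback.lift_snd]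

end OfEff₀

section ToEff₀

variable {g D} {U : Over S} (d : EffData g D (𝟙 S) U)

/-- the comparison morphism `S' ×_S U ⟶ X'` -/
noncomputable def EffData.theta₀ : pullback g U.hom ⟶ (D.obj PUnit.unit).left :=
  kapInv g U ≫ d.ev

lemma EffData.theta₀_hom : d.theta₀ ≫ (D.obj PUnit.unit).hom = pullback.fst g U.hom := by
  rw [EffData.theta₀, Category.assoc, d.ev_hom, kapInv_fst_assoc, epsInv_hom,
    Category.comp_id]

instance : IsIso d.theta₀ := by
  haveI := d.isIso
  have e : d.ev = d.toPreEff.theta ≫ pullback.fst (D.obj PUnit.unit).hom (pullback.fst g (𝟙 S)) :=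
    (PreEff.theta_fst _).symm
  rw [EffData.theta₀, e]
  infer_instance

/-- the isomorphism of descent data -/
noncomputable def EffData.isoDD₀ : (Desc.toDDFam (fun _ : PUnit.{1} => g)).obj U ≅ D :=
  isoDD_of g (Over.isoMk (asIso d.theta₀) d.theta₀_hom) (by
    intro T₀ x₀ x₁ h v w hw
    have hw' : w.1 = v.1 ≫ d.theta₀ := hw
    have hv : v.1 ≫ pullback.fst g U.hom = x₀ := v.2
    change tr g D x₀ x₁ h w.1 w.2 = pullback.lift x₁ (v.1 ≫ pullback.snd g U.hom) _ ≫ d.theta₀
    have h₀ : (x₀ ≫ epsInv g) ≫ pullback.snd g (𝟙 S) = (v.1 ≫ pullback.snd g U.hom) ≫ U.hom := by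
      rw [Category.assoc, epsInv_snd, Category.assoc, ← pullback.condition, reassoc_of% hv]
    have h₁ : (x₁ ≫ epsInv g) ≫ pullback.snd g (𝟙 S) = (v.1 ≫ pullback.snd g U.hom) ≫ U.hom := by
      rw [Category.assoc, epsInv_snd, ← h, Category.assoc, ← pullback.condition, reassoc_of% hv]
    have key := d.comm (x₀ ≫ epsInv g) (x₁ ≫ epsInv g) (v.1 ≫ pullback.snd g U.hom) h₀ h₁
    have e1 : pullback.lift x₁ (v.1 ≫ pullback.snd g U.hom)
        (by rw [← h, Category.assoc, ← pullback.condition, reassoc_of% hv]) ≫ d.theta₀ =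
        pullback.lift (x₁ ≫ epsInv g) (v.1 ≫ pullback.snd g U.hom) h₁ ≫ d.ev := by
      rw [EffData.theta₀, ← Category.assoc, lift_kapInv]
    refine (tr_congr g D _ _ ?_ ?_ ?_).trans (key.trans e1.symm)
    · rw [Category.assoc, epsInv_hom, Category.comp_id]
    · rw [Category.assoc, epsInv_hom, Category.comp_id]
    · rw [hw', EffData.theta₀, ← Category.assoc]
      congr 1
      apply pullback.hom_ext
      · rw [Category.assoc, kapInv_fst, reassoc_of% hv, pullback.lift_fst]
      · rw [Category.assoc, kapInv_snd, pullback.lift_snd])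

end ToEff₀

variable {g D} in
/-- Effectivity of `D` is effectivity of its pullback along the identity. -/
theorem eff₀_iff : Eff₀ g D ↔ Eff g D (𝟙 S) := by
  rw [eff_iff]
  constructor
  · rintro ⟨U, hU, ⟨Θ⟩⟩
    exact ⟨U, hU, ⟨EffData.ofIso₀ Θ⟩⟩
  · rintro ⟨U, hU, ⟨d⟩⟩
    exact ⟨U, hU, ⟨d.isoDD₀⟩⟩

variable {g D} in
/-- Effectivity of `D` implies effectivity of every pullback. -/
theorem Eff₀.eff (h : Eff₀ g D) {T : Scheme.{u}} (p : T ⟶ S) : Eff g D p :=
  Eff.bc p p (Category.comp_id p) (eff₀_iff.mp h)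

end Groth.Agent.H5.EtDesc
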