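import Mathlib
import Groth.Prelude.Def_DescFam
import Groth.Prelude.Def_SGA1
import Groth.Agent.Lib.Helper5.EtDesc.EtG
import Groth.Agent.Lib.Helper1.Subtr8
import Groth.Agent.S3709

/-!
# Uniqueness of the scheme realising an étale descent datum (S5123)
-/

set_option autoImplicit false
set_option backward.isDefEq.respectTransparency false
set_option backward.isDefEq.respectTransparency.types false

universe u

open CategoryTheory CategoryTheory.Limits AlgebraicGeometry MorphismProperty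

namespace Groth.Agent.H5.EtDesc

variable {S S' : Scheme.{u}} {g : S' ⟶ S} {D : Desc.SchDDFam (fun _ : PUnit.{1} => g)}
variable {T : Scheme.{u}} {p : T ⟶ S}

section Points

variable {U : Over T} (d : EffData g D p U)

/-- value of the effectivity data on a point -/
noncomputable def EffData.pt {T₀ : Scheme.{u}} (s : T₀ ⟶ pullback g p) (u : T₀ ⟶ U.left)
    (h : s ≫ pullback.snd g p = u ≫ U.hom) : T₀ ⟶ (D.obj PUnit.unit).left :=
  pullback.lift s u h ≫ d.ev

lemma EffData.pt_hom {T₀ : Scheme.{u}} (s : T₀ ⟶ pullback g p) (u : T₀ ⟶ U.left)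
    (h : s ≫ pullback.snd g p = u ≫ U.hom) :
    d.pt s u h ≫ (D.obj PUnit.unit).hom = s ≫ pullback.fst g p := by
  rw [EffData.pt, Category.assoc, d.ev_hom, pullback.lift_fst_assoc]

lemma EffData.pt_comm {T₀ : Scheme.{u}} (s₀ s₁ : T₀ ⟶ pullback g p) (u : T₀ ⟶ U.left)
    (h₀ : s₀ ≫ pullback.snd g p = u ≫ U.hom) (h₁ : s₁ ≫ pullback.snd g p = u ≫ U.hom) :
    tr g D (s₀ ≫ pullback.fst g p) (s₁ ≫ pullback.fst g p) (base_eq g p s₀ s₁ u h₀ h₁)
      (d.pt s₀ u h₀) (d.pt_hom s₀ u h₀) = d.pt s₁ u h₁ :=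
  d.comm s₀ s₁ u h₀ h₁

lemma EffData.pt_natural {T₀ T₁ : Scheme.{u}} (r : T₁ ⟶ T₀) (s : T₀ ⟶ pullback g p)
    (u : T₀ ⟶ U.left) (h : s ≫ pullback.snd g p = u ≫ U.hom) :
    r ≫ d.pt s u h = d.pt (r ≫ s) (r ≫ u) (by rw [Category.assoc, h, Category.assoc]) := by
  rw [EffData.pt, EffData.pt, ← Category.assoc]
  congr 1
  apply pullback.hom_ext
  · rw [Category.assoc, pullback.lift_fst, pullback.lift_fst]
  · rw [Category.assoc, pullback.lift_snd, pullback.lift_snd]

lemma EffData.lift_theta {T₀ : Scheme.{u}} (s : T₀ ⟶ pullback g p) (u : T₀ ⟶ U.left)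
    (h : s ≫ pullback.snd g p = u ≫ U.hom) :
    pullback.lift s u h ≫ d.theta = pullback.lift (d.pt s u h) s (d.pt_hom s u h) := by
  apply pullback.hom_ext
  · rw [Category.assoc, d.theta_fst, pullback.lift_fst, EffData.pt]
  · rw [Category.assoc, d.theta_snd, pullback.lift_fst, pullback.lift_snd]

lemma EffData.pt_injective {T₀ : Scheme.{u}} (s : T₀ ⟶ pullback g p) (u u' : T₀ ⟶ U.left)
    (h : s ≫ pullback.snd g p = u ≫ U.hom) (h' : s ≫ pullback.snd g p = u' ≫ U.hom)
    (e : d.pt s u h = d.pt s u' h') : u = u' := by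
  have e1 : pullback.lift s u h ≫ d.theta = pullback.lift s u' h' ≫ d.theta := by
    rw [d.lift_theta, d.lift_theta]
    congr 1
  have e2 : pullback.lift s u h = pullback.lift s u' h' := (cancel_mono d.theta).mp e1
  have := congrArg (· ≫ pullback.snd (pullback.snd g p) U.hom) e2
  simpa only [pullback.lift_snd] using this

/-- the point of `U` determined by a point of `X'` -/
noncomputable def EffData.unpt {T₀ : Scheme.{u}} (s : T₀ ⟶ pullback g p)
    (x : T₀ ⟶ (D.obj PUnit.unit).left) (hx : x ≫ (D.obj PUnit.unit).hom = s ≫ pullback.fst g p) :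
    T₀ ⟶ U.left :=
  pullback.lift x s hx ≫ inv d.theta ≫ pullback.snd (pullback.snd g p) U.hom

lemma EffData.inv_theta_fst : inv d.theta ≫ pullback.fst (pullback.snd g p) U.hom =
    pullback.snd (D.obj PUnit.unit).hom (pullback.fst g p) := by
  rw [IsIso.inv_comp_eq, d.theta_snd]

lemma EffData.unpt_hom {T₀ : Scheme.{u}} (s : T₀ ⟶ pullback g p)
    (x : T₀ ⟶ (D.obj PUnit.unit).left) (hx : x ≫ (D.obj PUnit.unit).hom = s ≫ pullback.fst g p) :
    s ≫ pullback.snd g p = d.unpt s x hx ≫ U.hom := by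
  rw [EffData.unpt, Category.assoc, Category.assoc, ← pullback.condition,
    reassoc_of% d.inv_theta_fst, pullback.lift_snd_assoc]

lemma EffData.lift_unpt {T₀ : Scheme.{u}} (s : T₀ ⟶ pullback g p)
    (x : T₀ ⟶ (D.obj PUnit.unit).left) (hx : x ≫ (D.obj PUnit.unit).hom = s ≫ pullback.fst g p) :
    pullback.lift s (d.unpt s x hx) (d.unpt_hom s x hx) = pullback.lift x s hx ≫ inv d.theta := by
  apply pullback.hom_ext
  · rw [pullback.lift_fst, Category.assoc, d.inv_theta_fst, pullback.lift_snd]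
  · rw [pullback.lift_snd, EffData.unpt, Category.assoc]

lemma EffData.pt_unpt {T₀ : Scheme.{u}} (s : T₀ ⟶ pullback g p)
    (x : T₀ ⟶ (D.obj PUnit.unit).left) (hx : x ≫ (D.obj PUnit.unit).hom = s ≫ pullback.fst g p) :
    d.pt s (d.unpt s x hx) (d.unpt_hom s x hx) = x := by
  rw [EffData.pt, d.lift_unpt, ← d.theta_fst, Category.assoc, IsIso.inv_hom_id_assoc,
    pullback.lift_fst]

lemma EffData.unpt_pt {T₀ : Scheme.{u}} (s : T₀ ⟶ pullback g p) (u : T₀ ⟶ U.left)
    (h : s ≫ pullback.snd g p = u ≫ U.hom) :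
    d.unpt s (d.pt s u h) (d.pt_hom s u h) = u :=
  d.pt_injective s _ _ (d.unpt_hom s _ _) h (d.pt_unpt s _ _)

lemma EffData.unpt_natural {T₀ T₁ : Scheme.{u}} (r : T₁ ⟶ T₀) (s : T₀ ⟶ pullback g p)
    (x : T₀ ⟶ (D.obj PUnit.unit).left) (hx : x ≫ (D.obj PUnit.unit).hom = s ≫ pullback.fst g p) :
    r ≫ d.unpt s x hx = d.unpt (r ≫ s) (r ≫ x) (by rw [Category.assoc, hx, Category.assoc]) := by
  rw [EffData.unpt, EffData.unpt, ← Category.assoc]
  congr 1
  apply pullback.hom_ext
  · rw [Category.assoc, pullback.lift_fst, pullback.lift_fst]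
  · rw [Category.assoc, pullback.lift_snd, pullback.lift_snd]

lemma EffData.unpt_congr {T₀ : Scheme.{u}} {s s' : T₀ ⟶ pullback g p}
    {x x' : T₀ ⟶ (D.obj PUnit.unit).left}
    (hx : x ≫ (D.obj PUnit.unit).hom = s ≫ pullback.fst g p) (es : s = s') (ex : x = x') :
    d.unpt s x hx = d.unpt s' x' (by rw [← es, ← ex]; exact hx) := by
  subst es ex; rfl

lemma EffData.pt_congr {T₀ : Scheme.{u}} {s s' : T₀ ⟶ pullback g p} {u u' : T₀ ⟶ U.left}
    (h : s ≫ pullback.snd g p = u ≫ U.hom) (es : s = s') (eu : u = u') :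
    d.pt s u h = d.pt s' u' (by rw [← es, ← eu]; exact h) := by
  subst es eu; rfl

end Points

section Unique

variable {U₁ U₂ : Over T} (d₁ : EffData g D p U₁) (d₂ : EffData g D p U₂)

/-- the map on canonical descent data induced by a morphism over `T` -/
noncomputable def Mmap (f : U₁.left ⟶ U₂.left) (hf : f ≫ U₂.hom = U₁.hom) :
    pullback (pullback.snd g p) U₁.hom ⟶ pullback (pullback.snd g p) U₂.hom :=
  pullback.lift (pullback.fst _ _) (pullback.snd _ _ ≫ f)
    (by rw [Category.assoc, hf, pullback.condition])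

lemma lift_Mmap (f : U₁.left ⟶ U₂.left) (hf : f ≫ U₂.hom = U₁.hom) {T₀ : Scheme.{u}}
    (s : T₀ ⟶ pullback g p) (u : T₀ ⟶ U₁.left) (h : s ≫ pullback.snd g p = u ≫ U₁.hom) :
    pullback.lift s u h ≫ Mmap f hf = pullback.lift s (u ≫ f)
      (by rw [Category.assoc, hf, h]) := by
  apply pullback.hom_ext
  · rw [Category.assoc, Mmap, pullback.lift_fst, pullback.lift_fst, pullback.lift_fst]
  · rw [Category.assoc, Mmap, pullback.lift_snd, pullback.lift_snd_assoc, pullback.lift_snd]

/-- the descent-compatible morphism between the base changes to `S'_T` -/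
noncomputable def fprime : pullback U₁.hom (pullback.snd g p) ⟶ pullback U₂.hom (pullback.snd g p) :=
  pullback.lift
    (d₂.unpt (pullback.snd U₁.hom (pullback.snd g p))
      (d₁.pt (pullback.snd U₁.hom (pullback.snd g p)) (pullback.fst U₁.hom (pullback.snd g p))
        pullback.condition.symm) (d₁.pt_hom _ _ _))
    (pullback.snd U₁.hom (pullback.snd g p))
    (d₂.unpt_hom _ _ _).symm

lemma fprime_snd : fprime d₁ d₂ ≫ pullback.snd U₂.hom (pullback.snd g p) =
    pullback.snd U₁.hom (pullback.snd g p) := pullback.lift_snd _ _ _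

lemma fprime_fst : fprime d₁ d₂ ≫ pullback.fst U₂.hom (pullback.snd g p) =
    d₂.unpt (pullback.snd U₁.hom (pullback.snd g p))
      (d₁.pt (pullback.snd U₁.hom (pullback.snd g p)) (pullback.fst U₁.hom (pullback.snd g p))
        pullback.condition.symm) (d₁.pt_hom _ _ _) := pullback.lift_fst _ _ _

/-- value of `fprime` on points -/
lemma comp_fprime_fst {T₀ : Scheme.{u}} (r : T₀ ⟶ pullback U₁.hom (pullback.snd g p)) :
    r ≫ fprime d₁ d₂ ≫ pullback.fst U₂.hom (pullback.snd g p) =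
      d₂.unpt (r ≫ pullback.snd U₁.hom (pullback.snd g p))
        (d₁.pt (r ≫ pullback.snd U₁.hom (pullback.snd g p))
          (r ≫ pullback.fst U₁.hom (pullback.snd g p))
          (by rw [Category.assoc, Category.assoc, pullback.condition])) (d₁.pt_hom _ _ _) := by
  rw [fprime_fst, d₂.unpt_natural]
  refine d₂.unpt_congr _ rfl ?_
  rw [d₁.pt_natural]

/-- the transported point does not depend on the point of `S'_T` -/
lemma unpt_pt_indep {T₀ : Scheme.{u}} (s₀ s₁ : T₀ ⟶ pullback g p) (u : T₀ ⟶ U₁.left)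
    (h₀ : s₀ ≫ pullback.snd g p = u ≫ U₁.hom) (h₁ : s₁ ≫ pullback.snd g p = u ≫ U₁.hom) :
    d₂.unpt s₀ (d₁.pt s₀ u h₀) (d₁.pt_hom _ _ _) = d₂.unpt s₁ (d₁.pt s₁ u h₁) (d₁.pt_hom _ _ _) := by
  set v := d₂.unpt s₀ (d₁.pt s₀ u h₀) (d₁.pt_hom _ _ _) with hv
  have hv₀ : s₀ ≫ pullback.snd g p = v ≫ U₂.hom := d₂.unpt_hom _ _ _
  have hv₁ : s₁ ≫ pullback.snd g p = v ≫ U₂.hom := by rw [h₁, ← h₀, hv₀]
  have e0 : d₂.pt s₀ v hv₀ = d₁.pt s₀ u h₀ := d₂.pt_unpt _ _ _
  have e1 : d₂.pt s₁ v hv₁ = d₁.pt s₁ u h₁ := by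
    rw [← d₂.pt_comm s₀ s₁ v hv₀ hv₁, ← d₁.pt_comm s₀ s₁ u h₀ h₁]
    exact tr_congr g D _ _ rfl rfl e0
  have := d₂.unpt_pt s₁ v hv₁
  rw [← this]
  exact d₂.unpt_congr _ rfl e1

lemma fprime_coc :
    pullback.map U₁.hom (pullback.fst (pullback.snd g p) (pullback.snd g p) ≫ pullback.snd g p)
        U₁.hom (pullback.snd g p) (𝟙 _) (pullback.fst (pullback.snd g p) (pullback.snd g p)) (𝟙 T)
        ((Category.comp_id _).trans (Category.id_comp _).symm) (Category.comp_id _) ≫
        fprime d₁ d₂ ≫ pullback.fst U₂.hom (pullback.snd g p) =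
      pullback.map U₁.hom (pullback.fst (pullback.snd g p) (pullback.snd g p) ≫ pullback.snd g p)
        U₁.hom (pullback.snd g p) (𝟙 _) (pullback.snd (pullback.snd g p) (pullback.snd g p)) (𝟙 T)
        ((Category.comp_id _).trans (Category.id_comp _).symm)
        ((Category.comp_id _).trans pullback.condition) ≫
        fprime d₁ d₂ ≫ pullback.fst U₂.hom (pullback.snd g p) := by
  rw [comp_fprime_fst, comp_fprime_fst]
  have hu : ∀ (a : _ ⟶ pullback g p) (ha : _),
      pullback.map U₁.hom (pullback.fst (pullback.snd g p) (pullback.snd g p) ≫ pullback.snd g p)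
        U₁.hom (pullback.snd g p) (𝟙 _) a (𝟙 T)
        ((Category.comp_id _).trans (Category.id_comp _).symm) ha ≫
        pullback.fst U₁.hom (pullback.snd g p) = pullback.fst _ _ := by
    intro a ha
    exact (pullback.lift_fst _ _ _).trans (Category.comp_id _)
  have h1 := unpt_pt_indep d₁ d₂
    (pullback.snd U₁.hom (pullback.fst (pullback.snd g p) (pullback.snd g p) ≫ pullback.snd g p) ≫
      pullback.fst (pullback.snd g p) (pullback.snd g p))
    (pullback.snd U₁.hom (pullback.fst (pullback.snd g p) (pullback.snd g p) ≫ pullback.snd g p) ≫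
      pullback.snd (pullback.snd g p) (pullback.snd g p))
    (pullback.fst U₁.hom (pullback.fst (pullback.snd g p) (pullback.snd g p) ≫ pullback.snd g p))
    (by rw [Category.assoc]; exact pullback.condition.symm)
    (by
      rw [Category.assoc, ← pullback.condition (f := pullback.snd g p) (g := pullback.snd g p)]
      exact pullback.condition.symm)
  refine Eq.trans ?_ (h1.trans ?_)
  · refine d₂.unpt_congr _ (pullback.lift_snd _ _ _) ?_
    exact d₁.pt_congr _ (pullback.lift_snd _ _ _) (hu _ _)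
  · refine d₂.unpt_congr _ (pullback.lift_snd _ _ _).symm ?_
    exact d₁.pt_congr _ (pullback.lift_snd _ _ _).symm (hu _ _).symm

/-- the symmetry of the fibre product, on points -/
lemma fprime_iff (f : U₁.left ⟶ U₂.left) (hf : f ≫ U₂.hom = U₁.hom) :
    fprime d₁ d₂ ≫ pullback.fst U₂.hom (pullback.snd g p) =
        pullback.fst U₁.hom (pullback.snd g p) ≫ f ↔
      Mmap f hf ≫ d₂.ev = d₁.ev := by
  constructor
  · intro h
    -- the universal point of `S'_T ×_T U₁`
    let r : pullback (pullback.snd g p) U₁.hom ⟶ pullback U₁.hom (pullback.snd g p) :=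
      pullback.lift (pullback.snd _ _) (pullback.fst _ _) pullback.condition.symm
    have hr : r ≫ fprime d₁ d₂ ≫ pullback.fst U₂.hom (pullback.snd g p) =
        r ≫ pullback.fst U₁.hom (pullback.snd g p) ≫ f := by rw [h]
    rw [comp_fprime_fst] at hr
    have e1 : r ≫ pullback.snd U₁.hom (pullback.snd g p) = pullback.fst _ _ :=
      pullback.lift_snd _ _ _
    have e2 : r ≫ pullback.fst U₁.hom (pullback.snd g p) = pullback.snd _ _ :=
      pullback.lift_fst _ _ _
    have hid : pullback.lift (pullback.fst (pullback.snd g p) U₁.hom)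
        (pullback.snd (pullback.snd g p) U₁.hom) pullback.condition = 𝟙 _ := by
      apply pullback.hom_ext
      · rw [pullback.lift_fst, Category.id_comp]
      · rw [pullback.lift_snd, Category.id_comp]
    have e3 : d₁.ev = d₁.pt (pullback.fst _ _) (pullback.snd _ _) pullback.condition := by
      rw [EffData.pt, hid, Category.id_comp]
    have e4 : Mmap f hf ≫ d₂.ev = d₂.pt (pullback.fst _ _) (pullback.snd _ _ ≫ f)
        (by rw [Category.assoc, hf, pullback.condition]) := by
      rw [EffData.pt]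
      congr 1
    rw [e3, e4]
    have hr' : d₂.unpt (pullback.fst (pullback.snd g p) U₁.hom)
        (d₁.pt (pullback.fst _ _) (pullback.snd _ _) pullback.condition) (d₁.pt_hom _ _ _) =
        pullback.snd _ _ ≫ f := by
      rw [← reassoc_of% e2, ← hr]
      exact d₂.unpt_congr _ e1.symm (d₁.pt_congr _ e1.symm e2.symm)
    have := d₂.pt_unpt (pullback.fst (pullback.snd g p) U₁.hom)
      (d₁.pt (pullback.fst _ _) (pullback.snd _ _) pullback.condition) (d₁.pt_hom _ _ _)
    rw [← this]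
    exact d₂.pt_congr _ rfl hr'.symm
  · intro h
    rw [fprime_fst]
    have e : d₁.pt (pullback.snd U₁.hom (pullback.snd g p)) (pullback.fst U₁.hom (pullback.snd g p))
        pullback.condition.symm =
        d₂.pt (pullback.snd U₁.hom (pullback.snd g p)) (pullback.fst U₁.hom (pullback.snd g p) ≫ f)
          (by rw [Category.assoc, hf, pullback.condition]) := by
      rw [EffData.pt, EffData.pt, ← h, ← Category.assoc, lift_Mmap]
    rw [← d₂.unpt_pt (pullback.snd U₁.hom (pullback.snd g p))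
      (pullback.fst U₁.hom (pullback.snd g p) ≫ f) (by rw [Category.assoc, hf, pullback.condition])]
    exact d₂.unpt_congr _ rfl e

include d₁ d₂ in
/-- **Uniqueness of the effective object**: there is exactly one morphism between two schemes
realising the descent datum which is compatible with the realisations. -/
theorem existsUnique_hom (hg : SGA1.UnivSubmersive g) [Etale U₂.hom] :
    ∃! f : U₁.left ⟶ U₂.left, ∃ hf : f ≫ U₂.hom = U₁.hom, Mmap f hf ≫ d₂.ev = d₁.ev := by
  have hγ : SGA1.UnivSubmersive (pullback.snd g p) :=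
    Groth.Agent.Lib.Helper1.Subtr8.univSubmersive_of_isPullback hg
      (IsPullback.of_hasPullback g p).flip
  obtain ⟨f, ⟨hf, hf2⟩, huniq⟩ := Groth.Agent.S3709.result (pullback.snd g p) hγ U₁.hom U₂.hom
    (fprime d₁ d₂) (fprime_snd d₁ d₂) (fprime_coc d₁ d₂)
  refine ⟨f, ⟨hf, (fprime_iff d₁ d₂ f hf).mp hf2⟩, ?_⟩
  rintro f' ⟨hf', h'⟩
  exact huniq f' ⟨hf', (fprime_iff d₁ d₂ f' hf').mpr h'⟩

lemma Mmap_id : Mmap (g := g) (p := p) (U₁ := U₁) (U₂ := U₁) (𝟙 U₁.left) (Category.id_comp _) =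
    𝟙 (pullback (pullback.snd g p) U₁.hom) := by
  apply pullback.hom_ext
  · rw [Mmap, pullback.lift_fst, Category.id_comp]
  · rw [Mmap, pullback.lift_snd, Category.id_comp, Category.comp_id]

lemma Mmap_comp {U₃ : Over T} (f : U₁.left ⟶ U₂.left) (hf : f ≫ U₂.hom = U₁.hom)
    (f' : U₂.left ⟶ U₃.left) (hf' : f' ≫ U₃.hom = U₂.hom) :
    Mmap (g := g) (p := p) f hf ≫ Mmap (g := g) (p := p) f' hf' =
      Mmap (g := g) (p := p) (f ≫ f') (by rw [Category.assoc, hf', hf]) := by
  apply pullback.hom_ext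
  · rw [Category.assoc, Mmap, Mmap, Mmap, pullback.lift_fst, pullback.lift_fst, pullback.lift_fst]
  · rw [Category.assoc, Mmap, Mmap, Mmap, pullback.lift_snd, pullback.lift_snd_assoc,
      pullback.lift_snd, Category.assoc]

include d₁ d₂ in
/-- The compatible morphism is an isomorphism. -/
theorem isIso_of_compat (hg : SGA1.UnivSubmersive g) [Etale U₁.hom] [Etale U₂.hom]
    (f : U₁.left ⟶ U₂.left) (hf : f ≫ U₂.hom = U₁.hom) (h : Mmap f hf ≫ d₂.ev = d₁.ev) :
    IsIso f := by
  obtain ⟨f', ⟨hf', h'⟩, -⟩ := existsUnique_hom d₂ d₁ hg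
  obtain ⟨k₁, -, hu₁⟩ := existsUnique_hom d₁ d₁ hg
  obtain ⟨k₂, -, hu₂⟩ := existsUnique_hom d₂ d₂ hg
  refine ⟨f', ?_, ?_⟩
  · have a1 := hu₁ (f ≫ f') ⟨by rw [Category.assoc, hf', hf], by
      rw [← Mmap_comp f hf f' hf', Category.assoc, h', h]⟩
    have a2 := hu₁ (𝟙 _) ⟨Category.id_comp _, by rw [Mmap_id, Category.id_comp]⟩
    rw [a1, a2]
  · have a1 := hu₂ (f' ≫ f) ⟨by rw [Category.assoc, hf, hf'], by
      rw [← Mmap_comp f' hf' f hf, Category.assoc, h, h']⟩
    have a2 := hu₂ (𝟙 _) ⟨Category.id_comp _, by rw [Mmap_id, Category.id_comp]⟩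
    rw [a1, a2]

end Unique

end Groth.Agent.H5.EtDesc
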