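import Mathlib
import Groth.Prelude.Def_DescFam
import Groth.Prelude.Def_SGA1
import Groth.Agent.Lib.Helper5.EtDesc.EtK

/-!
# Transition maps between local realisations of an étale descent datum (S5123)
-/

set_option autoImplicit false
set_option backward.isDefEq.respectTransparency false
set_option backward.isDefEq.respectTransparency.types false

universe u

open CategoryTheory CategoryTheory.Limits AlgebraicGeometry MorphismProperty

namespace Groth.Agent.H5.EtDesc

section General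

/-- A property local on the target can be checked on pullback squares over an open cover. -/
lemma prop_of_isPullback_cover {P : MorphismProperty Scheme.{u}} [IsZariskiLocalAtTarget P]
    {X Y : Scheme.{u}} (f : X ⟶ Y) (𝒰 : Y.OpenCover)
    (H : ∀ i, ∃ (Xi : Scheme.{u}) (a : Xi ⟶ X) (fi : Xi ⟶ 𝒰.X i),
      IsPullback a fi f (𝒰.f i) ∧ P fi) : P f := by
  refine IsZariskiLocalAtTarget.of_openCover 𝒰 fun i => ?_
  obtain ⟨Xi, a, fi, h, hP⟩ := H i
  have e : 𝒰.pullbackHom f i = h.isoPullback.inv ≫ fi := by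
    rw [Iso.eq_inv_comp]
    exact h.isoPullback_hom_snd
  rw [e]
  exact (P.cancel_left_of_respectsIso _ _).mpr hP

/-- A property local on the target can be checked on pullback squares over an open cover of a
base. -/
lemma prop_of_isPullback_base {P : MorphismProperty Scheme.{u}} [IsZariskiLocalAtTarget P]
    {X Y B : Scheme.{u}} (f : X ⟶ Y) (h : Y ⟶ B) (𝒰 : B.OpenCover)
    (H : ∀ i, ∃ (Xi Yi : Scheme.{u}) (a : Xi ⟶ X) (fi : Xi ⟶ Yi) (c : Yi ⟶ Y) (k : Yi ⟶ 𝒰.X i),
      IsPullback a fi f c ∧ IsPullback c k h (𝒰.f i) ∧ P fi) : P f := by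
  refine prop_of_isPullback_cover f (𝒰.pullback₁ h) fun i => ?_
  obtain ⟨Xi, Yi, a, fi, c, k, h1, h2, hP⟩ := H i
  refine ⟨Xi, a, fi ≫ h2.isoPullback.hom, ?_, (P.cancel_right_of_respectsIso _ _).mpr hP⟩
  refine h1.of_iso (Iso.refl _) (Iso.refl _) h2.isoPullback (Iso.refl _) ?_ ?_ ?_ ?_
  · simp
  · simp
  · simp
  · change c ≫ 𝟙 _ = h2.isoPullback.hom ≫ pullback.fst h (𝒰.f i)
    rw [Category.comp_id, h2.isoPullback_hom_fst]

/-- Morphisms agree if they agree on pullback squares over an open cover of a base. -/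
lemma hom_ext_of_isPullback_base {R Y B : Scheme.{u}} (a b : R ⟶ Y) (h : R ⟶ B)
    (𝒰 : B.OpenCover)
    (H : ∀ i, ∃ (Ri : Scheme.{u}) (r : Ri ⟶ R) (k : Ri ⟶ 𝒰.X i),
      IsPullback r k h (𝒰.f i) ∧ r ≫ a = r ≫ b) : a = b := by
  refine Scheme.Cover.hom_ext (𝒰.pullback₁ h) _ _ fun i => ?_
  obtain ⟨Ri, r, k, h1, hr⟩ := H i
  have e : (𝒰.pullback₁ h).f i = h1.isoPullback.inv ≫ r := by
    rw [Iso.eq_inv_comp]
    exact h1.isoPullback_hom_fst
  rw [e, Category.assoc, Category.assoc, hr]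

end General

variable {S S' : Scheme.{u}} {g : S' ⟶ S} {D : Desc.SchDDFam (fun _ : PUnit.{1} => g)}

section Trans

variable {T T' : Scheme.{u}} {p : T ⟶ S} (q : T' ⟶ T) (p' : T' ⟶ S) (hq : q ≫ p = p')
variable {U : Over T} {U' : Over T'} (d : EffData g D p U) (d' : EffData g D p' U')

lemma Mmap_Emap (U₁ : Over T') (b₁ : U₁.left ⟶ U.left) (hb₁ : IsPullback b₁ U₁.hom U.hom q)
    (f : U'.left ⟶ U₁.left) (hf : f ≫ U₁.hom = U'.hom) (b : U'.left ⟶ U.left)
    (hb : IsPullback b U'.hom U.hom q) (hfb : f ≫ b₁ = b) :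
    Mmap (g := g) (p := p') f hf ≫ Emap g p q p' hq U U₁ b₁ hb₁ = Emap g p q p' hq U U' b hb := by
  apply pullback.hom_ext
  · rw [Category.assoc, Emap_fst, Emap_fst, Mmap, pullback.lift_fst_assoc]
  · rw [Category.assoc, Emap_snd, Emap_snd, Mmap, pullback.lift_snd_assoc, Category.assoc, hfb]

include d d' in
/-- **Transition maps**: two étale realisations over `T` and over `T'` of the descent datum are
related by a unique compatible cartesian morphism. -/
theorem existsUnique_trans (hg : SGA1.UnivSubmersive g) [Etale U.hom] [Etale U'.hom] :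
    ∃! b : U'.left ⟶ U.left, ∃ hb : IsPullback b U'.hom U.hom q,
      Emap g p q p' hq U U' b hb ≫ d.ev = d'.ev := by
  let U₁ : Over T' := Over.mk (pullback.snd U.hom q)
  have hb₁ : IsPullback (pullback.fst U.hom q) U₁.hom U.hom q := IsPullback.of_hasPullback U.hom q
  let d₁ : EffData g D p' U₁ := d.bc q p' hq U₁ (pullback.fst U.hom q) hb₁
  haveI : Etale U₁.hom := by
    change Etale (pullback.snd U.hom q)
    infer_instance
  obtain ⟨f, ⟨hf, hf2⟩, huniq⟩ := existsUnique_hom d' d₁ hg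
  haveI : IsIso f := isIso_of_compat d' d₁ hg f hf hf2
  have hb : IsPullback (f ≫ pullback.fst U.hom q) U'.hom U.hom q := by
    have h1 : IsPullback f U'.hom U₁.hom (𝟙 T') :=
      IsPullback.of_horiz_isIso ⟨by rw [hf, Category.comp_id]⟩
    have := h1.paste_horiz hb₁
    rwa [Category.id_comp] at this
  refine ⟨f ≫ pullback.fst U.hom q, ⟨hb, ?_⟩, ?_⟩
  · rw [← Mmap_Emap q p' hq U₁ (pullback.fst U.hom q) hb₁ f hf _ hb rfl, Category.assoc]
    exact hf2
  · rintro b' ⟨hb', h'⟩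
    let f' : U'.left ⟶ U₁.left := pullback.lift b' U'.hom hb'.w
    have hf' : f' ≫ U₁.hom = U'.hom := pullback.lift_snd _ _ _
    have hfb' : f' ≫ pullback.fst U.hom q = b' := pullback.lift_fst _ _ _
    have e := huniq f' ⟨hf', by
      change Mmap f' hf' ≫ Emap g p q p' hq U U₁ (pullback.fst U.hom q) hb₁ ≫ d.ev = d'.ev
      rw [← Category.assoc, Mmap_Emap q p' hq U₁ (pullback.fst U.hom q) hb₁ f' hf' b' hb' hfb']
      exact h'⟩
    rw [← hfb', e]

end Trans

section Local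

variable {T : Scheme.{u}} {p : T ⟶ S} {X : Over T} (e : PreEff g D p X) (𝒰 : T.OpenCover)

lemma isPullback_Fmap_base {T' : Scheme.{u}} (q : T' ⟶ T) (p' : T' ⟶ S) (hq : q ≫ p = p') :
    IsPullback (Fmap g D p q p' hq)
      (pullback.snd (D.obj PUnit.unit).hom (pullback.fst g p') ≫ pullback.snd g p')
      (pullback.snd (D.obj PUnit.unit).hom (pullback.fst g p) ≫ pullback.snd g p) q :=
  (isPullback_Fmap g D p q p' hq).paste_vert (isPullback_Smap g p q p' hq)

/-- `θ` is an isomorphism if it is so locally on the base. -/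
theorem PreEff.isIso_of_local
    (H : ∀ i, ∃ (p' : 𝒰.X i ⟶ S) (hq : 𝒰.f i ≫ p = p') (Xi : Over (𝒰.X i))
      (b : Xi.left ⟶ X.left) (hb : IsPullback b Xi.hom X.hom (𝒰.f i)),
      IsIso (e.bc (𝒰.f i) p' hq Xi b hb).theta) : IsIso e.theta := by
  have : (isomorphisms Scheme.{u}) e.theta := by
    refine prop_of_isPullback_base e.theta
      (pullback.snd (D.obj PUnit.unit).hom (pullback.fst g p) ≫ pullback.snd g p) 𝒰 fun i => ?_
    obtain ⟨p', hq, Xi, b, hb, hiso⟩ := H i
    exact ⟨_, _, Emap g p (𝒰.f i) p' hq X Xi b hb, (e.bc (𝒰.f i) p' hq Xi b hb).theta,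
      Fmap g D p (𝒰.f i) p' hq, _, e.bc_theta_isPullback (𝒰.f i) p' hq Xi b hb,
      isPullback_Fmap_base (𝒰.f i) p' hq, hiso⟩
  exact this

/-- The compatibility with the descent datum holds if it does so locally on the base. -/
theorem PreEff.commProp_of_local
    (H : ∀ i, ∃ (p' : 𝒰.X i ⟶ S) (hq : 𝒰.f i ≫ p = p') (Xi : Over (𝒰.X i))
      (b : Xi.left ⟶ X.left) (hb : IsPullback b Xi.hom X.hom (𝒰.f i)),
      (e.bc (𝒰.f i) p' hq Xi b hb).CommProp) : e.CommProp := by
  rw [PreEff.commProp_iff]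
  refine hom_ext_of_isPullback_base e.lhs e.rhs
    (pullback.snd _ _ ≫ pullback.snd g p) 𝒰 fun i => ?_
  obtain ⟨p', hq, Xi, b, hb, hcomm⟩ := H i
  refine ⟨_, Rmap g p (𝒰.f i) p' hq X Xi b hb, _, isPullback_Rmap g p (𝒰.f i) p' hq X Xi b hb, ?_⟩
  rw [e.bc_lhs, e.bc_rhs]
  exact (PreEff.commProp_iff _).mp hcomm

end Local

end Groth.Agent.H5.EtDesc
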