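import Mathlib
import Groth.Prelude.Def_DescFam
import Groth.Prelude.Def_SGA1
import Groth.Agent.Lib.Helper5.EtDesc.EtL

/-!
# Gluing the evaluation morphism (S5123)
-/

set_option autoImplicit false
set_option backward.isDefEq.respectTransparency false
set_option backward.isDefEq.respectTransparency.types false

universe u

open CategoryTheory CategoryTheory.Limits AlgebraicGeometry MorphismProperty

namespace Groth.Agent.H5.EtDesc

variable {S S' : Scheme.{u}} {g : S' ⟶ S} {D : Desc.SchDDFam (fun _ : PUnit.{1} => g)}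

section Glue

variable {T : Scheme.{u}} {p : T ⟶ S} {X : Over T} (𝒰 : T.OpenCover) [Category 𝒰.I₀]
  [𝒰.LocallyDirected]
  (p' : ∀ i, 𝒰.X i ⟶ S) (hp' : ∀ i, 𝒰.f i ≫ p = p' i)
  (Xi : ∀ i, Over (𝒰.X i)) (b : ∀ i, (Xi i).left ⟶ X.left)
  (hb : ∀ i, IsPullback (b i) (Xi i).hom X.hom (𝒰.f i))
  (e : ∀ i, PreEff g D (p' i) (Xi i))
  (t : ∀ {i j : 𝒰.I₀} (_ : i ⟶ j), (Xi i).left ⟶ (Xi j).left)
  (ht : ∀ {i j : 𝒰.I₀} (hij : i ⟶ j), IsPullback (t hij) (Xi i).hom (Xi j).hom (𝒰.trans hij))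
  (htb : ∀ {i j : 𝒰.I₀} (hij : i ⟶ j), t hij ≫ b j = b i)

include hp' in
lemma trans_hp' {i j : 𝒰.I₀} (hij : i ⟶ j) : 𝒰.trans hij ≫ p' j = p' i := by
  rw [← hp', ← hp', ← Category.assoc, 𝒰.trans_map]

include htb in
/-- Gluing the evaluation morphisms of local pre-realisations. -/
theorem exists_preEff_glue
    (hte : ∀ {i j : 𝒰.I₀} (hij : i ⟶ j),
      Emap g (p' j) (𝒰.trans hij) (p' i) (trans_hp' 𝒰 p' hp' hij) (Xi j) (Xi i) (t hij) (ht hij) ≫
        (e j).ev = (e i).ev) :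
    ∃ e₀ : PreEff g D p X, ∀ i,
      Emap g p (𝒰.f i) (p' i) (hp' i) X (Xi i) (b i) (hb i) ≫ e₀.ev = (e i).ev := by
  let hE : pullback (pullback.snd g p) X.hom ⟶ T := pullback.snd _ _ ≫ X.hom
  let 𝒱 : (pullback (pullback.snd g p) X.hom).OpenCover := 𝒰.pullback₁ hE
  have hEi : ∀ i, IsPullback (Emap g p (𝒰.f i) (p' i) (hp' i) X (Xi i) (b i) (hb i))
      (pullback.snd _ _ ≫ (Xi i).hom) hE (𝒰.f i) := fun i =>
    isPullback_Emap_base g p (𝒰.f i) (p' i) (hp' i) X (Xi i) (b i) (hb i)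
  let G : ∀ i, 𝒱.X i ⟶ (D.obj PUnit.unit).left := fun i => (hEi i).isoPullback.inv ≫ (e i).ev
  have key : ∀ {i j : 𝒰.I₀} (hij : i ⟶ j) (M : pullback hE (𝒰.f i) ⟶ pullback hE (𝒰.f j))
      (_ : M ≫ pullback.fst hE (𝒰.f j) = pullback.fst hE (𝒰.f i))
      (_ : M ≫ pullback.snd hE (𝒰.f j) = pullback.snd hE (𝒰.f i) ≫ 𝒰.trans hij),
      (hEi i).isoPullback.hom ≫ M =
      Emap g (p' j) (𝒰.trans hij) (p' i) (trans_hp' 𝒰 p' hp' hij) (Xi j) (Xi i) (t hij) (ht hij) ≫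
        (hEi j).isoPullback.hom := by
    intro i j hij M hM1 hM2
    apply pullback.hom_ext
    · rw [Category.assoc, Category.assoc, hM1,
        (hEi i).isoPullback_hom_fst, (hEi j).isoPullback_hom_fst]
      exact (Emap_comp' g p (𝒰.f j) (p' j) (hp' j) (𝒰.trans hij) (p' i)
        (trans_hp' 𝒰 p' hp' hij) X (Xi j) (Xi i) (b j) (hb j) (t hij) (ht hij) (𝒰.f i) (hp' i)
        (b i) (hb i) (𝒰.trans_map hij) (htb hij)).symm
    · rw [Category.assoc, Category.assoc, hM2, (hEi j).isoPullback_hom_snd,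
        ← Category.assoc, (hEi i).isoPullback_hom_snd, Emap_snd_assoc, Category.assoc,
        (ht hij).w]
  have compat : ∀ {i j : 𝒱.I₀} (hij : i ⟶ j), 𝒱.trans hij ≫ G j = G i := by
    intro i j hij
    have hM1 : 𝒱.trans hij ≫ pullback.fst hE (𝒰.f j) = pullback.fst hE (𝒰.f i) :=
      (pullback.lift_fst _ _ _).trans (Category.comp_id _)
    have hM2 : 𝒱.trans hij ≫ pullback.snd hE (𝒰.f j) =
        pullback.snd hE (𝒰.f i) ≫ 𝒰.trans hij := pullback.lift_snd _ _ _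
    have k := key hij (𝒱.trans hij) hM1 hM2
    change 𝒱.trans hij ≫ (hEi j).isoPullback.inv ≫ (e j).ev =
      (hEi i).isoPullback.inv ≫ (e i).ev
    rw [← hte hij, ← Category.assoc, ← Category.assoc]
    congr 1
    rw [Iso.comp_inv_eq, Category.assoc, ← k, Iso.inv_hom_id_assoc]
  let ev₀ := Scheme.OpenCover.glueMorphismsOfLocallyDirected 𝒱 G compat
  have hev : ∀ i, Emap g p (𝒰.f i) (p' i) (hp' i) X (Xi i) (b i) (hb i) ≫ ev₀ = (e i).ev := by
    intro i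
    have h1 : 𝒱.f i ≫ ev₀ = G i :=
      Scheme.OpenCover.map_glueMorphismsOfLocallyDirected 𝒱 G compat i
    have h2 : Emap g p (𝒰.f i) (p' i) (hp' i) X (Xi i) (b i) (hb i) =
        (hEi i).isoPullback.hom ≫ 𝒱.f i := (hEi i).isoPullback_hom_fst.symm
    rw [h2, Category.assoc, h1, Iso.hom_inv_id_assoc]
  refine ⟨⟨ev₀, ?_⟩, hev⟩
  refine Scheme.Cover.hom_ext 𝒱 _ _ fun i => ?_
  have h2 : 𝒱.f i = (hEi i).isoPullback.inv ≫
      Emap g p (𝒰.f i) (p' i) (hp' i) X (Xi i) (b i) (hb i) := by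
    rw [Iso.eq_inv_comp]
    exact (hEi i).isoPullback_hom_fst
  rw [h2, Category.assoc, Category.assoc, reassoc_of% (hev i), (e i).ev_hom, Emap_fst_assoc,
    Smap_fst]

end Glue

end Groth.Agent.H5.EtDesc
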