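import Mathlib
import Groth.Prelude.Def_DescFam
import Groth.Prelude.Def_SGA1
import Groth.Agent.Lib.Helper5.EtDesc.EtM
import Groth.Agent.Lib.Helper5.EtDesc.EtJ

/-!
# Gluing local étale realisations of a descent datum (S5123)
-/

set_option autoImplicit false
set_option backward.isDefEq.respectTransparency false
set_option backward.isDefEq.respectTransparency.types false

universe u

open CategoryTheory CategoryTheory.Limits AlgebraicGeometry MorphismProperty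

namespace Groth.Agent.H5.EtDesc

variable {S S' : Scheme.{u}} {g : S' ⟶ S} {D : Desc.SchDDFam (fun _ : PUnit.{1} => g)}

section Ident

variable {T : Scheme.{u}} (p : T ⟶ S) (U : Over T)

lemma Smap_of_eq_id (q : T ⟶ T) (hq1 : q = 𝟙 T) (hq : q ≫ p = p) :
    Smap g p q p hq = 𝟙 _ := by
  subst hq1
  apply pullback.hom_ext
  · rw [Smap_fst, Category.id_comp]
  · rw [Smap_snd, Category.id_comp, Category.comp_id]

lemma Emap_of_eq_id (q : T ⟶ T) (hq1 : q = 𝟙 T) (hq : q ≫ p = p) (b : U.left ⟶ U.left)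
    (hb1 : b = 𝟙 _) (hb : IsPullback b U.hom U.hom q) :
    Emap g p q p hq U U b hb = 𝟙 _ := by
  subst hb1
  apply pullback.hom_ext
  · rw [Emap_fst, Smap_of_eq_id p q hq1 hq, Category.id_comp, Category.comp_id]
  · rw [Emap_snd, Category.id_comp, Category.comp_id]

end Ident

section Main

variable (𝒰 : S.OpenCover) [Category 𝒰.I₀] [𝒰.LocallyDirected] [Small.{u} 𝒰.I₀]
  [Quiver.IsThin 𝒰.I₀]
  (Xi : ∀ i, Over (𝒰.X i)) [∀ i, Etale (Xi i).hom] (di : ∀ i, EffData g D (𝒰.f i) (Xi i))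

/-- the transition maps between the local realisations -/
noncomputable def trn (hg : SGA1.UnivSubmersive g) {i j : 𝒰.I₀} (hij : i ⟶ j) :
    (Xi i).left ⟶ (Xi j).left :=
  (existsUnique_trans (𝒰.trans hij) (𝒰.f i) (𝒰.trans_map hij) (di j) (di i) hg).exists.choose

lemma trn_isPullback (hg : SGA1.UnivSubmersive g) {i j : 𝒰.I₀} (hij : i ⟶ j) :
    IsPullback (trn 𝒰 Xi di hg hij) (Xi i).hom (Xi j).hom (𝒰.trans hij) :=
  (existsUnique_trans (𝒰.trans hij) (𝒰.f i) (𝒰.trans_map hij) (di j) (di i)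
    hg).exists.choose_spec.choose

lemma trn_ev (hg : SGA1.UnivSubmersive g) {i j : 𝒰.I₀} (hij : i ⟶ j) :
    Emap g (𝒰.f j) (𝒰.trans hij) (𝒰.f i) (𝒰.trans_map hij) (Xi j) (Xi i) (trn 𝒰 Xi di hg hij)
      (trn_isPullback 𝒰 Xi di hg hij) ≫ (di j).ev = (di i).ev :=
  (existsUnique_trans (𝒰.trans hij) (𝒰.f i) (𝒰.trans_map hij) (di j) (di i)
    hg).exists.choose_spec.choose_spec

lemma trn_unique (hg : SGA1.UnivSubmersive g) {i j : 𝒰.I₀} (hij : i ⟶ j)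
    (b : (Xi i).left ⟶ (Xi j).left) (hb : IsPullback b (Xi i).hom (Xi j).hom (𝒰.trans hij))
    (h : Emap g (𝒰.f j) (𝒰.trans hij) (𝒰.f i) (𝒰.trans_map hij) (Xi j) (Xi i) b hb ≫ (di j).ev =
      (di i).ev) : b = trn 𝒰 Xi di hg hij :=
  (existsUnique_trans (𝒰.trans hij) (𝒰.f i) (𝒰.trans_map hij) (di j) (di i) hg).unique
    ⟨hb, h⟩ ⟨trn_isPullback 𝒰 Xi di hg hij, trn_ev 𝒰 Xi di hg hij⟩

lemma trn_id (hg : SGA1.UnivSubmersive g) (i : 𝒰.I₀) :
    trn 𝒰 Xi di hg (𝟙 i) = 𝟙 _ := by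
  have hb : IsPullback (𝟙 (Xi i).left) (Xi i).hom (Xi i).hom (𝒰.trans (𝟙 i)) := by
    rw [𝒰.trans_id]
    exact IsPullback.of_id_fst
  refine (trn_unique 𝒰 Xi di hg (𝟙 i) (𝟙 _) hb ?_).symm
  rw [Emap_of_eq_id (𝒰.f i) (Xi i) (𝒰.trans (𝟙 i)) (𝒰.trans_id i) (𝒰.trans_map (𝟙 i)) (𝟙 _) rfl hb,
    Category.id_comp]

lemma trn_comp (hg : SGA1.UnivSubmersive g) {i j k : 𝒰.I₀} (hij : i ⟶ j) (hjk : j ⟶ k) :
    trn 𝒰 Xi di hg (hij ≫ hjk) = trn 𝒰 Xi di hg hij ≫ trn 𝒰 Xi di hg hjk := by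
  have hb : IsPullback (trn 𝒰 Xi di hg hij ≫ trn 𝒰 Xi di hg hjk) (Xi i).hom (Xi k).hom
      (𝒰.trans (hij ≫ hjk)) := by
    rw [𝒰.trans_comp]
    exact (trn_isPullback 𝒰 Xi di hg hij).paste_horiz (trn_isPullback 𝒰 Xi di hg hjk)
  refine (trn_unique 𝒰 Xi di hg (hij ≫ hjk) _ hb ?_).symm
  rw [← Emap_comp' g (𝒰.f k) (𝒰.trans hjk) (𝒰.f j) (𝒰.trans_map hjk) (𝒰.trans hij) (𝒰.f i)
    (𝒰.trans_map hij) (Xi k) (Xi j) (Xi i) (trn 𝒰 Xi di hg hjk) (trn_isPullback 𝒰 Xi di hg hjk)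
    (trn 𝒰 Xi di hg hij) (trn_isPullback 𝒰 Xi di hg hij) (𝒰.trans (hij ≫ hjk))
    (𝒰.trans_map (hij ≫ hjk)) _ hb (𝒰.trans_comp hij hjk).symm rfl,
    Category.assoc, trn_ev, trn_ev]

/-- the relative gluing datum -/
noncomputable def rgd (hg : SGA1.UnivSubmersive g) : Scheme.Cover.RelativeGluingData 𝒰 where
  functor :=
    { obj := fun i => (Xi i).left
      map := fun hij => trn 𝒰 Xi di hg hij
      map_id := fun i => trn_id 𝒰 Xi di hg i
      map_comp := fun hij hjk => trn_comp 𝒰 Xi di hg hij hjk }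
  natTrans :=
    { app := fun i => (Xi i).hom
      naturality := fun i j hij => (trn_isPullback 𝒰 Xi di hg hij).w }
  equifibered := fun i j hij => trn_isPullback 𝒰 Xi di hg hij

include 𝒰 Xi di in
/-- **Gluing**: local étale realisations of a descent datum over a locally directed open cover
glue to a global étale realisation. -/
theorem exists_effData_glue (hg : SGA1.UnivSubmersive g) :
    ∃ X : Over S, Etale X.hom ∧ Nonempty (EffData g D (𝟙 S) X) := by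
  let rg := rgd 𝒰 Xi di hg
  let X : Over S := Over.mk rg.toBase
  let b : ∀ i, (Xi i).left ⟶ X.left := fun i => colimit.ι rg.functor i
  have hb : ∀ i, IsPullback (b i) (Xi i).hom X.hom (𝒰.f i) := fun i =>
    (rg.isPullback_natTrans_ι_toBase i).flip
  have htb : ∀ {i j : 𝒰.I₀} (hij : i ⟶ j), trn 𝒰 Xi di hg hij ≫ b j = b i := fun hij =>
    colimit.w rg.functor hij
  have hEt : Etale X.hom := by
    refine prop_of_isPullback_cover (P := @Etale) X.hom 𝒰 fun i => ?_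
    exact ⟨_, b i, (Xi i).hom, hb i, inferInstance⟩
  obtain ⟨e₀, he₀⟩ := exists_preEff_glue (p := 𝟙 S) (X := X) 𝒰 (fun i => 𝒰.f i)
    (fun i => Category.comp_id _) Xi b hb (fun i => (di i).toPreEff)
    (fun hij => trn 𝒰 Xi di hg hij) (fun hij => trn_isPullback 𝒰 Xi di hg hij) htb
    (fun hij => trn_ev 𝒰 Xi di hg hij)
  have hbc : ∀ i, e₀.bc (𝒰.f i) (𝒰.f i) (Category.comp_id _) (Xi i) (b i) (hb i) =
      (di i).toPreEff := fun i => PreEff.ext' (he₀ i)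
  refine ⟨X, hEt, ⟨⟨e₀, ?_, ?_⟩⟩⟩
  · refine PreEff.isIso_of_local e₀ 𝒰 fun i =>
      ⟨𝒰.f i, Category.comp_id _, Xi i, b i, hb i, ?_⟩
    rw [hbc i]
    exact (di i).isIso
  · refine PreEff.commProp_of_local e₀ 𝒰 fun i =>
      ⟨𝒰.f i, Category.comp_id _, Xi i, b i, hb i, ?_⟩
    rw [hbc i]
    exact (di i).comm

end Main

end Groth.Agent.H5.EtDesc
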