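import Mathlib
import Groth.Prelude.Def_DescFam
import Groth.Prelude.Def_SGA1
import Groth.Agent.Lib.Helper5.EtDesc.EtN
import Groth.Agent.Lib.Helper5.EtDesc.EtI

/-!
# Effectivity of étale descent data is local on the base (S5123)
-/

set_option autoImplicit false
set_option backward.isDefEq.respectTransparency false
set_option backward.isDefEq.respectTransparency.types false

universe u

open CategoryTheory CategoryTheory.Limits AlgebraicGeometry MorphismProperty

namespace Groth.Agent.H5.EtDesc

variable {S S' : Scheme.{u}} {g : S' ⟶ S} {D : Desc.SchDDFam (fun _ : PUnit.{1} => g)}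

section Cover

variable {ι : Type u} (V : ι → S.Opens)

/-- the opens contained in a member of the cover -/
def JJ : Type u := {W : S.Opens // ∃ i, W ≤ V i}

instance : Preorder (JJ V) := inferInstanceAs (Preorder {W : S.Opens // ∃ i, W ≤ V i})

lemma isOpenCover_JJ (hV : ⨆ i, V i = ⊤) :
    TopologicalSpace.IsOpenCover (fun W : JJ V => W.1) := by
  change ⨆ W : JJ V, W.1 = ⊤
  rw [eq_top_iff, ← hV]
  exact iSup_le fun i => le_iSup_of_le (⟨V i, i, le_rfl⟩ : JJ V) le_rfl

/-- the cover of `S` by the opens contained in a member of the cover -/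
noncomputable def jCover (hV : ⨆ i, V i = ⊤) : S.OpenCover :=
  S.openCoverOfIsOpenCover (fun W : JJ V => W.1) (isOpenCover_JJ V hV)

instance (hV : ⨆ i, V i = ⊤) : Preorder (jCover V hV).I₀ := inferInstanceAs (Preorder (JJ V))

lemma jCover_opensRange (hV : ⨆ i, V i = ⊤) (W : JJ V) :
    ((jCover V hV).f W).opensRange = W.1 := by
  change (W.1.ι).opensRange = W.1
  exact Scheme.Opens.opensRange_ι _

noncomputable instance (hV : ⨆ i, V i = ⊤) : (jCover V hV).LocallyDirected :=
  .ofIsBasisOpensRange
    (by
      intro i j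
      rw [jCover_opensRange, jCover_opensRange]
      exact Iff.rfl)
    (by
      rw [TopologicalSpace.Opens.isBasis_iff_nbhd]
      intro O x hx
      have hx' : x ∈ ⨆ i, V i := by rw [hV]; trivial
      rw [TopologicalSpace.Opens.mem_iSup] at hx'
      obtain ⟨i, hi⟩ := hx'
      refine ⟨O ⊓ V i, ⟨(⟨O ⊓ V i, i, inf_le_right⟩ : JJ V), jCover_opensRange V hV _⟩,
        ⟨hx, hi⟩, inf_le_left⟩)

end Cover

/-- **Effectivity of an étale descent datum is local on the base** (Zariski). -/
theorem eff₀_of_cover (hg : SGA1.UnivSubmersive g) {ι : Type u} (V : ι → S.Opens)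
    (hV : ⨆ i, V i = ⊤) (h : ∀ i, Eff g D (V i).ι) : Eff₀ g D := by
  rw [eff₀_iff, eff_iff]
  have h' := fun i => (eff_iff.mp (h i))
  choose U hU d using h'
  let idx : JJ V → ι := fun W => W.2.choose
  have hle : ∀ W : JJ V, W.1 ≤ V (idx W) := fun W => W.2.choose_spec
  let Xi : ∀ W : (jCover V hV).I₀, Over ((jCover V hV).X W) := fun W =>
    Over.mk (pullback.snd (U (idx W)).hom (S.homOfLE (hle W)))
  haveI : ∀ W, Etale (Xi W).hom := fun W => by
    haveI := hU (idx W)
    change Etale (pullback.snd (U (idx W)).hom (S.homOfLE (hle W)))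
    infer_instance
  let di : ∀ W, EffData g D ((jCover V hV).f W) (Xi W) := fun W =>
    (d (idx W)).some.bc (S.homOfLE (hle W)) ((jCover V hV).f W) (S.homOfLE_ι (hle W)) (Xi W)
      (pullback.fst _ _) (IsPullback.of_hasPullback _ _)
  exact exists_effData_glue (jCover V hV) Xi di hg

/-- **Effectivity of an étale descent datum can be checked over the local rings of the base.** -/
theorem eff₀_iff_stalk (hg : SGA1.UnivSubmersive g) [QuasiCompact g] [QuasiSeparated g]
    [Etale (D.obj PUnit.unit).hom] [QuasiCompact (D.obj PUnit.unit).hom]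
    [QuasiSeparated (D.obj PUnit.unit).hom] :
    Eff₀ g D ↔ ∀ a : S, Eff g D (S.fromSpecStalk a) := by
  constructor
  · intro h a
    exact h.eff _
  · intro h
    have h' := fun a => (eff_nhd_iff_stalk g D hg a).mpr (h a)
    choose W hW hE using h'
    refine eff₀_of_cover hg W ?_ hE
    rw [eq_top_iff]
    intro x _
    exact TopologicalSpace.Opens.mem_iSup.mpr ⟨x, hW x⟩

end Groth.Agent.H5.EtDesc
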