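import Mathlib
import Groth.Prelude.Def_Desc
import Groth.Prelude.Def_DescFam
import Groth.Prelude.Def_SGA1
import Groth.Agent.Lib.Helper5.EtDesc.EtL

/-!
# The canonical descent datum on a realisation of an étale descent datum (S5122)

If `U'` over `T'` realises the pullback of the descent datum `D` along `p' : T' ⟶ S`, then `U'`
carries a canonical descent datum relative to `p'` (a fortiori relative to any `q : T' ⟶ T` through
which `p'` factors), because realisations are unique up to unique isomorphism.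
-/

set_option autoImplicit false
set_option backward.isDefEq.respectTransparency false
set_option backward.isDefEq.respectTransparency.types false

universe u

open CategoryTheory CategoryTheory.Limits AlgebraicGeometry MorphismProperty

namespace Groth.Agent.H5.EtDesc

variable {S S' : Scheme.{u}} {g : S' ⟶ S} {D : Desc.SchDDFam (fun _ : PUnit.{1} => g)}
variable {T' : Scheme.{u}} {p' : T' ⟶ S} {U' : Over T'} (d' : EffData g D p' U')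

section Pb

variable {T₀ : Scheme.{u}} (x : T₀ ⟶ T')

/-- the pullback of the realisation along a point of the base -/
noncomputable abbrev pbU (U' : Over T') {T₀ : Scheme.{u}} (x : T₀ ⟶ T') : Over T₀ :=
  Over.mk (pullback.snd U'.hom x)

lemma pbU_isPullback : IsPullback (pullback.fst U'.hom x) (pbU U' x).hom U'.hom x :=
  IsPullback.of_hasPullback U'.hom x

/-- the pullback of the realisation data along a point of the base -/
noncomputable def pbD : EffData g D (x ≫ p') (pbU U' x) :=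
  d'.bc x (x ≫ p') rfl (pbU U' x) (pullback.fst U'.hom x) (pbU_isPullback x)

lemma pbD_ev : (pbD d' x).ev =
    Emap g p' x (x ≫ p') rfl U' (pbU U' x) (pullback.fst U'.hom x) (pbU_isPullback x) ≫ d'.ev := rfl

instance [Etale U'.hom] : Etale (pbU U' x).hom := by
  change Etale (pullback.snd U'.hom x)
  infer_instance

end Pb

section B

variable (hg : SGA1.UnivSubmersive g) [Etale U'.hom]
variable {T₀ : Scheme.{u}} (x₀ x₁ : T₀ ⟶ T') (h : x₀ ≫ p' = x₁ ≫ p')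

/-- the transition map `x₀^* U' ⟶ U'` covering `x₁` -/
noncomputable def Bmap : (pbU U' x₀).left ⟶ U'.left :=
  (existsUnique_trans x₁ (x₀ ≫ p') h.symm d' (pbD d' x₀) hg).exists.choose

lemma Bmap_isPullback : IsPullback (Bmap d' hg x₀ x₁ h) (pbU U' x₀).hom U'.hom x₁ :=
  (existsUnique_trans x₁ (x₀ ≫ p') h.symm d' (pbD d' x₀) hg).exists.choose_spec.choose

lemma Bmap_ev : Emap g p' x₁ (x₀ ≫ p') h.symm U' (pbU U' x₀) (Bmap d' hg x₀ x₁ h)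
    (Bmap_isPullback d' hg x₀ x₁ h) ≫ d'.ev = (pbD d' x₀).ev :=
  (existsUnique_trans x₁ (x₀ ≫ p') h.symm d' (pbD d' x₀) hg).exists.choose_spec.choose_spec

lemma Bmap_unique (b : (pbU U' x₀).left ⟶ U'.left)
    (hb : IsPullback b (pbU U' x₀).hom U'.hom x₁)
    (hev : Emap g p' x₁ (x₀ ≫ p') h.symm U' (pbU U' x₀) b hb ≫ d'.ev = (pbD d' x₀).ev) :
    b = Bmap d' hg x₀ x₁ h :=
  (existsUnique_trans x₁ (x₀ ≫ p') h.symm d' (pbD d' x₀) hg).unique ⟨hb, hev⟩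
    ⟨Bmap_isPullback d' hg x₀ x₁ h, Bmap_ev d' hg x₀ x₁ h⟩

lemma Bmap_self (x : T₀ ⟶ T') : Bmap d' hg x x rfl = pullback.fst U'.hom x :=
  (Bmap_unique d' hg x x rfl _ (pbU_isPullback x) rfl).symm

/-- the induced morphism `x₀^* U' ⟶ x₁^* U'` over `T₀` -/
noncomputable def Fmap₀ : (pbU U' x₀).left ⟶ (pbU U' x₁).left :=
  pullback.lift (Bmap d' hg x₀ x₁ h) (pbU U' x₀).hom (Bmap_isPullback d' hg x₀ x₁ h).w

lemma Fmap₀_fst : Fmap₀ d' hg x₀ x₁ h ≫ pullback.fst U'.hom x₁ = Bmap d' hg x₀ x₁ h :=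
  pullback.lift_fst _ _ _

lemma Fmap₀_snd : Fmap₀ d' hg x₀ x₁ h ≫ (pbU U' x₁).hom = (pbU U' x₀).hom :=
  pullback.lift_snd _ _ _

lemma Fmap₀_isPullback :
    IsPullback (Fmap₀ d' hg x₀ x₁ h) (pbU U' x₀).hom (pbU U' x₁).hom (𝟙 T₀) := by
  refine IsPullback.of_right (h₁₂ := pullback.fst U'.hom x₁) (h₂₂ := x₁) (v₁₃ := U'.hom) ?_
    ((Fmap₀_snd d' hg x₀ x₁ h).trans (Category.comp_id _).symm) (pbU_isPullback x₁)
  rw [Fmap₀_fst, Category.id_comp]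
  exact Bmap_isPullback d' hg x₀ x₁ h

lemma Bmap_comp (x₂ : T₀ ⟶ T') (h₁₂ : x₁ ≫ p' = x₂ ≫ p') :
    Fmap₀ d' hg x₀ x₁ h ≫ Bmap d' hg x₁ x₂ h₁₂ = Bmap d' hg x₀ x₂ (h.trans h₁₂) := by
  have hb : IsPullback (Fmap₀ d' hg x₀ x₁ h ≫ Bmap d' hg x₁ x₂ h₁₂) (pbU U' x₀).hom U'.hom x₂ := by
    have := (Fmap₀_isPullback d' hg x₀ x₁ h).paste_horiz (Bmap_isPullback d' hg x₁ x₂ h₁₂)
    rwa [Category.id_comp] at this
  refine Bmap_unique d' hg x₀ x₂ (h.trans h₁₂) _ hb ?_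
  have hid : (𝟙 T₀) ≫ x₁ ≫ p' = x₀ ≫ p' := by rw [Category.id_comp, h]
  rw [← Emap_comp' g p' x₂ (x₁ ≫ p') h₁₂.symm (𝟙 T₀) (x₀ ≫ p') hid U' (pbU U' x₁) (pbU U' x₀)
    (Bmap d' hg x₁ x₂ h₁₂) (Bmap_isPullback d' hg x₁ x₂ h₁₂) (Fmap₀ d' hg x₀ x₁ h)
    (Fmap₀_isPullback d' hg x₀ x₁ h) x₂ (h.trans h₁₂).symm _ hb (Category.id_comp _) rfl,
    Category.assoc, Bmap_ev, pbD_ev, ← Category.assoc,
    Emap_comp' g p' x₁ (x₁ ≫ p') rfl (𝟙 T₀) (x₀ ≫ p') hid U' (pbU U' x₁) (pbU U' x₀)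
    (pullback.fst U'.hom x₁) (pbU_isPullback x₁) (Fmap₀ d' hg x₀ x₁ h)
    (Fmap₀_isPullback d' hg x₀ x₁ h) x₁ h.symm (Bmap d' hg x₀ x₁ h)
    (Bmap_isPullback d' hg x₀ x₁ h) (Category.id_comp _) (Fmap₀_fst d' hg x₀ x₁ h)]
  exact Bmap_ev d' hg x₀ x₁ h

/-- the base change map `(r ≫ x)^* U' ⟶ x^* U'` -/
noncomputable def Cmap {T₁ : Scheme.{u}} (r : T₁ ⟶ T₀) (x : T₀ ⟶ T') :
    (pbU U' (r ≫ x)).left ⟶ (pbU U' x).left :=
  pullback.lift (pullback.fst U'.hom (r ≫ x)) (pullback.snd U'.hom (r ≫ x) ≫ r)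
    (by rw [pullback.condition, Category.assoc])

lemma Cmap_fst {T₁ : Scheme.{u}} (r : T₁ ⟶ T₀) (x : T₀ ⟶ T') :
    Cmap (U' := U') r x ≫ pullback.fst U'.hom x = pullback.fst U'.hom (r ≫ x) :=
  pullback.lift_fst _ _ _

lemma Cmap_snd {T₁ : Scheme.{u}} (r : T₁ ⟶ T₀) (x : T₀ ⟶ T') :
    Cmap (U' := U') r x ≫ (pbU U' x).hom = (pbU U' (r ≫ x)).hom ≫ r :=
  pullback.lift_snd _ _ _

lemma Cmap_isPullback {T₁ : Scheme.{u}} (r : T₁ ⟶ T₀) (x : T₀ ⟶ T') :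
    IsPullback (Cmap (U' := U') r x) (pbU U' (r ≫ x)).hom (pbU U' x).hom r := by
  refine IsPullback.of_right (h₁₂ := pullback.fst U'.hom x) (h₂₂ := x) (v₁₃ := U'.hom) ?_
    (Cmap_snd r x) (pbU_isPullback x)
  rw [Cmap_fst]
  exact pbU_isPullback (r ≫ x)

lemma Bmap_natural {T₁ : Scheme.{u}} (r : T₁ ⟶ T₀) (h' : (r ≫ x₀) ≫ p' = (r ≫ x₁) ≫ p') :
    Cmap r x₀ ≫ Bmap d' hg x₀ x₁ h = Bmap d' hg (r ≫ x₀) (r ≫ x₁) h' := by
  have hb : IsPullback (Cmap r x₀ ≫ Bmap d' hg x₀ x₁ h) (pbU U' (r ≫ x₀)).hom U'.hom (r ≫ x₁) :=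
    (Cmap_isPullback r x₀).paste_horiz (Bmap_isPullback d' hg x₀ x₁ h)
  refine Bmap_unique d' hg (r ≫ x₀) (r ≫ x₁) h' _ hb ?_
  have hr : r ≫ x₀ ≫ p' = (r ≫ x₀) ≫ p' := (Category.assoc _ _ _).symm
  have e1 := Emap_comp' g p' x₁ (x₀ ≫ p') h.symm r ((r ≫ x₀) ≫ p') hr U' (pbU U' x₀)
    (pbU U' (r ≫ x₀)) (Bmap d' hg x₀ x₁ h) (Bmap_isPullback d' hg x₀ x₁ h) (Cmap r x₀)
    (Cmap_isPullback r x₀) (r ≫ x₁) h'.symm _ hb rfl rfl
  have e2 := Emap_comp' g p' x₀ (x₀ ≫ p') rfl r ((r ≫ x₀) ≫ p') hr U' (pbU U' x₀)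
    (pbU U' (r ≫ x₀)) (pullback.fst U'.hom x₀) (pbU_isPullback x₀) (Cmap r x₀)
    (Cmap_isPullback r x₀) (r ≫ x₀) rfl
    (pullback.fst U'.hom (r ≫ x₀)) (pbU_isPullback (r ≫ x₀)) rfl (Cmap_fst r x₀)
  rw [← e1]
  refine (Category.assoc _ _ _).trans ?_
  rw [Bmap_ev, pbD_ev]
  refine (Category.assoc _ _ _).symm.trans ?_
  rw [e2]
  rfl

end B

section DD

variable (hg : SGA1.UnivSubmersive g) [Etale U'.hom]

/-- the section of `x^* U'` associated with a point of `U'` over `x` -/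
noncomputable def liftSec {T₀ : Scheme.{u}} {x : T₀ ⟶ T'} (v : Desc.Lifts U' x) :
    T₀ ⟶ (pbU U' x).left :=
  pullback.lift v.1 (𝟙 T₀) (by rw [v.2, Category.id_comp])

lemma liftSec_fst {T₀ : Scheme.{u}} {x : T₀ ⟶ T'} (v : Desc.Lifts U' x) :
    liftSec v ≫ pullback.fst U'.hom x = v.1 := pullback.lift_fst _ _ _

lemma liftSec_snd {T₀ : Scheme.{u}} {x : T₀ ⟶ T'} (v : Desc.Lifts U' x) :
    liftSec v ≫ (pbU U' x).hom = 𝟙 T₀ := pullback.lift_snd _ _ _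

/-- the gluing map on points -/
noncomputable def phiFun {T₀ : Scheme.{u}} (x₀ x₁ : T₀ ⟶ T') (h : x₀ ≫ p' = x₁ ≫ p')
    (v : Desc.Lifts U' x₀) : Desc.Lifts U' x₁ :=
  ⟨liftSec v ≫ Bmap d' hg x₀ x₁ h, by
    rw [Category.assoc, (Bmap_isPullback d' hg x₀ x₁ h).w, ← Category.assoc, liftSec_snd,
      Category.id_comp]⟩

lemma phiFun_val {T₀ : Scheme.{u}} (x₀ x₁ : T₀ ⟶ T') (h : x₀ ≫ p' = x₁ ≫ p')
    (v : Desc.Lifts U' x₀) : (phiFun d' hg x₀ x₁ h v).1 = liftSec v ≫ Bmap d' hg x₀ x₁ h := rfl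

lemma phiFun_self {T₀ : Scheme.{u}} (x : T₀ ⟶ T') (v : Desc.Lifts U' x) :
    phiFun d' hg x x rfl v = v := by
  apply Subtype.ext
  rw [phiFun_val, Bmap_self, liftSec_fst]

lemma liftSec_phiFun {T₀ : Scheme.{u}} (x₀ x₁ : T₀ ⟶ T') (h : x₀ ≫ p' = x₁ ≫ p')
    (v : Desc.Lifts U' x₀) :
    liftSec (phiFun d' hg x₀ x₁ h v) = liftSec v ≫ Fmap₀ d' hg x₀ x₁ h := by
  apply pullback.hom_ext
  · rw [liftSec_fst, Category.assoc, Fmap₀_fst, phiFun_val]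
  · have e1 : liftSec (phiFun d' hg x₀ x₁ h v) ≫ pullback.snd U'.hom x₁ = 𝟙 T₀ :=
      liftSec_snd _
    have e2 : Fmap₀ d' hg x₀ x₁ h ≫ pullback.snd U'.hom x₁ = (pbU U' x₀).hom :=
      Fmap₀_snd d' hg x₀ x₁ h
    rw [e1, Category.assoc, e2, liftSec_snd]

lemma phiFun_comp {T₀ : Scheme.{u}} (x₀ x₁ x₂ : T₀ ⟶ T') (h₀₁ : x₀ ≫ p' = x₁ ≫ p')
    (h₁₂ : x₁ ≫ p' = x₂ ≫ p') (v : Desc.Lifts U' x₀) :
    phiFun d' hg x₁ x₂ h₁₂ (phiFun d' hg x₀ x₁ h₀₁ v) = phiFun d' hg x₀ x₂ (h₀₁.trans h₁₂) v := by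
  apply Subtype.ext
  rw [phiFun_val, liftSec_phiFun, Category.assoc, Bmap_comp, phiFun_val]

lemma phiFun_natural {T₀ T₁ : Scheme.{u}} (r : T₁ ⟶ T₀) (x₀ x₁ : T₀ ⟶ T')
    (h : x₀ ≫ p' = x₁ ≫ p') (h' : (r ≫ x₀) ≫ p' = (r ≫ x₁) ≫ p') (v : Desc.Lifts U' x₀)
    (v' : Desc.Lifts U' (r ≫ x₀)) (hv : v'.1 = r ≫ v.1) :
    (phiFun d' hg (r ≫ x₀) (r ≫ x₁) h' v').1 = r ≫ (phiFun d' hg x₀ x₁ h v).1 := by
  have e : liftSec v' ≫ Cmap r x₀ = r ≫ liftSec v := by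
    apply pullback.hom_ext
    · rw [Category.assoc, Cmap_fst, liftSec_fst, Category.assoc, liftSec_fst, hv]
    · have e1 : Cmap (U' := U') r x₀ ≫ pullback.snd U'.hom x₀ = (pbU U' (r ≫ x₀)).hom ≫ r :=
        Cmap_snd r x₀
      have e2 : liftSec v ≫ pullback.snd U'.hom x₀ = 𝟙 T₀ := liftSec_snd v
      rw [Category.assoc, e1, ← Category.assoc, liftSec_snd, Category.id_comp, Category.assoc, e2,
        Category.comp_id]
  rw [phiFun_val, phiFun_val, ← Bmap_natural d' hg x₀ x₁ h r h', ← Category.assoc, e,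
    Category.assoc]

variable {T : Scheme.{u}} {p : T ⟶ S} (q : T' ⟶ T) (hq : q ≫ p = p')

include hq in
lemma eq_of_q {T₀ : Scheme.{u}} {x₀ x₁ : T₀ ⟶ T'} (h : x₀ ≫ q = x₁ ≫ q) :
    x₀ ≫ p' = x₁ ≫ p' := by
  rw [← hq, ← Category.assoc, h, Category.assoc]

/-- **The canonical descent datum on a realisation**, relative to `q`. -/
noncomputable def ddOf : Desc.SchDD q where
  obj := U'
  φ T₀ x₀ x₁ h :=
    { toFun := phiFun d' hg x₀ x₁ (eq_of_q q hq h)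
      invFun := phiFun d' hg x₁ x₀ (eq_of_q q hq h).symm
      left_inv := fun v => by
        rw [phiFun_comp]
        exact phiFun_self d' hg x₀ v
      right_inv := fun v => by
        rw [phiFun_comp]
        exact phiFun_self d' hg x₁ v }
  φ_natural T₀ T₁ r x₀ x₁ h h' v v' hv :=
    phiFun_natural d' hg r x₀ x₁ (eq_of_q q hq h) (eq_of_q q hq h') v v' hv
  φ_self T₀ x v := phiFun_self d' hg x v
  φ_comp T₀ x₀ x₁ x₂ h₀₁ h₁₂ v :=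
    phiFun_comp d' hg x₀ x₁ x₂ (eq_of_q q hq h₀₁) (eq_of_q q hq h₁₂) v

@[simp] lemma ddOf_obj : (ddOf d' hg q hq).obj = U' := rfl

lemma ddOf_φ {T₀ : Scheme.{u}} (x₀ x₁ : T₀ ⟶ T') (h : x₀ ≫ q = x₁ ≫ q) (v : Desc.Lifts U' x₀) :
    (ddOf d' hg q hq).φ x₀ x₁ h v = phiFun d' hg x₀ x₁ (eq_of_q q hq h) v := rfl

end DD

end Groth.Agent.H5.EtDesc
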