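import Mathlib
import Groth.Prelude.Def_Desc
import Groth.Prelude.Def_DescFam
import Groth.Prelude.Def_SGA1
import Groth.Agent.Lib.Helper5.EtDesc.EtP
import Groth.Agent.Lib.Helper5.EtDesc.EtN

/-!
# Descending a realisation of an étale descent datum along an fpqc morphism (S5122)
-/

set_option autoImplicit false
set_option backward.isDefEq.respectTransparency false
set_option backward.isDefEq.respectTransparency.types false

universe u

open CategoryTheory CategoryTheory.Limits AlgebraicGeometry MorphismProperty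

namespace Groth.Agent.H5.EtDesc

variable {S S' : Scheme.{u}} {g : S' ⟶ S} {D : Desc.SchDDFam (fun _ : PUnit.{1} => g)}

section Descend

variable {T T' : Scheme.{u}} {p : T ⟶ S} (q : T' ⟶ T) (p' : T' ⟶ S) (hq : q ≫ p = p')
variable {U' : Over T'} [Etale U'.hom] (d' : EffData g D p' U') (hg : SGA1.UnivSubmersive g)
variable (U : Over T) (b' : U'.left ⟶ U.left) (hb' : IsPullback b' U'.hom U.hom q)

/-- the compatibility of the cartesian map `b'` with the canonical descent datum on `U'` -/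
def DescCompat : Prop :=
  ∀ ⦃T₀ : Scheme.{u}⦄ (u₀ u₁ : T₀ ⟶ U'.left) (h : (u₀ ≫ U'.hom) ≫ p' = (u₁ ≫ U'.hom) ≫ p'),
    u₀ ≫ b' = u₁ ≫ b' → (phiFun d' hg (u₀ ≫ U'.hom) (u₁ ≫ U'.hom) h ⟨u₀, rfl⟩).1 = u₁

/-- the value of the realisation on points does not depend on the point of `T'` -/
lemma pt_eq_of_compat (H : DescCompat p' d' hg U b') {T₀ : Scheme.{u}}
    (s₀ s₁ : T₀ ⟶ pullback g p') (u₀ u₁ : T₀ ⟶ U'.left)
    (hc₀ : s₀ ≫ pullback.snd g p' = u₀ ≫ U'.hom) (hc₁ : s₁ ≫ pullback.snd g p' = u₁ ≫ U'.hom)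
    (hSf : s₀ ≫ pullback.fst g p' = s₁ ≫ pullback.fst g p') (hB : u₀ ≫ b' = u₁ ≫ b') :
    d'.pt s₀ u₀ hc₀ = d'.pt s₁ u₁ hc₁ := by
  -- the two points of `T'`
  have hx : (u₀ ≫ U'.hom) ≫ p' = (u₁ ≫ U'.hom) ≫ p' := by
    rw [← hc₀, ← hc₁, Category.assoc, Category.assoc, ← pullback.condition, ← Category.assoc,
      ← Category.assoc, hSf]
  have hφ := H u₀ u₁ hx hB
  rw [phiFun_val] at hφ
  -- the auxiliary point of `S' ×_S T₀`
  have hσc : (s₀ ≫ pullback.fst g p') ≫ g = 𝟙 T₀ ≫ (u₀ ≫ U'.hom) ≫ p' := by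
    rw [Category.id_comp, ← hc₀, Category.assoc, Category.assoc, pullback.condition]
  let σ : T₀ ⟶ pullback g ((u₀ ≫ U'.hom) ≫ p') :=
    pullback.lift (s₀ ≫ pullback.fst g p') (𝟙 T₀) hσc
  have hσf : σ ≫ pullback.fst g ((u₀ ≫ U'.hom) ≫ p') = s₀ ≫ pullback.fst g p' :=
    pullback.lift_fst _ _ _
  have hσs : σ ≫ pullback.snd g ((u₀ ≫ U'.hom) ≫ p') = 𝟙 T₀ := pullback.lift_snd _ _ _
  have hσ₀ : σ ≫ Smap g p' (u₀ ≫ U'.hom) ((u₀ ≫ U'.hom) ≫ p') rfl = s₀ := by
    apply pullback.hom_ext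
    · rw [Category.assoc, Smap_fst, hσf]
    · rw [Category.assoc, Smap_snd, reassoc_of% hσs, hc₀]
  have hσ₁ : σ ≫ Smap g p' (u₁ ≫ U'.hom) ((u₀ ≫ U'.hom) ≫ p') hx.symm = s₁ := by
    apply pullback.hom_ext
    · rw [Category.assoc, Smap_fst, hσf, hSf]
    · rw [Category.assoc, Smap_snd, reassoc_of% hσs, hc₁]
  let v : Desc.Lifts U' (u₀ ≫ U'.hom) := ⟨u₀, rfl⟩
  have hPt : σ ≫ pullback.snd g ((u₀ ≫ U'.hom) ≫ p') =
      liftSec v ≫ (pbU U' (u₀ ≫ U'.hom)).hom := by
    rw [liftSec_snd, hσs]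
  have key : pullback.lift σ (liftSec v) hPt ≫
      Emap g p' (u₁ ≫ U'.hom) ((u₀ ≫ U'.hom) ≫ p') hx.symm U' (pbU U' (u₀ ≫ U'.hom))
        (Bmap d' hg (u₀ ≫ U'.hom) (u₁ ≫ U'.hom) hx)
        (Bmap_isPullback d' hg (u₀ ≫ U'.hom) (u₁ ≫ U'.hom) hx) ≫ d'.ev =
      pullback.lift σ (liftSec v) hPt ≫
        Emap g p' (u₀ ≫ U'.hom) ((u₀ ≫ U'.hom) ≫ p') rfl U' (pbU U' (u₀ ≫ U'.hom))
          (pullback.fst U'.hom (u₀ ≫ U'.hom)) (pbU_isPullback (u₀ ≫ U'.hom)) ≫ d'.ev := by
    rw [Bmap_ev, pbD_ev]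
  rw [← Category.assoc, ← Category.assoc, lift_Emap, lift_Emap] at key
  -- identify both sides
  have e₁ : d'.pt s₁ u₁ hc₁ = pullback.lift
      (σ ≫ Smap g p' (u₁ ≫ U'.hom) ((u₀ ≫ U'.hom) ≫ p') hx.symm)
      (liftSec v ≫ Bmap d' hg (u₀ ≫ U'.hom) (u₁ ≫ U'.hom) hx)
      (by rw [Category.assoc, Smap_snd, reassoc_of% hPt, Category.assoc,
        (Bmap_isPullback d' hg (u₀ ≫ U'.hom) (u₁ ≫ U'.hom) hx).w]) ≫ d'.ev :=
    d'.pt_congr hc₁ hσ₁.symm hφ.symm
  have e₀ : d'.pt s₀ u₀ hc₀ = pullback.lift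
      (σ ≫ Smap g p' (u₀ ≫ U'.hom) ((u₀ ≫ U'.hom) ≫ p') rfl)
      (liftSec v ≫ pullback.fst U'.hom (u₀ ≫ U'.hom))
      (by rw [Category.assoc, Smap_snd, reassoc_of% hPt, Category.assoc,
        (pbU_isPullback (U' := U') (u₀ ≫ U'.hom)).w]) ≫ d'.ev :=
    d'.pt_congr hc₀ hσ₀.symm (liftSec_fst v).symm
  rw [e₀, e₁]
  exact key.symm

include hb' in
/-- the evaluation morphism is constant on the fibres of the base change map -/
lemma ev_eq_of_Emap_eq (H : DescCompat p' d' hg U b') {T₀ : Scheme.{u}}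
    (a₀ a₁ : T₀ ⟶ pullback (pullback.snd g p') U'.hom)
    (h : a₀ ≫ Emap g p q p' hq U U' b' hb' = a₁ ≫ Emap g p q p' hq U U' b' hb') :
    a₀ ≫ d'.ev = a₁ ≫ d'.ev := by
  have hc : ∀ a : T₀ ⟶ pullback (pullback.snd g p') U'.hom,
      (a ≫ pullback.fst (pullback.snd g p') U'.hom) ≫ pullback.snd g p' =
        (a ≫ pullback.snd (pullback.snd g p') U'.hom) ≫ U'.hom := fun a => by
    rw [Category.assoc, Category.assoc, pullback.condition]
  have ha : ∀ a : T₀ ⟶ pullback (pullback.snd g p') U'.hom,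
      a ≫ d'.ev = d'.pt (a ≫ pullback.fst (pullback.snd g p') U'.hom)
        (a ≫ pullback.snd (pullback.snd g p') U'.hom) (hc a) := fun a => by
    rw [EffData.pt]
    congr 1
    apply pullback.hom_ext
    · rw [pullback.lift_fst]
    · rw [pullback.lift_snd]
  have hS : (a₀ ≫ pullback.fst (pullback.snd g p') U'.hom) ≫ Smap g p q p' hq =
      (a₁ ≫ pullback.fst (pullback.snd g p') U'.hom) ≫ Smap g p q p' hq := by
    have := congrArg (· ≫ pullback.fst (pullback.snd g p) U.hom) h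
    simpa only [Category.assoc, Emap_fst] using this
  have hB : (a₀ ≫ pullback.snd (pullback.snd g p') U'.hom) ≫ b' =
      (a₁ ≫ pullback.snd (pullback.snd g p') U'.hom) ≫ b' := by
    have := congrArg (· ≫ pullback.snd (pullback.snd g p) U.hom) h
    simpa only [Category.assoc, Emap_snd] using this
  have hSf : (a₀ ≫ pullback.fst (pullback.snd g p') U'.hom) ≫ pullback.fst g p' =
      (a₁ ≫ pullback.fst (pullback.snd g p') U'.hom) ≫ pullback.fst g p' := by
    have := congrArg (· ≫ pullback.fst g p) hS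
    simpa only [Category.assoc, Smap_fst] using this
  rw [ha a₀, ha a₁]
  exact pt_eq_of_compat p' d' hg U b' H _ _ _ _ (hc a₀) (hc a₁) hSf hB

include hb' in
/-- **Descent of a realisation along an fpqc morphism.** -/
theorem exists_effData_descend [Flat q] [Surjective q] [QuasiCompact q]
    (H : DescCompat p' d' hg U b') :
    ∃ d : EffData g D p U, Emap g p q p' hq U U' b' hb' ≫ d.ev = d'.ev := by
  have hEb := isPullback_Emap_base g p q p' hq U U' b' hb'
  haveI : Flat (Emap g p q p' hq U U' b' hb') :=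
    MorphismProperty.of_isPullback (P := @Flat) hEb.flip inferInstance
  haveI : Surjective (Emap g p q p' hq U U' b' hb') :=
    MorphismProperty.of_isPullback (P := @Surjective) hEb.flip inferInstance
  haveI : QuasiCompact (Emap g p q p' hq U U' b' hb') :=
    MorphismProperty.of_isPullback (P := @QuasiCompact) hEb.flip inferInstance
  let ev := EffectiveEpi.desc (Emap g p q p' hq U U' b' hb') d'.ev
    (fun a₀ a₁ h => ev_eq_of_Emap_eq q p' hq d' hg U b' hb' H a₀ a₁ h)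
  have hfac : Emap g p q p' hq U U' b' hb' ≫ ev = d'.ev := EffectiveEpi.fac _ _ _
  have hev_hom : ev ≫ (D.obj PUnit.unit).hom =
      pullback.fst (pullback.snd g p) U.hom ≫ pullback.fst g p := by
    rw [← cancel_epi (Emap g p q p' hq U U' b' hb'), reassoc_of% hfac, d'.ev_hom, Emap_fst_assoc,
      Smap_fst]
  let e : PreEff g D p U := ⟨ev, hev_hom⟩
  have hbc : e.bc q p' hq U' b' hb' = d'.toPreEff := PreEff.ext' hfac
  refine ⟨⟨e, ?_, ?_⟩, hfac⟩
  · have sq := (e.bc_theta_isPullback q p' hq U' b' hb').flip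
    have hF := isPullback_Fmap_base (D := D) q p' hq
    have hQ : (@Surjective ⊓ @Flat ⊓ @QuasiCompact : MorphismProperty Scheme.{u})
        (Fmap g D p q p' hq) :=
      ⟨⟨MorphismProperty.of_isPullback (P := @Surjective) hF.flip inferInstance,
        MorphismProperty.of_isPullback (P := @Flat) hF.flip inferInstance⟩,
        MorphismProperty.of_isPullback (P := @QuasiCompact) hF.flip inferInstance⟩
    have hiso : (isomorphisms Scheme.{u}) (e.bc q p' hq U' b' hb').theta := by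
      rw [hbc]
      exact d'.isIso
    have : (isomorphisms Scheme.{u}) e.theta :=
      MorphismProperty.of_isPullback_of_descendsAlong (P := isomorphisms Scheme.{u})
        (Q := (@Surjective ⊓ @Flat ⊓ @QuasiCompact : MorphismProperty Scheme.{u})) sq hQ hiso
    exact this
  · rw [PreEff.commProp_iff]
    have hR := isPullback_Rmap g p q p' hq U U' b' hb'
    haveI : Flat (Rmap g p q p' hq U U' b' hb') :=
      MorphismProperty.of_isPullback (P := @Flat) hR.flip inferInstance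
    haveI : Surjective (Rmap g p q p' hq U U' b' hb') :=
      MorphismProperty.of_isPullback (P := @Surjective) hR.flip inferInstance
    haveI : Epi (Rmap g p q p' hq U U' b' hb') := Flat.epi_of_flat_of_surjective _
    rw [← cancel_epi (Rmap g p q p' hq U U' b' hb'), e.bc_lhs, e.bc_rhs, hbc]
    exact (PreEff.commProp_iff _).mp d'.comm

end Descend

end Groth.Agent.H5.EtDesc
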