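import Mathlib
import Groth.Prelude.Def_Desc
import Groth.Prelude.Def_DescFam
import Groth.Prelude.Def_SGA1
import Groth.Agent.Lib.Helper5.EtDesc.EtQ
import Groth.Agent.Lib.Helper5.EtDesc.EtO
import Groth.Agent.Lib.Helper3.IQA.EtSep

/-!
# fpqc descent of effectivity for étale, separated, quasi-compact descent data (S5122, S5126)
-/

set_option autoImplicit false
set_option backward.isDefEq.respectTransparency false
set_option backward.isDefEq.respectTransparency.types false

universe u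

open CategoryTheory CategoryTheory.Limits AlgebraicGeometry MorphismProperty

namespace Groth.Agent.H5.EtDesc

variable {S S' : Scheme.{u}} {g : S' ⟶ S} {D : Desc.SchDDFam (fun _ : PUnit.{1} => g)}

section Fpqc

variable {T T' : Scheme.{u}} {p : T ⟶ S} (q : T' ⟶ T) (p' : T' ⟶ S) (hq : q ≫ p = p')
variable {U' : Over T'} (d' : EffData g D p' U') (hg : SGA1.UnivSubmersive g)

include hq d' hg in
/-- **fpqc descent of realisations** of an étale descent datum (étale, separated, quasi-compact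
realisations). -/
theorem exists_effData_of_fpqc [Flat q] [Surjective q] [QuasiCompact q]
    [Etale U'.hom] [IsSeparated U'.hom] [QuasiCompact U'.hom] :
    ∃ U : Over T, Etale U.hom ∧ IsSeparated U.hom ∧ QuasiCompact U.hom ∧
      Nonempty (EffData g D p U) := by
  haveI h1 : QuasiCompact (ddOf d' hg q hq).obj.hom := ‹QuasiCompact U'.hom›
  haveI h2 : IsSeparated (ddOf d' hg q hq).obj.hom := ‹IsSeparated U'.hom›
  haveI h3 : Etale (ddOf d' hg q hq).obj.hom := ‹Etale U'.hom›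
  obtain ⟨U, hqc, hsep, het, ⟨Θ⟩⟩ :=
    Groth.Agent.H3.IQA.exists_etale_sep_qc_of_fpqc q (ddOf d' hg q hq)
  -- the underlying isomorphism
  let θ : pullback q U.hom ⟶ U'.left := Θ.hom.hom.left
  haveI hθiso : IsIso θ := by
    refine ⟨Θ.inv.hom.left, ?_, ?_⟩
    · exact congrArg (fun m => (Desc.SchDD.Hom.hom m).left) Θ.hom_inv_id
    · exact congrArg (fun m => (Desc.SchDD.Hom.hom m).left) Θ.inv_hom_id
  have hθ : θ ≫ U'.hom = pullback.fst q U.hom := Over.w Θ.hom.hom
  have hθ' : inv θ ≫ pullback.fst q U.hom = U'.hom := by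
    rw [IsIso.inv_comp_eq, hθ]
  obtain ⟨b', hb'def⟩ : ∃ b' : U'.left ⟶ U.left, b' = inv θ ≫ pullback.snd q U.hom := ⟨_, rfl⟩
  have hb' : IsPullback b' U'.hom U.hom q := by
    have h1 : IsPullback (inv θ) U'.hom (pullback.fst q U.hom) (𝟙 T') :=
      IsPullback.of_horiz_isIso ⟨by rw [hθ', Category.comp_id]⟩
    have := h1.paste_horiz (IsPullback.of_hasPullback q U.hom).flip
    rwa [Category.id_comp, ← hb'def] at this
  have H : DescCompat p' d' hg U b' := by
    intro T₀ u₀ u₁ h hB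
    have hx : (u₀ ≫ U'.hom) ≫ q = (u₁ ≫ U'.hom) ≫ q := by
      rw [Category.assoc, Category.assoc, ← hb'.w, ← Category.assoc, ← Category.assoc, hB]
    let v₀ : Desc.Lifts ((Desc.toDD q).obj U).obj (u₀ ≫ U'.hom) :=
      ⟨u₀ ≫ inv θ, by
        change (u₀ ≫ inv θ) ≫ pullback.fst q U.hom = _
        rw [Category.assoc, hθ']⟩
    let w : Desc.Lifts (ddOf d' hg q hq).obj (u₀ ≫ U'.hom) := ⟨u₀, rfl⟩
    have hw : w.1 = v₀.1 ≫ Θ.hom.hom.left := by
      change u₀ = (u₀ ≫ inv θ) ≫ θ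
      rw [Category.assoc, IsIso.inv_hom_id, Category.comp_id]
    have key := Θ.hom.comm (u₀ ≫ U'.hom) (u₁ ≫ U'.hom) hx v₀ w hw
    have e1 : (((Desc.toDD q).obj U).φ (u₀ ≫ U'.hom) (u₁ ≫ U'.hom) hx v₀).1 = u₁ ≫ inv θ := by
      change pullback.lift (u₁ ≫ U'.hom) ((u₀ ≫ inv θ) ≫ pullback.snd q U.hom) _ = _
      apply pullback.hom_ext
      · rw [pullback.lift_fst, Category.assoc, hθ']
      · rw [pullback.lift_snd, Category.assoc, Category.assoc, ← hb'def]
        exact hB
    rw [e1, Category.assoc] at key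
    change (phiFun d' hg (u₀ ≫ U'.hom) (u₁ ≫ U'.hom) _ ⟨u₀, rfl⟩).1 = u₁ ≫ inv θ ≫ θ at key
    rw [IsIso.inv_hom_id, Category.comp_id] at key
    exact key
  obtain ⟨d, -⟩ := exists_effData_descend q p' hq d' hg U b' hb' H
  exact ⟨U, het, hsep, hqc, ⟨d⟩⟩

end Fpqc

/-- **S5122.** Effectivity (étale, separated, quasi-compact realisations) of a descent datum can be
checked after an fpqc base change. -/
theorem eff_sep_qc_iff_fpqc (hg : SGA1.UnivSubmersive g) {S₁ : Scheme.{u}} (p : S₁ ⟶ S) [Flat p]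
    [Surjective p] [QuasiCompact p] :
    (∃ U : Over S, Etale U.hom ∧ IsSeparated U.hom ∧ QuasiCompact U.hom ∧
        Nonempty ((Desc.toDDFam (fun _ : PUnit.{1} => g)).obj U ≅ D)) ↔
      (∃ U : Over S₁, Etale U.hom ∧ IsSeparated U.hom ∧ QuasiCompact U.hom ∧
        Nonempty ((Desc.toDDFam (fun _ : PUnit.{1} => pullback.snd g p)).obj U ≅ pullD g D p)) := by
  constructor
  · rintro ⟨U, het, hsep, hqc, ⟨Θ⟩⟩
    let d : EffData g D (𝟙 S) U := EffData.ofIso₀ Θ
    let U₁ : Over S₁ := Over.mk (pullback.snd U.hom p)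
    let d₁ : EffData g D p U₁ := d.bc p p (Category.comp_id p) U₁ (pullback.fst U.hom p)
      (IsPullback.of_hasPullback U.hom p)
    refine ⟨U₁, ?_, ?_, ?_, ⟨d₁.isoDD⟩⟩
    · change Etale (pullback.snd U.hom p)
      infer_instance
    · change IsSeparated (pullback.snd U.hom p)
      infer_instance
    · change QuasiCompact (pullback.snd U.hom p)
      infer_instance
  · rintro ⟨U₁, het, hsep, hqc, ⟨Θ₁⟩⟩
    let d' : EffData g D p U₁ := EffData.ofIso g D p U₁ Θ₁
    obtain ⟨U, het', hsep', hqc', ⟨d⟩⟩ :=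
      exists_effData_of_fpqc (p := 𝟙 S) p p (Category.comp_id p) d' hg
    exact ⟨U, het', hsep', hqc', ⟨d.isoDD₀⟩⟩

end Groth.Agent.H5.EtDesc
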