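import Mathlib
import Groth.Prelude.Def_Desc
import Groth.Prelude.Def_DescFam
import Groth.Prelude.Def_SGA1
import Groth.Agent.Lib.Helper5.EtDesc.EtR

/-!
# Effectivity of étale descent data can be checked over the completed local rings (S5126)
-/

set_option autoImplicit false
set_option backward.isDefEq.respectTransparency false
set_option backward.isDefEq.respectTransparency.types false

universe u

open CategoryTheory CategoryTheory.Limits AlgebraicGeometry MorphismProperty

namespace Groth.Agent.H5.EtDesc

variable {S S' : Scheme.{u}} {g : S' ⟶ S} {D : Desc.SchDDFam (fun _ : PUnit.{1} => g)}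

section Sep

variable {T : Scheme.{u}} {p : T ⟶ S} (hg : SGA1.UnivSubmersive g)

include hg in
/-- a realisation of a separated descent datum is separated -/
lemma EffData.isSeparated [IsSeparated (D.obj PUnit.unit).hom] {U : Over T}
    (d : EffData g D p U) : IsSeparated U.hom := by
  haveI := d.isIso
  haveI h1 : IsSeparated (pullback.fst (pullback.snd g p) U.hom) := by
    rw [← d.toPreEff.theta_snd]
    infer_instance
  have hγ : SGA1.UnivSubmersive (pullback.snd g p) :=
    Groth.Agent.Lib.Helper1.Subtr8.univSubmersive_of_isPullback hg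
      (IsPullback.of_hasPullback g p).flip
  exact Groth.Agent.Lib.Helper1.Subtr8.isSeparated_of_isPullback hγ
    (IsPullback.of_hasPullback (pullback.snd g p) U.hom).flip

end Sep

section Compl

/-- the completion morphism of a noetherian local ring is faithfully flat -/
lemma flat_surjective_SpecMap_completion (R : Type u) [CommRing R] [IsNoetherianRing R]
    [IsLocalRing R] :
    Flat (Spec.map (CommRingCat.ofHom (algebraMap R
      (AdicCompletion (IsLocalRing.maximalIdeal R) R)))) ∧
    Surjective (Spec.map (CommRingCat.ofHom (algebraMap R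
      (AdicCompletion (IsLocalRing.maximalIdeal R) R)))) := by
  rw [flat_and_surjective_SpecMap_iff]
  change (algebraMap R (AdicCompletion (IsLocalRing.maximalIdeal R) R)).FaithfullyFlat
  rw [RingHom.faithfullyFlat_algebraMap_iff]
  exact Module.FaithfullyFlat.of_flat_of_isLocalHom

end Compl

/-- **S5126.** -/
theorem eff₀_iff_completion [IsLocallyNoetherian S] (hg : SGA1.UnivSubmersive g) [QuasiCompact g]
    [QuasiSeparated g] [Etale (D.obj PUnit.unit).hom] [QuasiCompact (D.obj PUnit.unit).hom]
    [IsSeparated (D.obj PUnit.unit).hom] :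
    Eff₀ g D ↔ ∀ a : S, Eff g D (Spec.map (CommRingCat.ofHom (algebraMap (S.presheaf.stalk a)
      (AdicCompletion (IsLocalRing.maximalIdeal (S.presheaf.stalk a)) (S.presheaf.stalk a)))) ≫
        S.fromSpecStalk a) := by
  constructor
  · intro h a
    exact h.eff _
  · intro h
    rw [eff₀_iff_stalk hg]
    intro a
    obtain ⟨U', het, ⟨d'⟩⟩ := eff_iff.mp (h a)
    haveI := het
    haveI : IsSeparated U'.hom := d'.isSeparated hg
    haveI : QuasiCompact U'.hom := d'.quasiCompact hg
    obtain ⟨hfl, hsurj⟩ := flat_surjective_SpecMap_completion (S.presheaf.stalk a)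
    haveI := hfl
    haveI := hsurj
    obtain ⟨U, het', -, -, ⟨d⟩⟩ := exists_effData_of_fpqc (p := S.fromSpecStalk a)
      (Spec.map (CommRingCat.ofHom (algebraMap (S.presheaf.stalk a)
        (AdicCompletion (IsLocalRing.maximalIdeal (S.presheaf.stalk a)) (S.presheaf.stalk a)))))
      _ rfl d' hg
    exact eff_iff.mpr ⟨U, het', ⟨d⟩⟩

end Groth.Agent.H5.EtDesc
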