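import Mathlib
import Groth.Prelude.Def_Desc
import Groth.Prelude.Def_DescFam
import Groth.Prelude.Def_SGA1
import Groth.Agent.Lib.Helper5.EtDesc.EtS
import Groth.Agent.Lib.Helper5.CA.FL4

/-!
# Effectivity of étale descent data can be checked over complete local rings with algebraically
closed residue field (S5127)
-/

set_option autoImplicit false
set_option backward.isDefEq.respectTransparency false
set_option backward.isDefEq.respectTransparency.types false

universe u

open CategoryTheory CategoryTheory.Limits AlgebraicGeometry MorphismProperty IsLocalRing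

namespace Groth.Agent.H5.EtDesc

variable {S S' : Scheme.{u}} {g : S' ⟶ S} {D : Desc.SchDDFam (fun _ : PUnit.{1} => g)}

/-- a flat local homomorphism of local rings induces a flat surjective morphism on spectra -/
lemma flat_surjective_SpecMap_of_local (A B : Type u) [CommRing A] [CommRing B] [IsLocalRing A]
    [IsLocalRing B] [Algebra A B] [Module.Flat A B] [IsLocalHom (algebraMap A B)] :
    Flat (Spec.map (CommRingCat.ofHom (algebraMap A B))) ∧
    Surjective (Spec.map (CommRingCat.ofHom (algebraMap A B))) := by
  rw [flat_and_surjective_SpecMap_iff]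
  change (algebraMap A B).FaithfullyFlat
  rw [RingHom.faithfullyFlat_algebraMap_iff]
  exact Module.FaithfullyFlat.of_flat_of_isLocalHom

/-- **S5127.** -/
theorem eff₀_iff_complete_algClosed [IsLocallyNoetherian S] (hg : SGA1.UnivSubmersive g)
    [QuasiCompact g] [QuasiSeparated g] [Etale (D.obj PUnit.unit).hom]
    [QuasiCompact (D.obj PUnit.unit).hom] [IsSeparated (D.obj PUnit.unit).hom] :
    Eff₀ g D ↔ ∀ (B : Type u) [CommRing B] [IsNoetherianRing B] [IsLocalRing B]
      [IsAdicComplete (IsLocalRing.maximalIdeal B) B] [IsAlgClosed (IsLocalRing.ResidueField B)]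
      (q : Spec (CommRingCat.of B) ⟶ S), Eff g D q := by
  constructor
  · intro h B _ _ _ _ _ q
    exact h.eff q
  · intro h
    rw [eff₀_iff_stalk hg]
    intro a
    obtain ⟨B, _, _, _, hN, hc, hfl, hm, ψ, hψs, hψk, -⟩ :=
      Groth.Agent.H5.FL.exists_flat_complete (S.presheaf.stalk a)
        (AlgebraicClosure (ResidueField (S.presheaf.stalk a)))
    haveI := hN
    haveI := hc
    haveI := hfl
    haveI : IsLocalHom (algebraMap (S.presheaf.stalk a) B) :=
      ((IsLocalRing.local_hom_TFAE (algebraMap (S.presheaf.stalk a) B)).out 0 2).mpr (le_of_eq hm)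
    let e : ResidueField B ≃+* AlgebraicClosure (ResidueField (S.presheaf.stalk a)) :=
      (Ideal.quotEquivOfEq hψk.symm).trans (RingHom.quotientKerEquivOfSurjective hψs)
    haveI : IsAlgClosed (ResidueField B) := IsAlgClosed.of_ringEquiv _ _ e.symm
    obtain ⟨hfl', hsurj'⟩ := flat_surjective_SpecMap_of_local (S.presheaf.stalk a) B
    haveI := hfl'
    haveI := hsurj'
    obtain ⟨U', het, ⟨d'⟩⟩ := eff_iff.mp
      (h B (Spec.map (CommRingCat.ofHom (algebraMap (S.presheaf.stalk a) B)) ≫ S.fromSpecStalk a))
    haveI := het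
    haveI : IsSeparated U'.hom := d'.isSeparated hg
    haveI : QuasiCompact U'.hom := d'.quasiCompact hg
    obtain ⟨U, het', -, -, ⟨d⟩⟩ := exists_effData_of_fpqc (p := S.fromSpecStalk a)
      (Spec.map (CommRingCat.ofHom (algebraMap (S.presheaf.stalk a) B))) _ rfl d' hg
    exact eff_iff.mpr ⟨U, het', ⟨d⟩⟩

end Groth.Agent.H5.EtDesc
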