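import Mathlib
import Groth.Prelude.Def_SGA1
import Groth.Agent.Lib.Helper1.Subtr8
import Groth.Agent.Lib.Helper1.EtSections2

/-!
# Tools: descent of morphisms into étale schemes along universally submersive maps, pointwise
criteria for equality of morphisms into unramified schemes (S2905)
-/

set_option autoImplicit false
set_option backward.isDefEq.respectTransparency false
set_option backward.isDefEq.respectTransparency.types false

universe u

open CategoryTheory CategoryTheory.Limits AlgebraicGeometry MorphismProperty

namespace Groth.Agent.H5.EtDesc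

section Surj

lemma UnivSubmersive.surjective {Y₁ Y : Scheme.{u}} {c : Y₁ ⟶ Y} (hc : SGA1.UnivSubmersive c) :
    Surjective c :=
  ⟨(hc (𝟙 _) (𝟙 _) c IsPullback.of_id_snd).surjective⟩

/-- a finite surjective morphism is universally submersive -/
lemma univSubmersive_of_universallyClosed_of_surjective {Y₁ Y : Scheme.{u}} (c : Y₁ ⟶ Y)
    [UniversallyClosed c] [Surjective c] : SGA1.UnivSubmersive c := by
  intro X' Y' i₁ i₂ f' h
  haveI : UniversallyClosed f' :=
    MorphismProperty.of_isPullback (P := @UniversallyClosed) h.flip inferInstance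
  haveI : Surjective f' := MorphismProperty.of_isPullback (P := @Surjective) h.flip inferInstance
  exact IsClosedMap.isQuotientMap f'.isClosedMap f'.continuous f'.surjective

end Surj

section Desc

/-- **Descent of morphisms into an étale scheme** along a universally submersive morphism, with
the cocycle condition checked on field-valued points. -/
theorem exists_unique_desc {E Y' Y Y₁ : Scheme.{u}} (q : E ⟶ Y') [Etale q] (a : Y ⟶ Y')
    (c : Y₁ ⟶ Y) (hc : SGA1.UnivSubmersive c) (f₁ : Y₁ ⟶ E) (hf₁ : f₁ ≫ q = c ≫ a)
    (hconst : ∀ (K : Type u) [Field K] (α β : Spec (CommRingCat.of K) ⟶ Y₁),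
      α ≫ c = β ≫ c → α ≫ f₁ = β ≫ f₁) :
    ∃! f : Y ⟶ E, f ≫ q = a ∧ c ≫ f = f₁ := by
  haveI : Surjective c := UnivSubmersive.surjective hc
  let p : pullback q a ⟶ Y := pullback.snd q a
  let σ : Y₁ ⟶ pullback q a := pullback.lift f₁ c hf₁
  have hσ : σ ≫ p = c := pullback.lift_snd _ _ _
  have hq : Topology.IsQuotientMap (pullback.fst p c) :=
    Groth.Agent.Lib.Helper1.Subtr5.isQuotientMap_of_isPullback hc
      (IsPullback.of_hasPullback p c)
  obtain ⟨s, hs1, hs2⟩ := Groth.Agent.H1.EtSections.exists_section_of_constant_on_fibres p c hq σ hσ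
    (by
      intro K _ α β hαβ
      apply pullback.hom_ext
      · rw [Category.assoc, Category.assoc, pullback.lift_fst]
        exact hconst K α β hαβ
      · rw [Category.assoc, Category.assoc, pullback.lift_snd, hαβ])
  refine ⟨s ≫ pullback.fst q a, ⟨?_, ?_⟩, ?_⟩
  · rw [Category.assoc, pullback.condition, ← Category.assoc]
    change (s ≫ p) ≫ a = a
    rw [hs1, Category.id_comp]
  · rw [← Category.assoc, hs2, pullback.lift_fst]
  · rintro f' ⟨h1, h2⟩
    refine Groth.Agent.H1.EtSections.eq_of_comp_eq_of_surjective q c f' _ ?_ ?_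
    · rw [h1, Category.assoc, pullback.condition, ← Category.assoc]
      change a = (s ≫ p) ≫ a
      rw [hs1, Category.id_comp]
    · rw [h2, ← Category.assoc, hs2, pullback.lift_fst]

end Desc

section Pointwise

variable {E Y T : Scheme.{u}} (q : E ⟶ Y) [FormallyUnramified q] [LocallyOfFiniteType q]

/-- Two morphisms into an unramified scheme agree as soon as every point specializes to a point
at which they agree. -/
theorem eq_of_forall_specializes (a b : T ⟶ E) (hab : a ≫ q = b ≫ q)
    (h : ∀ t : T, ∃ t₀ : T, t ⤳ t₀ ∧
      T.fromSpecResidueField t₀ ≫ a = T.fromSpecResidueField t₀ ≫ b) : a = b := by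
  have hle : (@FormallyUnramified ⊓ @LocallyOfFiniteType : MorphismProperty Scheme.{u}) ≤
      MorphismProperty.diagonal @IsOpenImmersion := by
    intro A B f ⟨h1, h2⟩
    haveI : FormallyUnramified f := h1
    haveI : LocallyOfFiniteType f := h2
    exact inferInstanceAs (IsOpenImmersion (pullback.diagonal f))
  haveI : IsOpenImmersion (pullback.diagonal q) := hle _ ⟨inferInstance, inferInstance⟩
  let l : T ⟶ pullback q q := pullback.lift a b hab
  let Δ := pullback.diagonal q
  have hrange : Set.range l ⊆ Set.range Δ := by
    rintro _ ⟨t, rfl⟩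
    obtain ⟨t₀, hsp, h₀⟩ := h t
    have h1 : T.fromSpecResidueField t₀ ≫ l = (T.fromSpecResidueField t₀ ≫ a) ≫ Δ := by
      apply pullback.hom_ext
      · rw [Category.assoc, Category.assoc, pullback.diagonal_fst, Category.comp_id,
          pullback.lift_fst]
      · rw [Category.assoc, Category.assoc, pullback.diagonal_snd, Category.comp_id,
          pullback.lift_snd, h₀]
    have h2 : l t₀ ∈ Set.range Δ := by
      have : l t₀ = (T.fromSpecResidueField t₀ ≫ l) (IsLocalRing.closedPoint _) := by
        rw [Scheme.Hom.comp_apply, Scheme.fromSpecResidueField_apply]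
      rw [this, h1, Scheme.Hom.comp_apply]
      exact ⟨_, rfl⟩
    have hopen : IsOpen (l ⁻¹' Set.range Δ) := Δ.isOpenEmbedding.isOpen_range.preimage l.continuous
    exact hsp.mem_open hopen h2
  have hl : IsOpenImmersion.lift Δ l hrange ≫ Δ = l := IsOpenImmersion.lift_fac _ _ _
  have e1 : l ≫ pullback.fst q q = a := pullback.lift_fst _ _ _
  have e2 : l ≫ pullback.snd q q = b := pullback.lift_snd _ _ _
  rw [← e1, ← e2, ← hl, Category.assoc, Category.assoc, pullback.diagonal_fst,
    pullback.diagonal_snd]

/-- Two morphisms into an unramified scheme agreeing on all points are equal. -/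
theorem eq_of_forall_point (a b : T ⟶ E) (hab : a ≫ q = b ≫ q)
    (h : ∀ t : T, T.fromSpecResidueField t ≫ a = T.fromSpecResidueField t ≫ b) : a = b :=
  eq_of_forall_specializes q a b hab fun t => ⟨t, specializes_rfl, h t⟩

end Pointwise

section Fields

/-- lifting a field-valued point along a surjective morphism, after a field extension -/
theorem exists_field_lift {Y' Y : Scheme.{u}} (c : Y' ⟶ Y) [Surjective c] (K : Type u) [Field K]
    (α : Spec (CommRingCat.of K) ⟶ Y) :
    ∃ (K' : Type u) (_ : Field K') (π : Spec (CommRingCat.of K') ⟶ Spec (CommRingCat.of K))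
      (β : Spec (CommRingCat.of K') ⟶ Y'), β ≫ c = π ≫ α := by
  haveI : Surjective (pullback.fst α c) :=
    MorphismProperty.pullback_fst (P := @Surjective) _ _ inferInstance
  obtain ⟨z, -⟩ := (pullback.fst α c).surjective (IsLocalRing.closedPoint K)
  exact ⟨(pullback α c).residueField z, inferInstance,
    (pullback α c).fromSpecResidueField z ≫ pullback.fst α c,
    (pullback α c).fromSpecResidueField z ≫ pullback.snd α c, by
      rw [Category.assoc, Category.assoc, pullback.condition]⟩

/-- a morphism between spectra of fields is an epimorphism -/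
theorem epi_of_fields {K K' : Type u} [Field K] [Field K']
    (π : Spec (CommRingCat.of K') ⟶ Spec (CommRingCat.of K)) : Epi π := by
  obtain ⟨φ, rfl⟩ := Spec.map_surjective π
  haveI : Flat (Spec.map φ) := by
    rw [HasRingHomProperty.Spec_iff (P := @Flat)]
    algebraize [φ.hom]
    change Module.Flat K K'
    infer_instance
  haveI : Surjective (Spec.map φ) := by
    constructor
    intro y
    refine ⟨IsLocalRing.closedPoint K', Subsingleton.elim _ _⟩
  exact Flat.epi_of_flat_of_surjective _

end Fields

end Groth.Agent.H5.EtDesc
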