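import Mathlib
import Groth.Prelude.Def_DescFam
import Groth.Prelude.Def_SGA1
import Groth.Agent.Lib.Helper5.EtDesc.EtJ
import Groth.Agent.Lib.Helper5.EtDesc.EtU

/-!
# Effectivity data over the identity, in simplified form, and a pointwise criterion (S2905)
-/

set_option autoImplicit false
set_option backward.isDefEq.respectTransparency false
set_option backward.isDefEq.respectTransparency.types false

universe u

open CategoryTheory CategoryTheory.Limits AlgebraicGeometry MorphismProperty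

namespace Groth.Agent.H5.EtDesc

variable {S S' : Scheme.{u}} (g : S' ⟶ S) (D : Desc.SchDDFam (fun _ : PUnit.{1} => g))

/-- Effectivity data for `D` itself: an isomorphism `S' ×_S U ≅ X'` over `S'` compatible with the
gluing bijections. -/
structure Eff0Data (U : Over S) where
  ev : pullback g U.hom ⟶ (D.obj PUnit.unit).left
  ev_hom : ev ≫ (D.obj PUnit.unit).hom = pullback.fst g U.hom
  isIso : IsIso ev
  comm : ∀ ⦃T₀ : Scheme.{u}⦄ (x₀ x₁ : T₀ ⟶ S') (u : T₀ ⟶ U.left) (h₀ : x₀ ≫ g = u ≫ U.hom)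
    (h₁ : x₁ ≫ g = u ≫ U.hom),
    tr g D x₀ x₁ (h₀.trans h₁.symm) (pullback.lift x₀ u h₀ ≫ ev)
      (by rw [Category.assoc, ev_hom, pullback.lift_fst]) = pullback.lift x₁ u h₁ ≫ ev

variable {g D}

namespace Eff0Data

variable {U : Over S} (d : Eff0Data g D U)

instance : IsIso d.ev := d.isIso

/-- value on a point -/
noncomputable def pt {T₀ : Scheme.{u}} (x : T₀ ⟶ S') (u : T₀ ⟶ U.left) (h : x ≫ g = u ≫ U.hom) :
    T₀ ⟶ (D.obj PUnit.unit).left :=
  pullback.lift x u h ≫ d.ev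

lemma pt_hom {T₀ : Scheme.{u}} (x : T₀ ⟶ S') (u : T₀ ⟶ U.left) (h : x ≫ g = u ≫ U.hom) :
    d.pt x u h ≫ (D.obj PUnit.unit).hom = x := by
  rw [pt, Category.assoc, d.ev_hom, pullback.lift_fst]

lemma pt_comm {T₀ : Scheme.{u}} (x₀ x₁ : T₀ ⟶ S') (u : T₀ ⟶ U.left) (h₀ : x₀ ≫ g = u ≫ U.hom)
    (h₁ : x₁ ≫ g = u ≫ U.hom) :
    tr g D x₀ x₁ (h₀.trans h₁.symm) (d.pt x₀ u h₀) (d.pt_hom x₀ u h₀) = d.pt x₁ u h₁ :=
  d.comm x₀ x₁ u h₀ h₁

lemma pt_natural {T₀ T₁ : Scheme.{u}} (r : T₁ ⟶ T₀) (x : T₀ ⟶ S') (u : T₀ ⟶ U.left)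
    (h : x ≫ g = u ≫ U.hom) :
    r ≫ d.pt x u h = d.pt (r ≫ x) (r ≫ u) (by rw [Category.assoc, h, Category.assoc]) := by
  rw [pt, pt, ← Category.assoc]
  congr 1
  apply pullback.hom_ext
  · rw [Category.assoc, pullback.lift_fst, pullback.lift_fst]
  · rw [Category.assoc, pullback.lift_snd, pullback.lift_snd]

lemma pt_congr {T₀ : Scheme.{u}} {x x' : T₀ ⟶ S'} {u u' : T₀ ⟶ U.left} (h : x ≫ g = u ≫ U.hom)
    (ex : x = x') (eu : u = u') : d.pt x u h = d.pt x' u' (by rw [← ex, ← eu]; exact h) := by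
  subst ex eu; rfl

lemma inv_ev_fst : inv d.ev ≫ pullback.fst g U.hom = (D.obj PUnit.unit).hom := by
  rw [IsIso.inv_comp_eq, d.ev_hom]

/-- the point of `U` determined by a point of `X'` -/
noncomputable def unpt {T₀ : Scheme.{u}} (x' : T₀ ⟶ (D.obj PUnit.unit).left) : T₀ ⟶ U.left :=
  x' ≫ inv d.ev ≫ pullback.snd g U.hom

lemma unpt_hom {T₀ : Scheme.{u}} (x : T₀ ⟶ S') (x' : T₀ ⟶ (D.obj PUnit.unit).left)
    (hx' : x' ≫ (D.obj PUnit.unit).hom = x) : x ≫ g = d.unpt x' ≫ U.hom := by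
  rw [unpt, Category.assoc, Category.assoc, ← pullback.condition, reassoc_of% d.inv_ev_fst,
    reassoc_of% hx']

lemma pt_unpt {T₀ : Scheme.{u}} (x : T₀ ⟶ S') (x' : T₀ ⟶ (D.obj PUnit.unit).left)
    (hx' : x' ≫ (D.obj PUnit.unit).hom = x) : d.pt x (d.unpt x') (d.unpt_hom x x' hx') = x' := by
  have e : pullback.lift x (d.unpt x') (d.unpt_hom x x' hx') = x' ≫ inv d.ev := by
    apply pullback.hom_ext
    · rw [pullback.lift_fst, Category.assoc, d.inv_ev_fst, hx']
    · rw [pullback.lift_snd, unpt, Category.assoc]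
  rw [pt, e, Category.assoc, IsIso.inv_hom_id, Category.comp_id]

lemma unpt_pt {T₀ : Scheme.{u}} (x : T₀ ⟶ S') (u : T₀ ⟶ U.left) (h : x ≫ g = u ≫ U.hom) :
    d.unpt (d.pt x u h) = u := by
  rw [unpt, pt, Category.assoc, IsIso.hom_inv_id_assoc, pullback.lift_snd]

lemma pt_injective {T₀ : Scheme.{u}} (x : T₀ ⟶ S') (u u' : T₀ ⟶ U.left) (h : x ≫ g = u ≫ U.hom)
    (h' : x ≫ g = u' ≫ U.hom) (e : d.pt x u h = d.pt x u' h') : u = u' := by
  rw [← d.unpt_pt x u h, ← d.unpt_pt x u' h', e]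

lemma unpt_natural {T₀ T₁ : Scheme.{u}} (r : T₁ ⟶ T₀) (x' : T₀ ⟶ (D.obj PUnit.unit).left) :
    r ≫ d.unpt x' = d.unpt (r ≫ x') := by
  rw [unpt, unpt, Category.assoc]

/-- the isomorphism of descent data -/
noncomputable def toIso : (Desc.toDDFam (fun _ : PUnit.{1} => g)).obj U ≅ D :=
  isoDD_of g (Over.isoMk (asIso d.ev) d.ev_hom) (by
    intro T₀ x₀ x₁ h v w hw
    have hw' : w.1 = v.1 ≫ d.ev := hw
    have hv : v.1 ≫ pullback.fst g U.hom = x₀ := v.2
    change tr g D x₀ x₁ h w.1 w.2 = pullback.lift x₁ (v.1 ≫ pullback.snd g U.hom) _ ≫ d.ev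
    have h₀ : x₀ ≫ g = (v.1 ≫ pullback.snd g U.hom) ≫ U.hom := by
      rw [Category.assoc, ← pullback.condition, reassoc_of% hv]
    have h₁ : x₁ ≫ g = (v.1 ≫ pullback.snd g U.hom) ≫ U.hom := by rw [← h, h₀]
    have key := d.comm x₀ x₁ (v.1 ≫ pullback.snd g U.hom) h₀ h₁
    refine (tr_congr g D _ _ rfl rfl ?_).trans key
    rw [hw']
    congr 1
    apply pullback.hom_ext
    · rw [pullback.lift_fst, hv]
    · rw [pullback.lift_snd])

include d in
lemma eff₀ [Etale U.hom] : Eff₀ g D := ⟨U, inferInstance, ⟨d.toIso⟩⟩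

end Eff0Data

/-- effectivity data from an isomorphism of descent data -/
noncomputable def Eff0Data.ofIso {U : Over S}
    (Θ : (Desc.toDDFam (fun _ : PUnit.{1} => g)).obj U ≅ D) : Eff0Data g D U where
  ev := theta₀Of Θ
  ev_hom := theta₀Of_hom Θ
  isIso := inferInstance
  comm := by
    intro T₀ x₀ x₁ u h₀ h₁
    have key := theta₀Of_comm Θ x₀ x₁ (h₀.trans h₁.symm) (pullback.lift x₀ u h₀)
      (pullback.lift_fst _ _ _)
    refine key.trans ?_
    congr 1
    apply pullback.hom_ext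
    · rw [pullback.lift_fst, pullback.lift_fst]
    · rw [pullback.lift_snd, pullback.lift_snd, pullback.lift_snd]

theorem eff₀_iff_eff0Data : Eff₀ g D ↔ ∃ U : Over S, Etale U.hom ∧ Nonempty (Eff0Data g D U) := by
  constructor
  · rintro ⟨U, hU, ⟨Θ⟩⟩
    exact ⟨U, hU, ⟨Eff0Data.ofIso Θ⟩⟩
  · rintro ⟨U, hU, ⟨d⟩⟩
    exact ⟨U, hU, ⟨d.toIso⟩⟩


/-- **Pointwise criterion**: a morphism `S' ×_S U ⟶ X'` over `S'` between étale `S'`-schemes which
is bijective on field-valued points and compatible with the gluing bijections on field-valued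
points gives effectivity data. -/
theorem Eff0Data.nonempty_of_points {U : Over S} [Etale U.hom] [Etale (D.obj PUnit.unit).hom]
    (ev : pullback g U.hom ⟶ (D.obj PUnit.unit).left)
    (ev_hom : ev ≫ (D.obj PUnit.unit).hom = pullback.fst g U.hom)
    (hbij : ∀ (K : Type u) [Field K] (x' : Spec (CommRingCat.of K) ⟶ (D.obj PUnit.unit).left),
      ∃! u : Spec (CommRingCat.of K) ⟶ U.left,
        ∃ h : (x' ≫ (D.obj PUnit.unit).hom) ≫ g = u ≫ U.hom,
          pullback.lift (x' ≫ (D.obj PUnit.unit).hom) u h ≫ ev = x')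
    (hcomm : ∀ (K : Type u) [Field K] (x₀ x₁ : Spec (CommRingCat.of K) ⟶ S')
      (u : Spec (CommRingCat.of K) ⟶ U.left) (h₀ : x₀ ≫ g = u ≫ U.hom) (h₁ : x₁ ≫ g = u ≫ U.hom),
      tr g D x₀ x₁ (h₀.trans h₁.symm) (pullback.lift x₀ u h₀ ≫ ev)
        (by rw [Category.assoc, ev_hom, pullback.lift_fst]) = pullback.lift x₁ u h₁ ≫ ev) :
    Nonempty (Eff0Data g D U) := by
  haveI : Etale (ev ≫ (D.obj PUnit.unit).hom) := by rw [ev_hom]; infer_instance
  haveI : Etale ev := Etale.of_comp ev (D.obj PUnit.unit).hom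
  haveI : Surjective ev := by
    constructor
    intro y
    obtain ⟨u, ⟨h, hu⟩, -⟩ := hbij ((D.obj PUnit.unit).left.residueField y)
      ((D.obj PUnit.unit).left.fromSpecResidueField y)
    obtain ⟨s₀⟩ : Nonempty ↥(Spec (CommRingCat.of ↑((D.obj PUnit.unit).left.residueField y))) :=
      ⟨IsLocalRing.closedPoint _⟩
    refine ⟨(pullback.lift _ u h) s₀, ?_⟩
    rw [← Scheme.Hom.comp_apply, hu]
    exact Scheme.fromSpecResidueField_apply y s₀
  haveI : UniversallyInjective ev := by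
    refine ((tfae_universallyInjective ev).out 0 1).mpr ?_
    intro K _ v₁ v₂ hv
    have hv' : v₁ ≫ ev = v₂ ≫ ev := hv
    obtain ⟨u, -, huniq⟩ := hbij K (v₁ ≫ ev)
    have key : ∀ v : Spec (CommRingCat.of K) ⟶ pullback g U.hom, v ≫ ev = v₁ ≫ ev →
        v ≫ pullback.snd g U.hom = u := by
      intro v hvv
      have hfst : v ≫ pullback.fst g U.hom = (v₁ ≫ ev) ≫ (D.obj PUnit.unit).hom := by
        rw [← hvv, Category.assoc, ev_hom]
      apply huniq
      have hh : ((v₁ ≫ ev) ≫ (D.obj PUnit.unit).hom) ≫ g = (v ≫ pullback.snd g U.hom) ≫ U.hom := by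
        rw [← hfst, Category.assoc, pullback.condition, Category.assoc]
      have hl : pullback.lift ((v₁ ≫ ev) ≫ (D.obj PUnit.unit).hom) (v ≫ pullback.snd g U.hom) hh =
          v := by
        apply pullback.hom_ext
        · rw [pullback.lift_fst, hfst]
        · rw [pullback.lift_snd]
      exact ⟨hh, by rw [hl, hvv]⟩
    apply pullback.hom_ext
    · have h1 : v₁ ≫ pullback.fst g U.hom = (v₁ ≫ ev) ≫ (D.obj PUnit.unit).hom := by
        rw [Category.assoc, ev_hom]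
      have h2 : v₂ ≫ pullback.fst g U.hom = (v₂ ≫ ev) ≫ (D.obj PUnit.unit).hom := by
        rw [Category.assoc, ev_hom]
      rw [h1, h2, hv']
    · rw [key v₁ rfl, key v₂ hv'.symm]
  haveI : IsIso ev :=
    Groth.Agent.H1.EtSections.isIso_of_etale_of_universallyInjective_of_surjective ev
  refine ⟨{ ev := ev, ev_hom := ev_hom, isIso := inferInstance, comm := ?_ }⟩
  intro T₀ x₀ x₁ u h₀ h₁
  refine eq_of_forall_point (D.obj PUnit.unit).hom _ _ ?_ ?_
  · rw [tr_hom, Category.assoc, ev_hom, pullback.lift_fst]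
  · intro t
    rw [tr_natural]
    have e : ∀ (x : T₀ ⟶ S') (h : x ≫ g = u ≫ U.hom),
        T₀.fromSpecResidueField t ≫ pullback.lift x u h ≫ ev =
          pullback.lift (T₀.fromSpecResidueField t ≫ x) (T₀.fromSpecResidueField t ≫ u)
            (by rw [Category.assoc, h, Category.assoc]) ≫ ev := by
      intro x h
      rw [← Category.assoc]
      congr 1
      apply pullback.hom_ext
      · rw [Category.assoc, pullback.lift_fst, pullback.lift_fst]
      · rw [Category.assoc, pullback.lift_snd, pullback.lift_snd]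
    rw [e x₁ h₁]
    refine (tr_congr g D _ _ rfl rfl (e x₀ h₀)).trans ?_
    exact hcomm (T₀.residueField t) _ _ _ _ _

end Groth.Agent.H5.EtDesc
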