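import Mathlib
import Groth.Prelude.Def_DescFam
import Groth.Prelude.Def_SGA1
import Groth.Agent.Lib.Helper1.Subtr8
import Groth.Agent.Lib.Helper5.EtDesc.EtV

/-!
# Refinement of the covering morphism (S2905)

If `h : S'' ⟶ S'` is such that `h ≫ g` is universally submersive, then a descent datum `D` relative
to `g` with `D.obj` étale is effective as soon as its restriction to `h ≫ g` is.
-/

set_option autoImplicit false
set_option backward.isDefEq.respectTransparency false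
set_option backward.isDefEq.respectTransparency.types false

universe u

open CategoryTheory CategoryTheory.Limits AlgebraicGeometry MorphismProperty

namespace Groth.Agent.H5.EtDesc

section Crit

variable {S S' : Scheme.{u}} {g : S' ⟶ S} {D : Desc.SchDDFam (fun _ : PUnit.{1} => g)}

/-- **Pointwise criterion, second form**: surjective, injective on field-valued points and
compatible with the gluing bijections on field-valued points. -/
theorem Eff0Data.nonempty_of_points' {U : Over S} [Etale U.hom] [Etale (D.obj PUnit.unit).hom]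
    (ev : pullback g U.hom ⟶ (D.obj PUnit.unit).left)
    (ev_hom : ev ≫ (D.obj PUnit.unit).hom = pullback.fst g U.hom)
    (hsurj : Surjective ev)
    (hinj : ∀ (K : Type u) [Field K] (v₁ v₂ : Spec (CommRingCat.of K) ⟶ pullback g U.hom),
      v₁ ≫ ev = v₂ ≫ ev → v₁ = v₂)
    (hcomm : ∀ (K : Type u) [Field K] (x₀ x₁ : Spec (CommRingCat.of K) ⟶ S')
      (u : Spec (CommRingCat.of K) ⟶ U.left) (h₀ : x₀ ≫ g = u ≫ U.hom) (h₁ : x₁ ≫ g = u ≫ U.hom),
      tr g D x₀ x₁ (h₀.trans h₁.symm) (pullback.lift x₀ u h₀ ≫ ev)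
        (by rw [Category.assoc, ev_hom, pullback.lift_fst]) = pullback.lift x₁ u h₁ ≫ ev) :
    Nonempty (Eff0Data g D U) := by
  haveI : Etale (ev ≫ (D.obj PUnit.unit).hom) := by rw [ev_hom]; infer_instance
  haveI : Etale ev := Etale.of_comp ev (D.obj PUnit.unit).hom
  haveI : Surjective ev := hsurj
  haveI : UniversallyInjective ev := by
    refine ((tfae_universallyInjective ev).out 0 1).mpr ?_
    intro K _ v₁ v₂ hv
    exact hinj K v₁ v₂ hv
  haveI : IsIso ev :=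
    Groth.Agent.H1.EtSections.isIso_of_etale_of_universallyInjective_of_surjective ev
  refine ⟨{ ev := ev, ev_hom := ev_hom, isIso := inferInstance, comm := ?_ }⟩
  intro T₀ x₀ x₁ u h₀ h₁
  refine eq_of_forall_point (D.obj PUnit.unit).hom _ _ ?_ ?_
  · rw [tr_hom, Category.assoc, ev_hom, pullback.lift_fst]
  · intro t
    rw [tr_natural]
    have e : ∀ (x : T₀ ⟶ S') (h : x ≫ g = u ≫ U.hom),
        T₀.fromSpecResidueField t ≫ pullback.lift x u h ≫ ev =
          pullback.lift (T₀.fromSpecResidueField t ≫ x) (T₀.fromSpecResidueField t ≫ u)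
            (by rw [Category.assoc, h, Category.assoc]) ≫ ev := by
      intro x h
      rw [← Category.assoc]
      congr 1
      apply pullback.hom_ext
      · rw [Category.assoc, pullback.lift_fst, pullback.lift_fst]
      · rw [Category.assoc, pullback.lift_snd, pullback.lift_snd]
    rw [e x₁ h₁]
    refine (tr_congr g D _ _ rfl rfl (e x₀ h₀)).trans ?_
    exact hcomm (T₀.residueField t) _ _ _ _ _

/-- transport is injective -/
lemma tr_injective {T₀ : Scheme.{u}} (x₀ x₁ : T₀ ⟶ S') (h : x₀ ≫ g = x₁ ≫ g)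
    (v w : T₀ ⟶ (D.obj PUnit.unit).left) (hv : v ≫ (D.obj PUnit.unit).hom = x₀)
    (hw : w ≫ (D.obj PUnit.unit).hom = x₀)
    (e : tr g D x₀ x₁ h v hv = tr g D x₀ x₁ h w hw) : v = w := by
  have h1 := tr_tr g D x₀ x₁ x₀ h h.symm v hv
  have h2 := tr_tr g D x₀ x₁ x₀ h h.symm w hw
  rw [tr_self] at h1 h2
  rw [← h1, ← h2]
  exact tr_congr g D _ _ rfl rfl e

end Crit

section Refine

variable {S S' S'' : Scheme.{u}} (g : S' ⟶ S) (h : S'' ⟶ S')
  (D : Desc.SchDDFam (fun _ : PUnit.{1} => g))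

/-- The restriction of a descent datum along `h : S'' ⟶ S'` (over the identity of `S`). -/
noncomputable abbrev refD : Desc.SchDDFam (fun _ : PUnit.{1} => h ≫ g) :=
  (Desc.pullDDFam (f := fun _ : PUnit.{1} => g) (f' := fun _ : PUnit.{1} => h ≫ g)
    (α := id) (p := 𝟙 S) (p' := fun _ => h) (fun _ => (Category.comp_id _).symm)).obj D

lemma refD_tr_fst {T₀ : Scheme.{u}} (y₀ y₁ : T₀ ⟶ S'') (e : y₀ ≫ h ≫ g = y₁ ≫ h ≫ g)
    (v : T₀ ⟶ ((refD g h D).obj PUnit.unit).left)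
    (hv : v ≫ ((refD g h D).obj PUnit.unit).hom = y₀) :
    tr (h ≫ g) (refD g h D) y₀ y₁ e v hv ≫ pullback.fst (D.obj PUnit.unit).hom h =
      tr g D (y₀ ≫ h) (y₁ ≫ h) (by rw [Category.assoc, Category.assoc, e])
        (v ≫ pullback.fst (D.obj PUnit.unit).hom h)
        (by
          have e' : v ≫ pullback.snd (D.obj PUnit.unit).hom h = y₀ := hv
          rw [Category.assoc, pullback.condition, ← Category.assoc, e']) :=
  pullback.lift_fst _ _ _

end Refine

section LemmaR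

variable {S S' S'' : Scheme.{u}} {g : S' ⟶ S} {h : S'' ⟶ S'}
  {D : Desc.SchDDFam (fun _ : PUnit.{1} => g)} {U : Over S}
  (d : Eff0Data (h ≫ g) (refD g h D) U)

lemma rpt_aux {T₀ : Scheme.{u}} (u : T₀ ⟶ U.left) (y : T₀ ⟶ S'')
    (hy : y ≫ h ≫ g = u ≫ U.hom) :
    (d.pt y u hy ≫ pullback.fst (D.obj PUnit.unit).hom h) ≫ (D.obj PUnit.unit).hom = y ≫ h := by
  have e : d.pt y u hy ≫ pullback.snd (D.obj PUnit.unit).hom h = y := d.pt_hom y u hy
  rw [Category.assoc, pullback.condition, ← Category.assoc, e]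

/-- the candidate value of the descended morphism on the point `(x, u)`, computed with the help of
a point `y` of `S''` over the same point of `S` -/
noncomputable def rpt {T₀ : Scheme.{u}} (x : T₀ ⟶ S') (u : T₀ ⟶ U.left) (y : T₀ ⟶ S'')
    (hx : x ≫ g = u ≫ U.hom) (hy : y ≫ h ≫ g = u ≫ U.hom) : T₀ ⟶ (D.obj PUnit.unit).left :=
  tr g D (y ≫ h) x (by rw [Category.assoc, hy, hx])
    (d.pt y u hy ≫ pullback.fst (D.obj PUnit.unit).hom h) (rpt_aux d u y hy)

lemma rpt_hom {T₀ : Scheme.{u}} (x : T₀ ⟶ S') (u : T₀ ⟶ U.left) (y : T₀ ⟶ S'')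
    (hx : x ≫ g = u ≫ U.hom) (hy : y ≫ h ≫ g = u ≫ U.hom) :
    rpt d x u y hx hy ≫ (D.obj PUnit.unit).hom = x :=
  tr_hom _ _ _ _ _ _ _

lemma rpt_congr {T₀ : Scheme.{u}} {x x' : T₀ ⟶ S'} {u u' : T₀ ⟶ U.left} {y y' : T₀ ⟶ S''}
    (hx : x ≫ g = u ≫ U.hom) (hy : y ≫ h ≫ g = u ≫ U.hom) (ex : x = x') (eu : u = u')
    (ey : y = y') :
    rpt d x u y hx hy = rpt d x' u' y' (by rw [← ex, ← eu]; exact hx)
      (by rw [← ey, ← eu]; exact hy) := by
  subst ex eu ey; rfl

lemma rpt_natural {T₀ T₁ : Scheme.{u}} (r : T₁ ⟶ T₀) (x : T₀ ⟶ S') (u : T₀ ⟶ U.left)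
    (y : T₀ ⟶ S'') (hx : x ≫ g = u ≫ U.hom) (hy : y ≫ h ≫ g = u ≫ U.hom) :
    r ≫ rpt d x u y hx hy = rpt d (r ≫ x) (r ≫ u) (r ≫ y)
      (by rw [Category.assoc, hx, Category.assoc]) (by rw [Category.assoc, hy, Category.assoc]) := by
  unfold rpt
  rw [tr_natural]
  refine tr_congr g D _ _ (Category.assoc _ _ _).symm rfl ?_
  rw [← Category.assoc, d.pt_natural]

lemma rpt_tr {T₀ : Scheme.{u}} (x₀ x₁ : T₀ ⟶ S') (u : T₀ ⟶ U.left) (y : T₀ ⟶ S'')
    (hx₀ : x₀ ≫ g = u ≫ U.hom) (hx₁ : x₁ ≫ g = u ≫ U.hom) (hy : y ≫ h ≫ g = u ≫ U.hom) :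
    tr g D x₀ x₁ (hx₀.trans hx₁.symm) (rpt d x₀ u y hx₀ hy) (rpt_hom d x₀ u y hx₀ hy) =
      rpt d x₁ u y hx₁ hy := by
  unfold rpt
  exact tr_tr g D _ _ _ _ _ _ _

lemma rpt_indep {T₀ : Scheme.{u}} (x : T₀ ⟶ S') (u : T₀ ⟶ U.left) (y y' : T₀ ⟶ S'')
    (hx : x ≫ g = u ≫ U.hom) (hy : y ≫ h ≫ g = u ≫ U.hom) (hy' : y' ≫ h ≫ g = u ≫ U.hom) :
    rpt d x u y hx hy = rpt d x u y' hx hy' := by
  have h1 := d.pt_comm y y' u hy hy'
  have h2 := refD_tr_fst g h D y y' (hy.trans hy'.symm) (d.pt y u hy) (d.pt_hom y u hy)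
  rw [h1] at h2
  unfold rpt
  have h3 := tr_tr g D (y ≫ h) (y' ≫ h) x (by rw [Category.assoc, Category.assoc, hy, hy'])
    (by rw [Category.assoc, hy', hx])
    (d.pt y u hy ≫ pullback.fst (D.obj PUnit.unit).hom h) (rpt_aux d u y hy)
  rw [← h3]
  exact (tr_congr g D _ _ rfl rfl h2).symm

lemma rpt_injective {T₀ : Scheme.{u}} (x : T₀ ⟶ S') (u u' : T₀ ⟶ U.left) (y : T₀ ⟶ S'')
    (hx : x ≫ g = u ≫ U.hom) (hy : y ≫ h ≫ g = u ≫ U.hom)
    (hx' : x ≫ g = u' ≫ U.hom) (hy' : y ≫ h ≫ g = u' ≫ U.hom)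
    (e : rpt d x u y hx hy = rpt d x u' y hx' hy') : u = u' := by
  have h1 := tr_injective _ _ _ _ _ _ _ e
  refine d.pt_injective y u u' hy hy' ?_
  apply pullback.hom_ext
  · exact h1
  · exact (d.pt_hom y u hy).trans (d.pt_hom y u' hy').symm

/-- the descended evaluation morphism -/
theorem exists_ev (hgh : SGA1.UnivSubmersive (h ≫ g)) [Etale (D.obj PUnit.unit).hom] :
    ∃ ev : pullback g U.hom ⟶ (D.obj PUnit.unit).left,
      ev ≫ (D.obj PUnit.unit).hom = pullback.fst g U.hom ∧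
      ∀ ⦃T₀ : Scheme.{u}⦄ (x : T₀ ⟶ S') (u : T₀ ⟶ U.left) (y : T₀ ⟶ S'')
        (hx : x ≫ g = u ≫ U.hom) (hy : y ≫ h ≫ g = u ≫ U.hom),
        pullback.lift x u hx ≫ ev = rpt d x u y hx hy := by
  let b : pullback g U.hom ⟶ S := pullback.snd g U.hom ≫ U.hom
  let c : pullback b (h ≫ g) ⟶ pullback g U.hom := pullback.fst b (h ≫ g)
  have hc : SGA1.UnivSubmersive c :=
    Groth.Agent.Lib.Helper1.Subtr8.univSubmersive_of_isPullback hgh
      (IsPullback.of_hasPullback b (h ≫ g))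
  have hx₁ : (c ≫ pullback.fst g U.hom) ≫ g = (c ≫ pullback.snd g U.hom) ≫ U.hom := by
    rw [Category.assoc, Category.assoc, pullback.condition]
  have hy₁ : pullback.snd b (h ≫ g) ≫ h ≫ g = (c ≫ pullback.snd g U.hom) ≫ U.hom := by
    rw [Category.assoc]
    exact pullback.condition.symm
  obtain ⟨ev, ⟨hev1, hev2⟩, -⟩ := exists_unique_desc (D.obj PUnit.unit).hom
    (pullback.fst g U.hom) c hc
    (rpt d (c ≫ pullback.fst g U.hom) (c ≫ pullback.snd g U.hom) (pullback.snd b (h ≫ g)) hx₁ hy₁)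
    (rpt_hom d _ _ _ _ _) (by
      intro K _ α β hαβ
      rw [rpt_natural, rpt_natural]
      have e1 : α ≫ c ≫ pullback.fst g U.hom = β ≫ c ≫ pullback.fst g U.hom := by
        rw [reassoc_of% hαβ]
      have e2 : α ≫ c ≫ pullback.snd g U.hom = β ≫ c ≫ pullback.snd g U.hom := by
        rw [reassoc_of% hαβ]
      refine (rpt_congr d _ _ e1 e2 rfl).trans ?_
      exact rpt_indep d _ _ _ _ _ _ _)
  refine ⟨ev, hev1, ?_⟩
  intro T₀ x u y hx hy
  have hb : pullback.lift x u hx ≫ b = y ≫ h ≫ g := by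
    change pullback.lift x u hx ≫ pullback.snd g U.hom ≫ U.hom = _
    rw [pullback.lift_snd_assoc, hy]
  have e0 : pullback.lift x u hx = pullback.lift (pullback.lift x u hx) y hb ≫ c :=
    (pullback.lift_fst _ _ _).symm
  rw [e0, Category.assoc, hev2, rpt_natural]
  refine rpt_congr d _ _ ?_ ?_ ?_
  · rw [← Category.assoc, ← e0, pullback.lift_fst]
  · rw [← Category.assoc, ← e0, pullback.lift_snd]
  · exact pullback.lift_snd _ _ _

include d in
/-- **Refinement lemma**: effectivity of the restricted datum implies effectivity. -/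
theorem Eff0Data.nonempty_of_refine (hgh : SGA1.UnivSubmersive (h ≫ g))
    [Etale (D.obj PUnit.unit).hom] [Etale U.hom] : Nonempty (Eff0Data g D U) := by
  haveI : Surjective (h ≫ g) := UnivSubmersive.surjective hgh
  obtain ⟨ev, ev_hom, hev⟩ := exists_ev d hgh
  -- auxiliary: lifting field-valued points of `S`
  have lift_pt : ∀ (K : Type u) [Field K] (s : Spec (CommRingCat.of K) ⟶ S),
      ∃ (K' : Type u) (_ : Field K') (π : Spec (CommRingCat.of K') ⟶ Spec (CommRingCat.of K))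
        (y : Spec (CommRingCat.of K') ⟶ S''), y ≫ h ≫ g = π ≫ s := by
    intro K _ s
    exact exists_field_lift (h ≫ g) K s
  refine Eff0Data.nonempty_of_points' ev ev_hom ?_ ?_ ?_
  · -- surjectivity
    constructor
    intro x'
    let K := (D.obj PUnit.unit).left.residueField x'
    let xK : Spec (CommRingCat.of K) ⟶ (D.obj PUnit.unit).left :=
      (D.obj PUnit.unit).left.fromSpecResidueField x'
    obtain ⟨K', _, π, y, hy⟩ := lift_pt K ((xK ≫ (D.obj PUnit.unit).hom) ≫ g)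
    have hyx : (π ≫ xK ≫ (D.obj PUnit.unit).hom) ≫ g = (y ≫ h) ≫ g := by
      simp only [Category.assoc] at hy ⊢
      exact hy.symm
    let v'' : Spec (CommRingCat.of K') ⟶ (D.obj PUnit.unit).left :=
      tr g D (π ≫ xK ≫ (D.obj PUnit.unit).hom) (y ≫ h) hyx (π ≫ xK) (Category.assoc _ _ _)
    have hv'' : v'' ≫ (D.obj PUnit.unit).hom = y ≫ h := tr_hom _ _ _ _ _ _ _
    let w : Spec (CommRingCat.of K') ⟶ ((refD g h D).obj PUnit.unit).left :=
      pullback.lift v'' y hv''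
    have hw : w ≫ ((refD g h D).obj PUnit.unit).hom = y := pullback.lift_snd _ _ _
    let u' : Spec (CommRingCat.of K') ⟶ U.left := d.unpt w
    have hu' : y ≫ h ≫ g = u' ≫ U.hom := d.unpt_hom y w hw
    have hpt : d.pt y u' hu' = w := d.pt_unpt y w hw
    have hx : (π ≫ xK ≫ (D.obj PUnit.unit).hom) ≫ g = u' ≫ U.hom := by
      rw [hyx, Category.assoc, hu']
    have key : pullback.lift (π ≫ xK ≫ (D.obj PUnit.unit).hom) u' hx ≫ ev = π ≫ xK := by
      rw [hev _ _ y hx hu']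
      unfold rpt
      have e1 : d.pt y u' hu' ≫ pullback.fst (D.obj PUnit.unit).hom h = v'' := by
        rw [hpt]; exact pullback.lift_fst _ _ _
      refine (tr_congr g D _ _ rfl rfl e1).trans ?_
      refine (tr_tr g D _ _ _ hyx hyx.symm (π ≫ xK) (Category.assoc _ _ _)).trans ?_
      exact tr_self g D _ _ _
    obtain ⟨s₀⟩ : Nonempty ↥(Spec (CommRingCat.of K')) := ⟨IsLocalRing.closedPoint K'⟩
    refine ⟨(pullback.lift (π ≫ xK ≫ (D.obj PUnit.unit).hom) u' hx) s₀, ?_⟩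
    rw [← Scheme.Hom.comp_apply, key, Scheme.Hom.comp_apply]
    exact Scheme.fromSpecResidueField_apply x' _
  · -- injectivity on points
    intro K _ v₁ v₂ hv
    have hfst : v₁ ≫ pullback.fst g U.hom = v₂ ≫ pullback.fst g U.hom := by
      rw [← ev_hom, reassoc_of% hv]
    obtain ⟨K', _, π, y, hy⟩ := lift_pt K ((v₁ ≫ pullback.fst g U.hom) ≫ g)
    haveI := epi_of_fields π
    apply pullback.hom_ext hfst
    rw [← cancel_epi π]
    have hx₁ : (π ≫ v₁ ≫ pullback.fst g U.hom) ≫ g = (π ≫ v₁ ≫ pullback.snd g U.hom) ≫ U.hom := by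
      simp only [Category.assoc, pullback.condition]
    have hx₂ : (π ≫ v₁ ≫ pullback.fst g U.hom) ≫ g = (π ≫ v₂ ≫ pullback.snd g U.hom) ≫ U.hom := by
      rw [hfst]
      simp only [Category.assoc, pullback.condition]
    have hy₁ : y ≫ h ≫ g = (π ≫ v₁ ≫ pullback.snd g U.hom) ≫ U.hom := by
      rw [hy, ← hx₁]; simp only [Category.assoc]
    have hy₂ : y ≫ h ≫ g = (π ≫ v₂ ≫ pullback.snd g U.hom) ≫ U.hom := by
      rw [hy, ← hx₂]; simp only [Category.assoc]
    refine rpt_injective d _ _ _ y hx₁ hy₁ hx₂ hy₂ ?_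
    rw [← hev _ _ y hx₁ hy₁, ← hev _ _ y hx₂ hy₂]
    have e1 : pullback.lift (π ≫ v₁ ≫ pullback.fst g U.hom) (π ≫ v₁ ≫ pullback.snd g U.hom) hx₁ =
        π ≫ v₁ := by
      apply pullback.hom_ext
      · rw [pullback.lift_fst, Category.assoc]
      · rw [pullback.lift_snd, Category.assoc]
    have e2 : pullback.lift (π ≫ v₁ ≫ pullback.fst g U.hom) (π ≫ v₂ ≫ pullback.snd g U.hom) hx₂ =
        π ≫ v₂ := by
      apply pullback.hom_ext
      · rw [pullback.lift_fst, Category.assoc, hfst]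
      · rw [pullback.lift_snd, Category.assoc]
    rw [e1, e2, Category.assoc, Category.assoc, hv]
  · -- compatibility on points
    intro K _ x₀ x₁ u h₀ h₁
    obtain ⟨K', _, π, y, hy⟩ := lift_pt K (u ≫ U.hom)
    haveI := epi_of_fields π
    rw [← cancel_epi π, tr_natural]
    have hy' : y ≫ h ≫ g = (π ≫ u) ≫ U.hom := by rw [hy, Category.assoc]
    have hx₀ : (π ≫ x₀) ≫ g = (π ≫ u) ≫ U.hom := by rw [Category.assoc, h₀, Category.assoc]
    have hx₁ : (π ≫ x₁) ≫ g = (π ≫ u) ≫ U.hom := by rw [Category.assoc, h₁, Category.assoc]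
    have e : ∀ (x : Spec (CommRingCat.of K) ⟶ S') (hx : x ≫ g = u ≫ U.hom)
        (hx' : (π ≫ x) ≫ g = (π ≫ u) ≫ U.hom),
        π ≫ pullback.lift x u hx ≫ ev = rpt d (π ≫ x) (π ≫ u) y hx' hy' := by
      intro x hx hx'
      rw [← hev _ _ y hx' hy', ← Category.assoc]
      congr 1
      apply pullback.hom_ext
      · rw [Category.assoc, pullback.lift_fst, pullback.lift_fst]
      · rw [Category.assoc, pullback.lift_snd, pullback.lift_snd]
    rw [e x₁ h₁ hx₁]
    refine (tr_congr g D _ _ rfl rfl (e x₀ h₀ hx₀)).trans ?_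
    exact rpt_tr d _ _ _ _ hx₀ hx₁ hy'

end LemmaR

/-- **Refinement lemma**, in terms of `Eff₀`. -/
theorem eff₀_of_refine {S S' S'' : Scheme.{u}} (g : S' ⟶ S) (h : S'' ⟶ S')
    (D : Desc.SchDDFam (fun _ : PUnit.{1} => g)) (hgh : SGA1.UnivSubmersive (h ≫ g))
    [Etale (D.obj PUnit.unit).hom] (H : Eff₀ (h ≫ g) (refD g h D)) : Eff₀ g D := by
  obtain ⟨U, hU, ⟨d⟩⟩ := eff₀_iff_eff0Data.mp H
  obtain ⟨d'⟩ := Eff0Data.nonempty_of_refine d hgh
  exact d'.eff₀

end Groth.Agent.H5.EtDesc
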