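import Mathlib
import Groth.Prelude.Def_DescFam
import Groth.Prelude.Def_SGA1
import Groth.Agent.Lib.Helper5.EtDesc.EtW

/-!
# Sub-data of a descent datum on stable open subschemes (S2905)
-/

set_option autoImplicit false
set_option backward.isDefEq.respectTransparency false
set_option backward.isDefEq.respectTransparency.types false

universe u

open CategoryTheory CategoryTheory.Limits AlgebraicGeometry MorphismProperty

namespace Groth.Agent.H5.EtDesc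

section LiftW

/-- lift a morphism with range in `W` through `W.ι` -/
noncomputable def liftW {X T : Scheme.{u}} (W : X.Opens) (f : T ⟶ X)
    (hf : Set.range f ⊆ (W : Set X)) : T ⟶ W.toScheme :=
  IsOpenImmersion.lift W.ι f (by rw [Scheme.Opens.range_ι]; exact hf)

@[reassoc]
lemma liftW_ι {X T : Scheme.{u}} (W : X.Opens) (f : T ⟶ X)
    (hf : Set.range f ⊆ (W : Set X)) : liftW W f hf ≫ W.ι = f := IsOpenImmersion.lift_fac _ _ _

lemma range_comp_ι_subset {X T : Scheme.{u}} (W : X.Opens) (v : T ⟶ W.toScheme) :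
    Set.range (v ≫ W.ι) ⊆ (W : Set X) := by
  rintro _ ⟨t, rfl⟩
  rw [Scheme.Hom.comp_apply]
  exact (v t).2

end LiftW

section Sub

variable {S S' : Scheme.{u}} (g : S' ⟶ S) (D : Desc.SchDDFam (fun _ : PUnit.{1} => g))

/-- an open subscheme of `X'` stable under the gluing bijections on field-valued points -/
def StableOpen (W : (D.obj PUnit.unit).left.Opens) : Prop :=
  ∀ (K : Type u) [Field K] (x₀ x₁ : Spec (CommRingCat.of K) ⟶ S') (h : x₀ ≫ g = x₁ ≫ g)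
    (v : Spec (CommRingCat.of K) ⟶ (D.obj PUnit.unit).left)
    (hv : v ≫ (D.obj PUnit.unit).hom = x₀),
    Set.range v ⊆ (W : Set (D.obj PUnit.unit).left) →
      Set.range (tr g D x₀ x₁ h v hv) ⊆ (W : Set (D.obj PUnit.unit).left)

variable {g D}

lemma StableOpen.all {W : (D.obj PUnit.unit).left.Opens} (hW : StableOpen g D W)
    {T₀ : Scheme.{u}} (x₀ x₁ : T₀ ⟶ S') (h : x₀ ≫ g = x₁ ≫ g)
    (v : T₀ ⟶ (D.obj PUnit.unit).left) (hv : v ≫ (D.obj PUnit.unit).hom = x₀)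
    (hvW : Set.range v ⊆ (W : Set (D.obj PUnit.unit).left)) :
    Set.range (tr g D x₀ x₁ h v hv) ⊆ (W : Set (D.obj PUnit.unit).left) := by
  rintro _ ⟨t, rfl⟩
  obtain ⟨s₀⟩ : Nonempty ↥(Spec (CommRingCat.of ↑(T₀.residueField t))) :=
    ⟨IsLocalRing.closedPoint _⟩
  have h1 := hW (T₀.residueField t) (T₀.fromSpecResidueField t ≫ x₀)
    (T₀.fromSpecResidueField t ≫ x₁) (by rw [Category.assoc, h, Category.assoc])
    (T₀.fromSpecResidueField t ≫ v) (by rw [Category.assoc, hv]) (by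
      rintro _ ⟨s, rfl⟩
      rw [Scheme.Hom.comp_apply]
      exact hvW ⟨_, rfl⟩)
  have h1' : Set.range (T₀.fromSpecResidueField t ≫ tr g D x₀ x₁ h v hv) ⊆
      (W : Set (D.obj PUnit.unit).left) := by
    rw [tr_natural]; exact h1
  have h2 : (T₀.fromSpecResidueField t ≫ tr g D x₀ x₁ h v hv) s₀ ∈
      (W : Set (D.obj PUnit.unit).left) := h1' ⟨s₀, rfl⟩
  have e : (T₀.fromSpecResidueField t ≫ tr g D x₀ x₁ h v hv) s₀ = (tr g D x₀ x₁ h v hv) t := by
    rw [Scheme.Hom.comp_apply]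
    congr 1
    exact Scheme.fromSpecResidueField_apply t s₀
  rwa [e] at h2

/-- the complement of a closed stable open is stable -/
lemma StableOpen.compl {W W' : (D.obj PUnit.unit).left.Opens} (hW : StableOpen g D W)
    (hc : (W' : Set (D.obj PUnit.unit).left) = (W : Set (D.obj PUnit.unit).left)ᶜ) :
    StableOpen g D W' := by
  intro K _ x₀ x₁ h v hv hvW
  obtain ⟨s₀⟩ : Nonempty ↥(Spec (CommRingCat.of K)) := ⟨IsLocalRing.closedPoint K⟩
  rintro _ ⟨s, rfl⟩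
  rw [hc]
  intro hs
  have h1 : Set.range (tr g D x₀ x₁ h v hv) ⊆ (W : Set (D.obj PUnit.unit).left) := by
    rintro _ ⟨s', rfl⟩
    rw [Subsingleton.elim s' s]
    exact hs
  have h2 := hW K x₁ x₀ h.symm _ (tr_hom g D x₀ x₁ h v hv) h1
  rw [tr_tr, tr_self] at h2
  have h3 := hvW ⟨s₀, rfl⟩
  rw [hc] at h3
  exact h3 (h2 ⟨s₀, rfl⟩)

variable (g D) in
/-- transport inside a stable open -/
noncomputable def trW (W : (D.obj PUnit.unit).left.Opens) (hW : StableOpen g D W)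
    {T₀ : Scheme.{u}} (x₀ x₁ : T₀ ⟶ S') (h : x₀ ≫ g = x₁ ≫ g) (v : T₀ ⟶ W.toScheme)
    (hv : v ≫ W.ι ≫ (D.obj PUnit.unit).hom = x₀) : T₀ ⟶ W.toScheme :=
  liftW W (tr g D x₀ x₁ h (v ≫ W.ι) (by rw [Category.assoc]; exact hv))
    (hW.all x₀ x₁ h _ _ (range_comp_ι_subset W v))

lemma trW_ι (W : (D.obj PUnit.unit).left.Opens) (hW : StableOpen g D W)
    {T₀ : Scheme.{u}} (x₀ x₁ : T₀ ⟶ S') (h : x₀ ≫ g = x₁ ≫ g) (v : T₀ ⟶ W.toScheme)
    (hv : v ≫ W.ι ≫ (D.obj PUnit.unit).hom = x₀) :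
    trW g D W hW x₀ x₁ h v hv ≫ W.ι =
      tr g D x₀ x₁ h (v ≫ W.ι) (by rw [Category.assoc]; exact hv) :=
  liftW_ι _ _ _

lemma trW_hom (W : (D.obj PUnit.unit).left.Opens) (hW : StableOpen g D W)
    {T₀ : Scheme.{u}} (x₀ x₁ : T₀ ⟶ S') (h : x₀ ≫ g = x₁ ≫ g) (v : T₀ ⟶ W.toScheme)
    (hv : v ≫ W.ι ≫ (D.obj PUnit.unit).hom = x₀) :
    trW g D W hW x₀ x₁ h v hv ≫ W.ι ≫ (D.obj PUnit.unit).hom = x₁ := by
  rw [← Category.assoc, trW_ι, tr_hom]

lemma trW_trW (W : (D.obj PUnit.unit).left.Opens) (hW : StableOpen g D W)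
    {T₀ : Scheme.{u}} (x₀ x₁ x₂ : T₀ ⟶ S') (h₀₁ : x₀ ≫ g = x₁ ≫ g) (h₁₂ : x₁ ≫ g = x₂ ≫ g)
    (v : T₀ ⟶ W.toScheme) (hv : v ≫ W.ι ≫ (D.obj PUnit.unit).hom = x₀) :
    trW g D W hW x₁ x₂ h₁₂ (trW g D W hW x₀ x₁ h₀₁ v hv) (trW_hom W hW x₀ x₁ h₀₁ v hv) =
      trW g D W hW x₀ x₂ (h₀₁.trans h₁₂) v hv := by
  rw [← cancel_mono W.ι]
  refine (trW_ι W hW x₁ x₂ h₁₂ _ _).trans ?_
  refine (tr_congr g D _ _ rfl rfl (trW_ι W hW x₀ x₁ h₀₁ v hv)).trans ?_
  refine (tr_tr g D x₀ x₁ x₂ h₀₁ h₁₂ (v ≫ W.ι) _).trans ?_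
  exact (trW_ι W hW x₀ x₂ _ v hv).symm

lemma trW_self (W : (D.obj PUnit.unit).left.Opens) (hW : StableOpen g D W)
    {T₀ : Scheme.{u}} (x : T₀ ⟶ S') (v : T₀ ⟶ W.toScheme)
    (hv : v ≫ W.ι ≫ (D.obj PUnit.unit).hom = x) :
    trW g D W hW x x rfl v hv = v := by
  rw [← cancel_mono W.ι, trW_ι, tr_self]

lemma trW_natural (W : (D.obj PUnit.unit).left.Opens) (hW : StableOpen g D W)
    {T₀ T₁ : Scheme.{u}} (r : T₁ ⟶ T₀) (x₀ x₁ : T₀ ⟶ S') (h : x₀ ≫ g = x₁ ≫ g)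
    (v : T₀ ⟶ W.toScheme) (hv : v ≫ W.ι ≫ (D.obj PUnit.unit).hom = x₀) :
    r ≫ trW g D W hW x₀ x₁ h v hv =
      trW g D W hW (r ≫ x₀) (r ≫ x₁) (by rw [Category.assoc, h, Category.assoc]) (r ≫ v)
        (by rw [Category.assoc, hv]) := by
  rw [← cancel_mono W.ι, Category.assoc, trW_ι, trW_ι, tr_natural]
  exact tr_congr g D _ _ rfl rfl (Category.assoc _ _ _).symm

lemma trW_congr (W : (D.obj PUnit.unit).left.Opens) (hW : StableOpen g D W)
    {T₀ : Scheme.{u}} {x₀ x₁ y₀ y₁ : T₀ ⟶ S'} (h : x₀ ≫ g = x₁ ≫ g) {v w : T₀ ⟶ W.toScheme}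
    (hv : v ≫ W.ι ≫ (D.obj PUnit.unit).hom = x₀) (e₀ : x₀ = y₀) (e₁ : x₁ = y₁) (e : v = w) :
    trW g D W hW x₀ x₁ h v hv = trW g D W hW y₀ y₁ (by rw [← e₀, ← e₁]; exact h) w
      (by rw [← e, ← e₀]; exact hv) := by
  subst e₀ e₁ e; rfl

variable (g D) in
/-- the sub-datum on a stable open subscheme -/
noncomputable def subD (W : (D.obj PUnit.unit).left.Opens) (hW : StableOpen g D W) :
    Desc.SchDDFam (fun _ : PUnit.{1} => g) where
  obj _ := Over.mk (W.ι ≫ (D.obj PUnit.unit).hom)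
  φ T i j x₀ x₁ h :=
    { toFun := fun v => ⟨trW g D W hW x₀ x₁ h v.1 v.2, trW_hom W hW x₀ x₁ h v.1 v.2⟩
      invFun := fun v => ⟨trW g D W hW x₁ x₀ h.symm v.1 v.2, trW_hom W hW x₁ x₀ h.symm v.1 v.2⟩
      left_inv := fun v => by
        apply Subtype.ext
        exact (trW_trW W hW x₀ x₁ x₀ h h.symm v.1 v.2).trans (trW_self W hW x₀ v.1 v.2)
      right_inv := fun v => by
        apply Subtype.ext
        exact (trW_trW W hW x₁ x₀ x₁ h.symm h v.1 v.2).trans (trW_self W hW x₁ v.1 v.2) }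
  φ_natural T T' r i j x₀ x₁ h y₀ y₁ hy₀ hy₁ h' v v' hv' := by
    subst hy₀ hy₁
    change trW g D W hW _ _ _ v'.1 v'.2 = r ≫ trW g D W hW x₀ x₁ h v.1 v.2
    rw [trW_natural]
    exact trW_congr W hW _ _ rfl rfl hv'
  φ_self T i x v := by
    apply Subtype.ext
    exact trW_self W hW x v.1 v.2
  φ_comp T i j k x₀ x₁ x₂ h₀₁ h₁₂ v := by
    apply Subtype.ext
    exact trW_trW W hW x₀ x₁ x₂ h₀₁ h₁₂ v.1 v.2

lemma subD_tr_ι (W : (D.obj PUnit.unit).left.Opens) (hW : StableOpen g D W) {T₀ : Scheme.{u}}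
    (x₀ x₁ : T₀ ⟶ S') (h : x₀ ≫ g = x₁ ≫ g)
    (v : T₀ ⟶ ((subD g D W hW).obj PUnit.unit).left)
    (hv : v ≫ ((subD g D W hW).obj PUnit.unit).hom = x₀) :
    tr g (subD g D W hW) x₀ x₁ h v hv ≫ W.ι =
      tr g D x₀ x₁ h (v ≫ W.ι) (by rw [Category.assoc]; exact hv) :=
  trW_ι W hW x₀ x₁ h v hv

section SubInst

variable (W : (D.obj PUnit.unit).left.Opens) (hW : StableOpen g D W)

instance subD_etale [Etale (D.obj PUnit.unit).hom] :
    Etale ((subD g D W hW).obj PUnit.unit).hom := by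
  change Etale (W.ι ≫ (D.obj PUnit.unit).hom)
  infer_instance

instance subD_isSeparated [IsSeparated (D.obj PUnit.unit).hom] :
    IsSeparated ((subD g D W hW).obj PUnit.unit).hom := by
  change IsSeparated (W.ι ≫ (D.obj PUnit.unit).hom)
  infer_instance

lemma quasiCompact_ι_of_isClosed {X : Scheme.{u}} (W : X.Opens) (hc : IsClosed (W : Set X)) :
    QuasiCompact W.ι := by
  have hemb : Topology.IsClosedEmbedding W.ι := by
    refine ⟨W.ι.isOpenEmbedding.isEmbedding, ?_⟩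
    rw [Scheme.Opens.range_ι]
    exact hc
  exact ⟨fun U _ hU => hemb.isCompact_preimage hU⟩

lemma subD_quasiCompact [QuasiCompact (D.obj PUnit.unit).hom]
    (hc : IsClosed (W : Set (D.obj PUnit.unit).left)) :
    QuasiCompact ((subD g D W hW).obj PUnit.unit).hom := by
  haveI := quasiCompact_ι_of_isClosed W hc
  change QuasiCompact (W.ι ≫ (D.obj PUnit.unit).hom)
  infer_instance

end SubInst

section Trivial

/-- a descent datum whose scheme maps isomorphically to `S'` is effective, realised by `S`. -/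
noncomputable def Eff0Data.ofIsIso [IsIso (D.obj PUnit.unit).hom] :
    Eff0Data g D (Over.mk (𝟙 S)) where
  ev := pullback.fst g (𝟙 S) ≫ inv (D.obj PUnit.unit).hom
  ev_hom := by
    change (pullback.fst g (𝟙 S) ≫ inv (D.obj PUnit.unit).hom) ≫ _ = pullback.fst g (𝟙 S)
    rw [Category.assoc, IsIso.inv_hom_id, Category.comp_id]
  isIso := by
    change IsIso (pullback.fst g (𝟙 S) ≫ inv (D.obj PUnit.unit).hom)
    infer_instance
  comm := by
    intro T₀ x₀ x₁ u h₀ h₁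
    rw [← cancel_mono (D.obj PUnit.unit).hom, tr_hom, Category.assoc, Category.assoc,
      IsIso.inv_hom_id, Category.comp_id]
    exact (pullback.lift_fst _ _ _).symm

end Trivial

end Sub

section Pieces

variable {S S' : Scheme.{u}} {g : S' ⟶ S} {D : Desc.SchDDFam (fun _ : PUnit.{1} => g)}
  {U : Over S}

/-- a piece of a decomposition of a descent datum, with effectivity data -/
structure Piece (ev : pullback g U.hom ⟶ (D.obj PUnit.unit).left) where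
  Uk : Over S
  inc : Uk.left ⟶ U.left
  inc_hom : inc ≫ U.hom = Uk.hom
  mono : Mono inc
  W : (D.obj PUnit.unit).left.Opens
  hW : StableOpen g D W
  d : Eff0Data g (subD g D W hW) Uk
  F : ∀ ⦃T₀ : Scheme.{u}⦄ (x : T₀ ⟶ S') (uk : T₀ ⟶ Uk.left) (hx : x ≫ g = uk ≫ Uk.hom),
    pullback.lift x (uk ≫ inc) (by rw [Category.assoc, inc_hom]; exact hx) ≫ ev =
      d.pt x uk hx ≫ W.ι

namespace Piece

variable {ev : pullback g U.hom ⟶ (D.obj PUnit.unit).left} (P : Piece ev)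

lemma hx' {T₀ : Scheme.{u}} (x : T₀ ⟶ S') (uk : T₀ ⟶ P.Uk.left) (hx : x ≫ g = uk ≫ P.Uk.hom) :
    x ≫ g = (uk ≫ P.inc) ≫ U.hom := by
  rw [Category.assoc, P.inc_hom]; exact hx

lemma hx_of {T₀ : Scheme.{u}} (x : T₀ ⟶ S') (uk : T₀ ⟶ P.Uk.left)
    (hx : x ≫ g = (uk ≫ P.inc) ≫ U.hom) : x ≫ g = uk ≫ P.Uk.hom := by
  rw [hx, Category.assoc, P.inc_hom]

/-- compatibility with gluing on points of the piece -/
lemma comm {T₀ : Scheme.{u}} (x₀ x₁ : T₀ ⟶ S') (uk : T₀ ⟶ P.Uk.left)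
    (h₀ : x₀ ≫ g = uk ≫ P.Uk.hom) (h₁ : x₁ ≫ g = uk ≫ P.Uk.hom)
    (hev : ev ≫ (D.obj PUnit.unit).hom = pullback.fst g U.hom) :
    tr g D x₀ x₁ (h₀.trans h₁.symm) (pullback.lift x₀ (uk ≫ P.inc) (P.hx' x₀ uk h₀) ≫ ev)
      (by rw [Category.assoc, hev, pullback.lift_fst]) =
      pullback.lift x₁ (uk ≫ P.inc) (P.hx' x₁ uk h₁) ≫ ev := by
  rw [P.F x₁ uk h₁]
  refine (tr_congr g D _ _ rfl rfl (P.F x₀ uk h₀)).trans ?_
  rw [← P.d.pt_comm x₀ x₁ uk h₀ h₁]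
  exact (subD_tr_ι P.W P.hW x₀ x₁ _ _ _).symm

lemma range_subset {T₀ : Scheme.{u}} (x : T₀ ⟶ S') (uk : T₀ ⟶ P.Uk.left)
    (hx : x ≫ g = uk ≫ P.Uk.hom) :
    Set.range (pullback.lift x (uk ≫ P.inc) (P.hx' x uk hx) ≫ ev) ⊆
      (P.W : Set (D.obj PUnit.unit).left) := by
  rw [P.F x uk hx]
  exact range_comp_ι_subset _ _

lemma inj {T₀ : Scheme.{u}} (x : T₀ ⟶ S') (uk uk' : T₀ ⟶ P.Uk.left)
    (hx : x ≫ g = uk ≫ P.Uk.hom) (hx' : x ≫ g = uk' ≫ P.Uk.hom)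
    (e : pullback.lift x (uk ≫ P.inc) (P.hx' x uk hx) ≫ ev =
      pullback.lift x (uk' ≫ P.inc) (P.hx' x uk' hx') ≫ ev) : uk = uk' := by
  rw [P.F x uk hx, P.F x uk' hx', cancel_mono] at e
  exact P.d.pt_injective x uk uk' hx hx' e

lemma surj (x' : (D.obj PUnit.unit).left) (hx' : x' ∈ P.W) :
    ∃ y : ↥(pullback g U.hom), ev y = x' := by
  haveI := P.d.isIso
  obtain ⟨y₁, hy₁⟩ := (asIso P.d.ev).hom.homeomorph.surjective ⟨x', hx'⟩
  have hy₁' : P.d.ev y₁ = ⟨x', hx'⟩ := hy₁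
  let i : pullback g P.Uk.hom ⟶ pullback g U.hom :=
    pullback.lift (pullback.fst _ _) (pullback.snd _ _ ≫ P.inc)
      (P.hx' _ _ pullback.condition)
  refine ⟨i y₁, ?_⟩
  have h1 : i ≫ ev = P.d.ev ≫ P.W.ι := by
    have h0 := P.F (pullback.fst g P.Uk.hom) (pullback.snd g P.Uk.hom) pullback.condition
    have e : pullback.lift (pullback.fst g P.Uk.hom) (pullback.snd g P.Uk.hom)
        pullback.condition = 𝟙 _ := by
      apply pullback.hom_ext
      · rw [pullback.lift_fst, Category.id_comp]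
      · rw [pullback.lift_snd, Category.id_comp]
    rw [Eff0Data.pt, e, Category.id_comp] at h0
    exact h0
  rw [← Scheme.Hom.comp_apply, h1, Scheme.Hom.comp_apply, hy₁']
  rfl

end Piece

/-- **Assembly**: two pieces with complementary opens, through which all field-valued points of
`U` factor, give effectivity data. -/
theorem Eff0Data.nonempty_of_pieces [Etale U.hom] [Etale (D.obj PUnit.unit).hom]
    (ev : pullback g U.hom ⟶ (D.obj PUnit.unit).left)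
    (ev_hom : ev ≫ (D.obj PUnit.unit).hom = pullback.fst g U.hom)
    (P₁ P₂ : Piece ev)
    (hcov : ∀ x' : (D.obj PUnit.unit).left, x' ∈ P₁.W ∨ x' ∈ P₂.W)
    (hdisj : ∀ x' : (D.obj PUnit.unit).left, x' ∈ P₁.W → x' ∈ P₂.W → False)
    (hfac : ∀ (K : Type u) [Field K] (u : Spec (CommRingCat.of K) ⟶ U.left),
      (∃ u₁, u = u₁ ≫ P₁.inc) ∨ (∃ u₂, u = u₂ ≫ P₂.inc)) :
    Nonempty (Eff0Data g D U) := by
  refine Eff0Data.nonempty_of_points' ev ev_hom ⟨?_⟩ ?_ ?_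
  · intro x'
    rcases hcov x' with h | h
    · exact P₁.surj x' h
    · exact P₂.surj x' h
  · intro K _ v₁ v₂ hv
    obtain ⟨s₀⟩ : Nonempty ↥(Spec (CommRingCat.of K)) := ⟨IsLocalRing.closedPoint K⟩
    have hfst : v₁ ≫ pullback.fst g U.hom = v₂ ≫ pullback.fst g U.hom := by
      rw [← ev_hom, reassoc_of% hv]
    have hlift : ∀ (v : Spec (CommRingCat.of K) ⟶ pullback g U.hom)
        (P : Piece ev) (uk : Spec (CommRingCat.of K) ⟶ P.Uk.left)
        (e : v ≫ pullback.snd g U.hom = uk ≫ P.inc),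
        ∃ hx : (v ≫ pullback.fst g U.hom) ≫ g = uk ≫ P.Uk.hom,
          v = pullback.lift (v ≫ pullback.fst g U.hom) (uk ≫ P.inc) (P.hx' _ uk hx) := by
      intro v P uk e
      have hx : (v ≫ pullback.fst g U.hom) ≫ g = uk ≫ P.Uk.hom := by
        rw [Category.assoc, pullback.condition, reassoc_of% e, P.inc_hom]
      refine ⟨hx, ?_⟩
      apply pullback.hom_ext
      · rw [pullback.lift_fst]
      · rw [pullback.lift_snd, e]
    have same : ∀ (P : Piece ev) (u₁ u₂ : Spec (CommRingCat.of K) ⟶ P.Uk.left)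
        (e₁ : v₁ ≫ pullback.snd g U.hom = u₁ ≫ P.inc)
        (e₂ : v₂ ≫ pullback.snd g U.hom = u₂ ≫ P.inc), v₁ = v₂ := by
      intro P u₁ u₂ e₁ e₂
      obtain ⟨hx₁, hv₁⟩ := hlift v₁ P u₁ e₁
      obtain ⟨hx₂, hv₂⟩ := hlift v₂ P u₂ e₂
      have hx₂' : (v₁ ≫ pullback.fst g U.hom) ≫ g = u₂ ≫ P.Uk.hom := by rw [hfst]; exact hx₂
      have hv₂' : v₂ = pullback.lift (v₁ ≫ pullback.fst g U.hom) (u₂ ≫ P.inc)
          (P.hx' _ u₂ hx₂') := by
        apply pullback.hom_ext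
        · rw [pullback.lift_fst, hfst]
        · rw [pullback.lift_snd, e₂]
      have := P.inj _ u₁ u₂ hx₁ hx₂' (by rw [← hv₁, ← hv₂', hv])
      apply pullback.hom_ext hfst
      rw [e₁, e₂, this]
    have diff : ∀ (P P' : Piece ev) (_ : ∀ x', x' ∈ P.W → x' ∈ P'.W → False)
        (u₁ : Spec (CommRingCat.of K) ⟶ P.Uk.left) (u₂ : Spec (CommRingCat.of K) ⟶ P'.Uk.left)
        (w₁ w₂ : Spec (CommRingCat.of K) ⟶ pullback g U.hom) (_ : w₁ ≫ ev = w₂ ≫ ev)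
        (_ : w₁ ≫ pullback.snd g U.hom = u₁ ≫ P.inc)
        (_ : w₂ ≫ pullback.snd g U.hom = u₂ ≫ P'.inc), False := by
      intro P P' hd u₁ u₂ w₁ w₂ hw e₁ e₂
      obtain ⟨hx₁, hv₁⟩ := hlift w₁ P u₁ e₁
      obtain ⟨hx₂, hv₂⟩ := hlift w₂ P' u₂ e₂
      have r₁ := P.range_subset _ u₁ hx₁
      have r₂ := P'.range_subset _ u₂ hx₂
      rw [← hv₁] at r₁
      rw [← hv₂, ← hw] at r₂
      exact hd _ (r₁ ⟨s₀, rfl⟩) (r₂ ⟨s₀, rfl⟩)
    rcases hfac K (v₁ ≫ pullback.snd g U.hom) with ⟨u₁, e₁⟩ | ⟨u₁, e₁⟩ <;>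
    rcases hfac K (v₂ ≫ pullback.snd g U.hom) with ⟨u₂, e₂⟩ | ⟨u₂, e₂⟩
    · exact same P₁ u₁ u₂ e₁ e₂
    · exact (diff P₁ P₂ hdisj u₁ u₂ v₁ v₂ hv e₁ e₂).elim
    · exact (diff P₁ P₂ hdisj u₂ u₁ v₂ v₁ hv.symm e₂ e₁).elim
    · exact same P₂ u₁ u₂ e₁ e₂
  · intro K _ x₀ x₁ u h₀ h₁
    have one : ∀ (P : Piece ev) (uk : Spec (CommRingCat.of K) ⟶ P.Uk.left) (e : u = uk ≫ P.inc),
        tr g D x₀ x₁ (h₀.trans h₁.symm) (pullback.lift x₀ u h₀ ≫ ev)
          (by rw [Category.assoc, ev_hom, pullback.lift_fst]) = pullback.lift x₁ u h₁ ≫ ev := by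
      intro P uk e
      subst e
      exact P.comm x₀ x₁ uk (P.hx_of x₀ uk h₀) (P.hx_of x₁ uk h₁) ev_hom
    rcases hfac K u with ⟨u₁, e₁⟩ | ⟨u₁, e₁⟩
    · exact one P₁ u₁ e₁
    · exact one P₂ u₁ e₁

end Pieces

section Decomp

variable {S S' : Scheme.{u}} {g : S' ⟶ S} {D : Desc.SchDDFam (fun _ : PUnit.{1} => g)}

lemma etale_coprodDesc {X Y Z : Scheme.{u}} (f : X ⟶ Z) (g : Y ⟶ Z) [Etale f] [Etale g] :
    Etale (coprod.desc f g) := by
  rw [IsZariskiLocalAtSource.iff_of_openCover (P := @Etale) (coprodOpenCover.{u, u} X Y)]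
  rintro (⟨⟩ | ⟨⟩)
  · change Etale (coprod.inl ≫ coprod.desc f g)
    rw [coprod.inl_desc]; infer_instance
  · change Etale (coprod.inr ≫ coprod.desc f g)
    rw [coprod.inr_desc]; infer_instance

lemma fac_inl_or_inr {X Y : Scheme.{u}} (K : Type u) [Field K]
    (u : Spec (CommRingCat.of K) ⟶ X ⨿ Y) :
    (∃ u₁, u = u₁ ≫ (coprod.inl : X ⟶ X ⨿ Y)) ∨ (∃ u₂, u = u₂ ≫ (coprod.inr : Y ⟶ X ⨿ Y)) := by
  obtain ⟨s₀⟩ : Nonempty ↥(Spec (CommRingCat.of K)) := ⟨IsLocalRing.closedPoint K⟩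
  have hc := (isCompl_range_inl_inr X Y).codisjoint
  have : u s₀ ∈ Set.range (coprod.inl : X ⟶ X ⨿ Y) ∪ Set.range (coprod.inr : Y ⟶ X ⨿ Y) := by
    rw [codisjoint_iff] at hc
    have : Set.range (coprod.inl : X ⟶ X ⨿ Y) ∪ Set.range (coprod.inr : Y ⟶ X ⨿ Y) = Set.univ :=
      hc
    rw [this]; trivial
  rcases this with h | h
  · left
    have hr : Set.range u ⊆ Set.range (coprod.inl : X ⟶ X ⨿ Y) := by
      rintro _ ⟨s, rfl⟩
      rw [Subsingleton.elim s s₀]; exact h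
    exact ⟨IsOpenImmersion.lift coprod.inl u hr, (IsOpenImmersion.lift_fac _ _ _).symm⟩
  · right
    have hr : Set.range u ⊆ Set.range (coprod.inr : Y ⟶ X ⨿ Y) := by
      rintro _ ⟨s, rfl⟩
      rw [Subsingleton.elim s s₀]; exact h
    exact ⟨IsOpenImmersion.lift coprod.inr u hr, (IsOpenImmersion.lift_fac _ _ _).symm⟩

/-- **Decomposition**: if `X'` is the disjoint union of two stable opens on each of which the
datum is effective, then the datum is effective. -/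
theorem Eff0Data.nonempty_of_decomp [Etale (D.obj PUnit.unit).hom]
    (W₁ W₂ : (D.obj PUnit.unit).left.Opens) (hW₁ : StableOpen g D W₁) (hW₂ : StableOpen g D W₂)
    (hcov : ∀ x' : (D.obj PUnit.unit).left, x' ∈ W₁ ∨ x' ∈ W₂)
    (hdisj : ∀ x' : (D.obj PUnit.unit).left, x' ∈ W₁ → x' ∈ W₂ → False)
    {U₁ U₂ : Over S} [Etale U₁.hom] [Etale U₂.hom]
    (d₁ : Eff0Data g (subD g D W₁ hW₁) U₁) (d₂ : Eff0Data g (subD g D W₂ hW₂) U₂) :
    ∃ U : Over S, Etale U.hom ∧ Nonempty (Eff0Data g D U) := by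
  let U : Over S := Over.mk (coprod.desc U₁.hom U₂.hom)
  haveI : Etale U.hom := etale_coprodDesc _ _
  refine ⟨U, inferInstance, ?_⟩
  have hinl : (coprod.inl : U₁.left ⟶ U₁.left ⨿ U₂.left) ≫ U.hom = U₁.hom := coprod.inl_desc _ _
  have hinr : (coprod.inr : U₂.left ⟶ U₁.left ⨿ U₂.left) ≫ U.hom = U₂.hom := coprod.inr_desc _ _
  let i₁ : pullback g U₁.hom ⟶ pullback g U.hom :=
    pullback.map g U₁.hom g U.hom (𝟙 S') coprod.inl (𝟙 S)
      (by rw [Category.id_comp, Category.comp_id]) (by rw [Category.comp_id, hinl])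
  let i₂ : pullback g U₂.hom ⟶ pullback g U.hom :=
    pullback.map g U₂.hom g U.hom (𝟙 S') coprod.inr (𝟙 S)
      (by rw [Category.id_comp, Category.comp_id]) (by rw [Category.comp_id, hinr])
  have hid : IsPullback (𝟙 S') g g (𝟙 S) := IsPullback.of_horiz_isIso ⟨by simp⟩
  have pb₁ : IsPullback i₁ (pullback.snd g U₁.hom) (pullback.snd g U.hom) coprod.inl :=
    isPullback_map_snd g U.hom g U₁.hom (𝟙 S') coprod.inl (𝟙 S) hid
      (by rw [Category.comp_id, hinl])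
  have pb₂ : IsPullback i₂ (pullback.snd g U₂.hom) (pullback.snd g U.hom) coprod.inr :=
    isPullback_map_snd g U.hom g U₂.hom (𝟙 S') coprod.inr (𝟙 S) hid
      (by rw [Category.comp_id, hinr])
  obtain ⟨hcol⟩ := ((BinaryCofan.isVanKampen_iff _).mp
    (FinitaryExtensive.vanKampen _ (coprodIsCoprod U₁.left U₂.left))
    (BinaryCofan.mk i₁ i₂) (pullback.snd g U₁.hom) (pullback.snd g U₂.hom)
    (pullback.snd g U.hom) pb₁.w.symm pb₂.w.symm).mpr ⟨pb₁, pb₂⟩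
  let ev : pullback g U.hom ⟶ (D.obj PUnit.unit).left :=
    hcol.desc (BinaryCofan.mk (d₁.ev ≫ W₁.ι) (d₂.ev ≫ W₂.ι))
  have hev₁ : i₁ ≫ ev = d₁.ev ≫ W₁.ι := hcol.fac (BinaryCofan.mk (d₁.ev ≫ W₁.ι) (d₂.ev ≫ W₂.ι))
    ⟨WalkingPair.left⟩
  have hev₂ : i₂ ≫ ev = d₂.ev ≫ W₂.ι := hcol.fac (BinaryCofan.mk (d₁.ev ≫ W₁.ι) (d₂.ev ≫ W₂.ι))
    ⟨WalkingPair.right⟩
  have ev_hom : ev ≫ (D.obj PUnit.unit).hom = pullback.fst g U.hom := by
    apply BinaryCofan.IsColimit.hom_ext hcol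
    · change i₁ ≫ ev ≫ _ = i₁ ≫ _
      rw [reassoc_of% hev₁]
      have := d₁.ev_hom
      change d₁.ev ≫ W₁.ι ≫ (D.obj PUnit.unit).hom = _ at this
      rw [this]
      have e : i₁ ≫ pullback.fst g U.hom = pullback.fst g U₁.hom ≫ 𝟙 S' := pullback.lift_fst _ _ _
      rw [e, Category.comp_id]
    · change i₂ ≫ ev ≫ _ = i₂ ≫ _
      rw [reassoc_of% hev₂]
      have := d₂.ev_hom
      change d₂.ev ≫ W₂.ι ≫ (D.obj PUnit.unit).hom = _ at this
      rw [this]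
      have e : i₂ ≫ pullback.fst g U.hom = pullback.fst g U₂.hom ≫ 𝟙 S' := pullback.lift_fst _ _ _
      rw [e, Category.comp_id]
  let P₁ : Piece (U := U) ev :=
    { Uk := U₁, inc := coprod.inl, inc_hom := hinl, mono := inferInstance, W := W₁, hW := hW₁,
      d := d₁
      F := by
        intro T₀ x uk hx
        have e : pullback.lift x (uk ≫ coprod.inl) (by rw [Category.assoc, hinl]; exact hx) =
            pullback.lift x uk hx ≫ i₁ := by
          apply pullback.hom_ext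
          · rw [pullback.lift_fst, Category.assoc, pullback.lift_fst, pullback.lift_fst_assoc,
              Category.comp_id]
          · rw [pullback.lift_snd, Category.assoc, pullback.lift_snd, pullback.lift_snd_assoc]
        rw [e, Category.assoc, hev₁, ← Category.assoc]
        rfl }
  let P₂ : Piece (U := U) ev :=
    { Uk := U₂, inc := coprod.inr, inc_hom := hinr, mono := inferInstance, W := W₂, hW := hW₂,
      d := d₂
      F := by
        intro T₀ x uk hx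
        have e : pullback.lift x (uk ≫ coprod.inr) (by rw [Category.assoc, hinr]; exact hx) =
            pullback.lift x uk hx ≫ i₂ := by
          apply pullback.hom_ext
          · rw [pullback.lift_fst, Category.assoc, pullback.lift_fst, pullback.lift_fst_assoc,
              Category.comp_id]
          · rw [pullback.lift_snd, Category.assoc, pullback.lift_snd, pullback.lift_snd_assoc]
        rw [e, Category.assoc, hev₂, ← Category.assoc]
        rfl }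
  exact Eff0Data.nonempty_of_pieces ev ev_hom P₁ P₂ hcov hdisj (fun K _ u => fac_inl_or_inr K u)

end Decomp

end Groth.Agent.H5.EtDesc
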