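import Mathlib
import Groth.Prelude.Def_DescFam
import Groth.Prelude.Def_SGA1
import Groth.Agent.Lib.Helper5.EtDesc.EtK
import Groth.Agent.Lib.Helper5.EtDesc.EtX

/-!
# A descent datum living over an open of the base (S2905)

If the scheme of a descent datum maps into an open `V ⊆ S`, effectivity over `V` implies effectivity.
-/

set_option autoImplicit false
set_option backward.isDefEq.respectTransparency false
set_option backward.isDefEq.respectTransparency.types false

universe u

open CategoryTheory CategoryTheory.Limits AlgebraicGeometry MorphismProperty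

namespace Groth.Agent.H5.EtDesc

variable {S S' : Scheme.{u}} {g : S' ⟶ S} {D : Desc.SchDDFam (fun _ : PUnit.{1} => g)}

theorem eff₀_of_range_subset (V : S.Opens) [Etale (D.obj PUnit.unit).hom]
    (hV : Set.range ((D.obj PUnit.unit).hom ≫ g) ⊆ (V : Set S)) (H : Eff g D V.ι) : Eff₀ g D := by
  obtain ⟨U₀, hU₀, ⟨d⟩⟩ := eff_iff.mp H
  haveI := hU₀
  let U : Over S := Over.mk (U₀.hom ≫ V.ι)
  haveI : Etale U.hom := by
    change Etale (U₀.hom ≫ V.ι)
    infer_instance
  -- the point of `S' ×_S V` determined by a point of `S'` and a point of `U₀`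
  have hs : ∀ {T₀ : Scheme.{u}} (x : T₀ ⟶ S') (u : T₀ ⟶ U.left) (_ : x ≫ g = u ≫ U.hom),
      x ≫ g = (u ≫ U₀.hom) ≫ V.ι := by
    intro T₀ x u h
    rw [h, Category.assoc]
    rfl
  let ev : pullback g U.hom ⟶ (D.obj PUnit.unit).left :=
    d.pt (pullback.lift (pullback.fst g U.hom) (pullback.snd g U.hom ≫ U₀.hom)
      (hs _ _ pullback.condition)) (pullback.snd g U.hom) (pullback.lift_snd _ _ _)
  have hev : ∀ {T₀ : Scheme.{u}} (x : T₀ ⟶ S') (u : T₀ ⟶ U.left) (h : x ≫ g = u ≫ U.hom),
      pullback.lift x u h ≫ ev =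
        d.pt (pullback.lift x (u ≫ U₀.hom) (hs x u h)) u (pullback.lift_snd _ _ _) := by
    intro T₀ x u h
    rw [d.pt_natural]
    refine d.pt_congr _ ?_ (pullback.lift_snd _ _ _)
    apply pullback.hom_ext
    · rw [Category.assoc, pullback.lift_fst, pullback.lift_fst, pullback.lift_fst]
    · rw [Category.assoc, pullback.lift_snd, pullback.lift_snd_assoc, pullback.lift_snd]
  have ev_hom : ev ≫ (D.obj PUnit.unit).hom = pullback.fst g U.hom := by
    rw [d.pt_hom, pullback.lift_fst]
  refine (eff₀_iff_eff0Data).mpr ⟨U, inferInstance, ?_⟩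
  refine Eff0Data.nonempty_of_points ev ev_hom ?_ ?_
  · intro K _ x'
    have hr : Set.range (x' ≫ (D.obj PUnit.unit).hom ≫ g) ⊆ (V : Set S) := by
      rintro _ ⟨t, rfl⟩
      rw [Scheme.Hom.comp_apply]
      exact hV ⟨_, rfl⟩
    let b : Spec (CommRingCat.of K) ⟶ V.toScheme := liftW V _ hr
    have hb : b ≫ V.ι = x' ≫ (D.obj PUnit.unit).hom ≫ g := liftW_ι _ _ _
    let s : Spec (CommRingCat.of K) ⟶ pullback g V.ι :=
      pullback.lift (x' ≫ (D.obj PUnit.unit).hom) b (by rw [hb, Category.assoc])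
    have hsx : x' ≫ (D.obj PUnit.unit).hom = s ≫ pullback.fst g V.ι :=
      (pullback.lift_fst _ _ _).symm
    -- points of `U₀` over `x` all lie over `b`
    have hub : ∀ (u : Spec (CommRingCat.of K) ⟶ U.left)
        (h : (x' ≫ (D.obj PUnit.unit).hom) ≫ g = u ≫ U.hom),
        pullback.lift (x' ≫ (D.obj PUnit.unit).hom) (u ≫ U₀.hom) (hs _ u h) = s := by
      intro u h
      have : u ≫ U₀.hom = b := by
        rw [← cancel_mono V.ι, hb, ← Category.assoc, ← hs _ u h]
      apply pullback.hom_ext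
      · rw [pullback.lift_fst, pullback.lift_fst]
      · rw [pullback.lift_snd, pullback.lift_snd, this]
    have hu₀ : (x' ≫ (D.obj PUnit.unit).hom) ≫ g = d.unpt s x' hsx ≫ U.hom := by
      have := d.unpt_hom s x' hsx
      change _ = d.unpt s x' hsx ≫ U₀.hom ≫ V.ι
      rw [← Category.assoc, ← this, pullback.lift_snd, hb, Category.assoc]
    refine ⟨d.unpt s x' hsx, ⟨hu₀, ?_⟩, ?_⟩
    · rw [hev]
      refine (d.pt_congr _ (hub _ hu₀) rfl).trans ?_
      exact d.pt_unpt s x' hsx
    · rintro u' ⟨h', hu'⟩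
      rw [hev] at hu'
      have h1 := (d.pt_congr _ (hub _ h') rfl).symm.trans hu'
      have h2 := d.pt_unpt s x' hsx
      exact d.pt_injective s _ _ _ _ (h1.trans h2.symm)
  · intro K _ x₀ x₁ u h₀ h₁
    rw [hev x₁ u h₁]
    refine (tr_congr g D _ _ rfl rfl (hev x₀ u h₀)).trans ?_
    have key := d.pt_comm (pullback.lift x₀ (u ≫ U₀.hom) (hs x₀ u h₀))
      (pullback.lift x₁ (u ≫ U₀.hom) (hs x₁ u h₁)) u (pullback.lift_snd _ _ _)
      (pullback.lift_snd _ _ _)
    refine (tr_congr g D _ _ ?_ ?_ rfl).trans key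
    · exact (pullback.lift_fst _ _ _).symm
    · exact (pullback.lift_fst _ _ _).symm

end Groth.Agent.H5.EtDesc
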