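import Mathlib
import Groth.Prelude.Def_DescFam
import Groth.Prelude.Def_SGA1
import Groth.Agent.Lib.Helper1.HensFin3
import Groth.Agent.Lib.Helper1.HensFin2
import Groth.Agent.Lib.Helper5.EtDesc.EtX

/-!
# Compatible sections of an étale descent datum over a finite disjoint union of henselian local
schemes (S2905)
-/

set_option autoImplicit false
set_option backward.isDefEq.respectTransparency false
set_option backward.isDefEq.respectTransparency.types false

universe u

open CategoryTheory CategoryTheory.Limits AlgebraicGeometry MorphismProperty IsLocalRing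

namespace Groth.Agent.H5.EtDesc

section Setting

variable {B : Type u} [CommRing B] [IsLocalRing B] {ι : Type u} (R : ι → Type u)
  [∀ w, CommRing (R w)] [∀ w, IsLocalRing (R w)] (φ : ∀ w, B →+* R w)

/-- the disjoint union of the local schemes -/
noncomputable abbrev SS : Scheme.{u} := ∐ fun w => Spec (CommRingCat.of (R w))

/-- the structure morphism -/
noncomputable abbrev gg : SS R ⟶ Spec (CommRingCat.of B) :=
  Sigma.desc fun w => Spec.map (CommRingCat.ofHom (φ w))

/-- the inclusion of a component -/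
noncomputable abbrev jj (w : ι) : Spec (CommRingCat.of (R w)) ⟶ SS R :=
  Sigma.ι (fun w => Spec (CommRingCat.of (R w))) w

/-- the closed point of a component, as a point with values in the residue field -/
noncomputable abbrev tt (w : ι) : Spec (CommRingCat.of (ResidueField (R w))) ⟶ SS R :=
  Spec.map (CommRingCat.ofHom (residue (R w))) ≫ jj R w

lemma jj_gg (w : ι) : jj R w ≫ gg R φ = Spec.map (CommRingCat.ofHom (φ w)) :=
  Sigma.ι_desc _ _

end Setting

section Sections

variable {B : Type u} [CommRing B] [IsLocalRing B] {ι : Type u} {R : ι → Type u}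
  [∀ w, CommRing (R w)] [∀ w, HenselianLocalRing (R w)] {φ : ∀ w, B →+* R w}
  {D : Desc.SchDDFam (fun _ : PUnit.{1} => gg R φ)}

/-- sections through a given family of rational points over the closed points -/
theorem exists_section_family [Etale (D.obj PUnit.unit).hom]
    (xb : ∀ w, Spec (CommRingCat.of (ResidueField (R w))) ⟶ (D.obj PUnit.unit).left)
    (hxb : ∀ w, xb w ≫ (D.obj PUnit.unit).hom = tt R w) :
    ∃ σ : SS R ⟶ (D.obj PUnit.unit).left, σ ≫ (D.obj PUnit.unit).hom = 𝟙 _ ∧
      ∀ w, tt R w ≫ σ = xb w := by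
  have key : ∀ w, ∃ σw : Spec (CommRingCat.of (R w)) ⟶ (D.obj PUnit.unit).left,
      σw ≫ (D.obj PUnit.unit).hom = jj R w ∧
        Spec.map (CommRingCat.ofHom (residue (R w))) ≫ σw = xb w := by
    intro w
    obtain ⟨s, hs1, hs2⟩ := Groth.Agent.H1.HensFin.exists_section (R w)
      (pullback.snd (D.obj PUnit.unit).hom (jj R w))
      (pullback.lift (xb w) (Spec.map (CommRingCat.ofHom (residue (R w)))) (hxb w))
      (pullback.lift_snd _ _ _)
    refine ⟨s ≫ pullback.fst _ _, ?_, ?_⟩
    · rw [Category.assoc, pullback.condition, reassoc_of% hs1]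
    · rw [reassoc_of% hs2, pullback.lift_fst]
  choose σw h1 h2 using key
  refine ⟨Sigma.desc σw, ?_, ?_⟩
  · apply Sigma.hom_ext
    intro w
    rw [Sigma.ι_desc_assoc, h1, Category.comp_id]
  · intro w
    rw [Category.assoc, Sigma.ι_desc, h2]

end Sections

section Closed

variable {B : Type u} [CommRing B] [IsLocalRing B] {ι : Type u} {R : ι → Type u}
  [∀ w, CommRing (R w)] [∀ w, IsLocalRing (R w)] {φ : ∀ w, B →+* R w}

/-- a field-valued point of a local scheme at the closed point factors through the residue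
field -/
lemma exists_fac_residue (A : Type u) [CommRing A] [IsLocalRing A] (K : Type u) [Field K]
    (y : Spec (CommRingCat.of K) ⟶ Spec (CommRingCat.of A))
    (hy : y (closedPoint K) = closedPoint A) :
    ∃ a : Spec (CommRingCat.of K) ⟶ Spec (CommRingCat.of (ResidueField A)),
      y = a ≫ Spec.map (CommRingCat.ofHom (residue A)) := by
  obtain ⟨ψc, rfl⟩ := Spec.map_surjective y
  let ψ : A →+* K := ψc.hom
  have hker : ∀ r : A, ψ r = 0 ↔ r ∈ maximalIdeal A := by
    intro r
    have h1 : (Spec.map ψc (closedPoint K)).asIdeal = (closedPoint A).asIdeal := by rw [hy]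
    have h2 : (Spec.map ψc (closedPoint K)).asIdeal = Ideal.comap ψ (closedPoint K).asIdeal := rfl
    rw [h2] at h1
    have h3 : (closedPoint K).asIdeal = ⊥ := IsLocalRing.maximalIdeal_eq_bot
    rw [h3] at h1
    have h4 : (closedPoint A).asIdeal = maximalIdeal A := rfl
    rw [h4] at h1
    rw [← h1, Ideal.mem_comap, Ideal.mem_bot]
  haveI : IsLocalHom ψ := by
    constructor
    intro r hr
    by_contra hnu
    have : r ∈ maximalIdeal A := (IsLocalRing.mem_maximalIdeal r).mpr hnu
    rw [← hker] at this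
    rw [this] at hr
    exact not_isUnit_zero hr
  refine ⟨Spec.map (CommRingCat.ofHom (IsLocalRing.ResidueField.lift ψ)), ?_⟩
  rw [← Spec.map_comp]
  congr 1

/-- field-valued points of the disjoint union over the closed point of the base factor through
the closed point of a component -/
theorem exists_fac_tt (hφ : ∀ w, (φ w).IsIntegral) (K : Type u) [Field K]
    (y : Spec (CommRingCat.of K) ⟶ SS R)
    (hy : (y ≫ gg R φ) (closedPoint K) = closedPoint B) :
    ∃ (w : ι) (a : Spec (CommRingCat.of K) ⟶ Spec (CommRingCat.of (ResidueField (R w)))),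
      y = a ≫ tt R w := by
  obtain ⟨w, z, hz⟩ := (sigmaOpenCover (fun w => Spec (CommRingCat.of (R w)))).exists_eq
    (y (closedPoint K))
  have hz' : (jj R w) z = y (closedPoint K) := hz
  have hr : Set.range y ⊆ Set.range (jj R w) := by
    rintro _ ⟨s, rfl⟩
    rw [Subsingleton.elim s (closedPoint K), ← hz']
    exact ⟨z, rfl⟩
  let yw : Spec (CommRingCat.of K) ⟶ Spec (CommRingCat.of (R w)) :=
    IsOpenImmersion.lift (jj R w) y hr
  have hyw : yw ≫ jj R w = y := IsOpenImmersion.lift_fac _ _ _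
  have hcl : yw (closedPoint K) = closedPoint (R w) := by
    have h1 : (yw ≫ Spec.map (CommRingCat.ofHom (φ w))) (closedPoint K) = closedPoint B := by
      rw [← jj_gg R φ w, ← Category.assoc, hyw]
      exact hy
    rw [Scheme.Hom.comp_apply] at h1
    have h2 : ((yw (closedPoint K)).asIdeal.comap (φ w)) = maximalIdeal B := by
      have := congrArg PrimeSpectrum.asIdeal h1
      exact this
    haveI : ((yw (closedPoint K)).asIdeal.comap (φ w)).IsMaximal := by
      rw [h2]; infer_instance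
    have hmax : (yw (closedPoint K)).asIdeal.IsMaximal :=
      Ideal.isMaximal_of_isIntegral_of_isMaximal_comap' (φ w) (hφ w) _ inferInstance
    apply PrimeSpectrum.ext
    exact IsLocalRing.eq_maximalIdeal hmax
  obtain ⟨a, ha⟩ := exists_fac_residue (R w) K yw hcl
  refine ⟨w, a, ?_⟩
  rw [← hyw, ha, Category.assoc]

end Closed

section Compat

variable {B : Type u} [CommRing B] [IsLocalRing B] {ι : Type u} {R : ι → Type u}
  [∀ w, CommRing (R w)] [∀ w, IsLocalRing (R w)] {φ : ∀ w, B →+* R w}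
  {D : Desc.SchDDFam (fun _ : PUnit.{1} => gg R φ)}

/-- a section whose values at the closed points are compatible with the gluing bijections is
compatible with them everywhere. -/
theorem compat_of_family [Etale (D.obj PUnit.unit).hom] [UniversallyClosed (gg R φ)]
    (hφ : ∀ w, (φ w).IsIntegral)
    (σ : SS R ⟶ (D.obj PUnit.unit).left) (hσ : σ ≫ (D.obj PUnit.unit).hom = 𝟙 _)
    (hcompat : ∀ (K : Type u) [Field K] (w w' : ι)
      (a : Spec (CommRingCat.of K) ⟶ Spec (CommRingCat.of (ResidueField (R w))))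
      (a' : Spec (CommRingCat.of K) ⟶ Spec (CommRingCat.of (ResidueField (R w'))))
      (h : (a ≫ tt R w) ≫ gg R φ = (a' ≫ tt R w') ≫ gg R φ),
      tr (gg R φ) D (a ≫ tt R w) (a' ≫ tt R w') h ((a ≫ tt R w) ≫ σ)
        (by rw [Category.assoc, hσ, Category.comp_id]) = (a' ≫ tt R w') ≫ σ)
    {T₀ : Scheme.{u}} (y₀ y₁ : T₀ ⟶ SS R) (h : y₀ ≫ gg R φ = y₁ ≫ gg R φ) :
    tr (gg R φ) D y₀ y₁ h (y₀ ≫ σ) (by rw [Category.assoc, hσ, Category.comp_id]) = y₁ ≫ σ := by
  let p₀ : pullback (gg R φ) (gg R φ) ⟶ SS R := pullback.fst _ _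
  let p₁ : pullback (gg R φ) (gg R φ) ⟶ SS R := pullback.snd _ _
  have hp : p₀ ≫ gg R φ = p₁ ≫ gg R φ := pullback.condition
  have hp₀σ : (p₀ ≫ σ) ≫ (D.obj PUnit.unit).hom = p₀ := by
    rw [Category.assoc, hσ, Category.comp_id]
  have main : tr (gg R φ) D p₀ p₁ hp (p₀ ≫ σ) hp₀σ = p₁ ≫ σ := by
    refine eq_of_forall_specializes (D.obj PUnit.unit).hom _ _ ?_ ?_
    · rw [tr_hom, Category.assoc, hσ, Category.comp_id]
    · intro z
      haveI : UniversallyClosed (p₀ ≫ gg R φ) := by
        haveI : UniversallyClosed p₀ :=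
          MorphismProperty.pullback_fst (P := @UniversallyClosed) _ _ inferInstance
        infer_instance
      obtain ⟨z₀, hz, hz₀⟩ := Groth.Agent.H1.HensFin.exists_specializes_closedPoint B
        (p₀ ≫ gg R φ) (p₀ ≫ gg R φ).isClosedMap z
      refine ⟨z₀, hz, ?_⟩
      set ζ := (pullback (gg R φ) (gg R φ)).fromSpecResidueField z₀ with hζ
      have hcl : ∀ s, ζ s = z₀ := fun s => Scheme.fromSpecResidueField_apply z₀ s
      have h0 : ((ζ ≫ p₀) ≫ gg R φ) (closedPoint _) = closedPoint B := by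
        rw [Category.assoc, Scheme.Hom.comp_apply, hcl]
        exact hz₀
      have h1 : ((ζ ≫ p₁) ≫ gg R φ) (closedPoint _) = closedPoint B := by
        rw [Category.assoc, ← hp, Scheme.Hom.comp_apply, hcl]
        exact hz₀
      obtain ⟨w, a, ha⟩ := exists_fac_tt hφ _ (ζ ≫ p₀) h0
      obtain ⟨w', a', ha'⟩ := exists_fac_tt hφ _ (ζ ≫ p₁) h1
      rw [tr_natural]
      have hh : (a ≫ tt R w) ≫ gg R φ = (a' ≫ tt R w') ≫ gg R φ := by
        rw [← ha, ← ha', Category.assoc, Category.assoc, hp]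
      refine (tr_congr (gg R φ) D _ _ ha ha' ?_).trans ((hcompat _ w w' a a' hh).trans ?_)
      · rw [← Category.assoc, ha]
      · rw [← ha', Category.assoc]
  have e0 : pullback.lift y₀ y₁ h ≫ p₀ = y₀ := pullback.lift_fst _ _ _
  have e1 : pullback.lift y₀ y₁ h ≫ p₁ = y₁ := pullback.lift_snd _ _ _
  have h2 : pullback.lift y₀ y₁ h ≫ tr (gg R φ) D p₀ p₁ hp (p₀ ≫ σ) hp₀σ =
      pullback.lift y₀ y₁ h ≫ p₁ ≫ σ := by rw [main]
  rw [tr_natural] at h2
  refine (tr_congr (gg R φ) D _ _ e0.symm e1.symm ?_).trans (h2.trans ?_)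
  · rw [← Category.assoc, e0]
  · rw [← Category.assoc, e1]

end Compat

section Transport

variable {S S' : Scheme.{u}} {g : S' ⟶ S} {D : Desc.SchDDFam (fun _ : PUnit.{1} => g)}

/-- transporting one point to a family of points gives a compatible family -/
theorem compat_transport {P₀ : Scheme.{u}} (y₀ : P₀ ⟶ S') (x₀ : P₀ ⟶ (D.obj PUnit.unit).left)
    (hx₀ : x₀ ≫ (D.obj PUnit.unit).hom = y₀) [Mono (y₀ ≫ g)] {ι : Type u} (P : ι → Scheme.{u})
    (y : ∀ w, P w ⟶ S') (θ : ∀ w, P w ⟶ P₀) (hθ : ∀ w, (θ w ≫ y₀) ≫ g = y w ≫ g)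
    {T : Scheme.{u}} (w w' : ι) (a : T ⟶ P w) (a' : T ⟶ P w')
    (h : (a ≫ y w) ≫ g = (a' ≫ y w') ≫ g) :
    tr g D (a ≫ y w) (a' ≫ y w') h
      (a ≫ tr g D (θ w ≫ y₀) (y w) (hθ w) (θ w ≫ x₀) (by rw [Category.assoc, hx₀]))
      (by rw [Category.assoc, tr_hom]) =
      a' ≫ tr g D (θ w' ≫ y₀) (y w') (hθ w') (θ w' ≫ x₀) (by rw [Category.assoc, hx₀]) := by
  have hθθ : a ≫ θ w = a' ≫ θ w' := by
    rw [← cancel_mono (y₀ ≫ g)]
    have e1 : (a ≫ θ w) ≫ y₀ ≫ g = a ≫ (θ w ≫ y₀) ≫ g := by
      rw [Category.assoc, Category.assoc]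
    have e2 : (a' ≫ θ w') ≫ y₀ ≫ g = a' ≫ (θ w' ≫ y₀) ≫ g := by
      rw [Category.assoc, Category.assoc]
    rw [e1, e2, hθ w, hθ w', ← Category.assoc, ← Category.assoc, h]
  have e3 := tr_natural g D a (θ w ≫ y₀) (y w) (hθ w) (θ w ≫ x₀) (by rw [Category.assoc, hx₀])
  have e4 := tr_natural g D a' (θ w' ≫ y₀) (y w') (hθ w') (θ w' ≫ x₀)
    (by rw [Category.assoc, hx₀])
  rw [e4]
  refine (tr_congr g D _ _ rfl rfl e3).trans ?_
  refine (tr_tr g D _ _ _ _ _ _ _).trans ?_
  refine tr_congr g D _ _ ?_ rfl ?_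
  · rw [← Category.assoc, hθθ, Category.assoc]
  · rw [← Category.assoc, hθθ, Category.assoc]

end Transport

section Main

variable {B : Type u} [CommRing B] [IsLocalRing B] {ι : Type u} {R : ι → Type u}
  [∀ w, CommRing (R w)] [∀ w, HenselianLocalRing (R w)] {φ : ∀ w, B →+* R w}
  [∀ w, IsLocalHom (φ w)]
  {D : Desc.SchDDFam (fun _ : PUnit.{1} => gg R φ)}

/-- the identification of the residue fields -/
noncomputable abbrev rho (φ : ∀ w, B →+* R w) [∀ w, IsLocalHom (φ w)] (w : ι) :
    Spec (CommRingCat.of (ResidueField (R w))) ⟶ Spec (CommRingCat.of (ResidueField B)) :=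
  Spec.map (CommRingCat.ofHom (ResidueField.map (φ w)))

lemma tt_gg (w : ι) :
    tt R w ≫ gg R φ = rho φ w ≫ Spec.map (CommRingCat.ofHom (residue B)) := by
  rw [Category.assoc, jj_gg, ← Spec.map_comp, ← Spec.map_comp]
  congr 1

lemma isIso_rho (hρ : ∀ w, Function.Bijective (ResidueField.map (φ w))) (w : ι) :
    IsIso (rho φ w) := by
  haveI : IsIso (CommRingCat.ofHom (ResidueField.map (φ w))) := by
    rw [ConcreteCategory.isIso_iff_bijective]
    exact hρ w
  infer_instance

/-- **Existence of compatible sections**: through a rational point over one of the closed points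
there is a section of the datum compatible with the gluing bijections. -/
theorem exists_compat_section [Etale (D.obj PUnit.unit).hom] [UniversallyClosed (gg R φ)]
    (hφ : ∀ w, (φ w).IsIntegral) (hρ : ∀ w, Function.Bijective (ResidueField.map (φ w)))
    (w₀ : ι) (x₀ : Spec (CommRingCat.of (ResidueField (R w₀))) ⟶ (D.obj PUnit.unit).left)
    (hx₀ : x₀ ≫ (D.obj PUnit.unit).hom = tt R w₀) :
    ∃ (σ : SS R ⟶ (D.obj PUnit.unit).left) (hσ : σ ≫ (D.obj PUnit.unit).hom = 𝟙 _),
      ∀ {T₀ : Scheme.{u}} (y₀ y₁ : T₀ ⟶ SS R) (h : y₀ ≫ gg R φ = y₁ ≫ gg R φ),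
        tr (gg R φ) D y₀ y₁ h (y₀ ≫ σ) (by rw [Category.assoc, hσ, Category.comp_id]) =
          y₁ ≫ σ := by
  haveI := fun w => isIso_rho (φ := φ) hρ w
  haveI hmono : Mono (tt R w₀ ≫ gg R φ) := by
    rw [tt_gg]
    haveI : Mono (Spec.map (CommRingCat.ofHom (residue B))) := by
      haveI : IsClosedImmersion (Spec.map (CommRingCat.ofHom (residue B))) :=
        IsClosedImmersion.spec_of_surjective _ (residue_surjective (R := B))
      infer_instance
    infer_instance
  let θ : ∀ w, Spec (CommRingCat.of (ResidueField (R w))) ⟶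
      Spec (CommRingCat.of (ResidueField (R w₀))) := fun w => rho φ w ≫ inv (rho φ w₀)
  have hθ : ∀ w, (θ w ≫ tt R w₀) ≫ gg R φ = tt R w ≫ gg R φ := by
    intro w
    rw [Category.assoc (θ w), tt_gg, tt_gg, Category.assoc, IsIso.inv_hom_id_assoc]
  let xb : ∀ w, Spec (CommRingCat.of (ResidueField (R w))) ⟶ (D.obj PUnit.unit).left :=
    fun w => tr (gg R φ) D (θ w ≫ tt R w₀) (tt R w) (hθ w) (θ w ≫ x₀)
      (by rw [Category.assoc, hx₀])
  have hxb : ∀ w, xb w ≫ (D.obj PUnit.unit).hom = tt R w := fun w => tr_hom _ _ _ _ _ _ _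
  obtain ⟨σ, hσ, hσx⟩ := exists_section_family xb hxb
  refine ⟨σ, hσ, ?_⟩
  intro T₀ y₀ y₁ h
  refine compat_of_family hφ σ hσ ?_ y₀ y₁ h
  intro K _ w w' a a' hh
  have e1 : (a ≫ tt R w) ≫ σ = a ≫ xb w := by rw [Category.assoc a, hσx]
  have e2 : (a' ≫ tt R w') ≫ σ = a' ≫ xb w' := by rw [Category.assoc a', hσx]
  rw [e2]
  refine (tr_congr (gg R φ) D _ _ rfl rfl e1).trans ?_
  exact compat_transport (g := gg R φ) (D := D) (tt R w₀) x₀ hx₀
    (fun w => Spec (CommRingCat.of (ResidueField (R w)))) (fun w => tt R w) θ hθ w w' a a' hh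

end Main

end Groth.Agent.H5.EtDesc
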