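import Mathlib
import Groth.Prelude.Def_DescFam
import Groth.Prelude.Def_SGA1
import Groth.Agent.Lib.Helper5.EtDesc.EtY
import Groth.Agent.Lib.Helper5.EtDesc.EtZa

/-!
# Effectivity over a henselian local base for a finite disjoint union of local schemes (S2905)
-/

set_option autoImplicit false
set_option backward.isDefEq.respectTransparency false
set_option backward.isDefEq.respectTransparency.types false

universe u

open CategoryTheory CategoryTheory.Limits AlgebraicGeometry MorphismProperty IsLocalRing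

namespace Groth.Agent.H5.EtDesc

/-- Unramified morphisms locally of finite type are locally quasi-finite. -/
lemma locallyQuasiFinite_of_unramified' {X Y : Scheme.{u}} (f : X ⟶ Y) [LocallyOfFiniteType f]
    [FormallyUnramified f] : LocallyQuasiFinite f := by
  rw [HasRingHomProperty.iff_appLE (P := @LocallyQuasiFinite)]
  intro U V e
  have h1 := HasRingHomProperty.appLE (P := @LocallyOfFiniteType) f inferInstance U V e
  have h2 := HasRingHomProperty.appLE (P := @FormallyUnramified) f inferInstance U V e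
  algebraize [(f.appLE U.1 V.1 e).hom]
  have : Algebra.EssFiniteType Γ(Y, U.1) Γ(X, V.1) := inferInstance
  exact inferInstanceAs (Algebra.QuasiFinite _ _)

section Rational

/-- a nonempty scheme locally of finite type over an algebraically closed field has a rational
point -/
lemma exists_rational_point {k : Type u} [Field k] [IsAlgClosed k] {F : Scheme.{u}}
    (f : F ⟶ Spec (CommRingCat.of k)) [LocallyOfFiniteType f] (z : F) :
    ∃ p : Spec (CommRingCat.of k) ⟶ F, p ≫ f = 𝟙 _ := by
  haveI : JacobsonSpace ↥F := LocallyOfFiniteType.jacobsonSpace f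
  obtain ⟨z₀, -, hz₀⟩ := nonempty_inter_closedPoints (X := ↥F) (Z := Set.univ) ⟨z, trivial⟩
    isOpen_univ.isLocallyClosed
  exact ⟨pointOfClosedPoint f z₀ hz₀, pointOfClosedPoint_comp f z₀ hz₀⟩

end Rational

section Finite

variable {B : Type u} [CommRing B] [IsLocalRing B] {ι : Type u} {R : ι → Type u}
  [∀ w, CommRing (R w)] [∀ w, HenselianLocalRing (R w)] {φ : ∀ w, B →+* R w}
  [∀ w, IsLocalHom (φ w)] [∀ w, IsAlgClosed (ResidueField (R w))]

variable (B) in
/-- the punctured spectrum -/
def punct : (Spec (CommRingCat.of B)).Opens :=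
  ⟨{closedPoint B}ᶜ, (isClosed_singleton_closedPoint B).isOpen_compl⟩

/-- the closed fibre of a descent datum -/
def cf (D : Desc.SchDDFam (fun _ : PUnit.{1} => gg R φ)) : Set (D.obj PUnit.unit).left :=
  ((D.obj PUnit.unit).hom ≫ gg R φ) ⁻¹' {closedPoint B}

/-- a rational point in the closed fibre -/
theorem exists_rational_of_mem_cf (hφ : ∀ w, (φ w).IsIntegral)
    (D : Desc.SchDDFam (fun _ : PUnit.{1} => gg R φ)) [Etale (D.obj PUnit.unit).hom]
    (x : (D.obj PUnit.unit).left) (hx : x ∈ cf D) :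
    ∃ (w₀ : ι) (x₀ : Spec (CommRingCat.of (ResidueField (R w₀))) ⟶ (D.obj PUnit.unit).left),
      x₀ ≫ (D.obj PUnit.unit).hom = tt R w₀ := by
  set ξ := (D.obj PUnit.unit).left.fromSpecResidueField x with hξ
  have h0 : ((ξ ≫ (D.obj PUnit.unit).hom) ≫ gg R φ) (closedPoint _) = closedPoint B := by
    rw [Category.assoc, Scheme.Hom.comp_apply]
    have : ξ (closedPoint _) = x := Scheme.fromSpecResidueField_apply x _
    rw [this]
    exact hx
  obtain ⟨w₀, a, ha⟩ := exists_fac_tt hφ _ (ξ ≫ (D.obj PUnit.unit).hom) h0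
  let z : Spec (CommRingCat.of ((D.obj PUnit.unit).left.residueField x)) ⟶
      pullback (D.obj PUnit.unit).hom (tt R w₀) := pullback.lift ξ a ha
  obtain ⟨p, hp⟩ := exists_rational_point (pullback.snd (D.obj PUnit.unit).hom (tt R w₀))
    (z (closedPoint _))
  refine ⟨w₀, p ≫ pullback.fst _ _, ?_⟩
  rw [Category.assoc, pullback.condition, reassoc_of% hp]

lemma finite_cf [IsFinite (gg R φ)] (D : Desc.SchDDFam (fun _ : PUnit.{1} => gg R φ))
    [Etale (D.obj PUnit.unit).hom] [QuasiCompact (D.obj PUnit.unit).hom] : (cf D).Finite := by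
  haveI : LocallyQuasiFinite (D.obj PUnit.unit).hom := locallyQuasiFinite_of_unramified' _
  exact ((D.obj PUnit.unit).hom ≫ gg R φ).finite_preimage_singleton (closedPoint B)

/-- the case of an empty closed fibre -/
lemma eff₀_of_cf_empty (D : Desc.SchDDFam (fun _ : PUnit.{1} => gg R φ))
    [Etale (D.obj PUnit.unit).hom] (H : Eff (gg R φ) D (punct B).ι) (h : cf D = ∅) :
    Eff₀ (gg R φ) D := by
  refine eff₀_of_range_subset (punct B) ?_ H
  rintro _ ⟨x, rfl⟩
  intro hx
  have : x ∈ cf D := hx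
  rw [h] at this
  exact this

/-- the inductive step: splitting off a section -/
theorem step [IsFinite (gg R φ)] (hφ : ∀ w, (φ w).IsIntegral)
    (hρ : ∀ w, Function.Bijective (ResidueField.map (φ w)))
    (D : Desc.SchDDFam (fun _ : PUnit.{1} => gg R φ)) [Etale (D.obj PUnit.unit).hom]
    [IsSeparated (D.obj PUnit.unit).hom] [QuasiCompact (D.obj PUnit.unit).hom]
    (x : (D.obj PUnit.unit).left) (hx : x ∈ cf D)
    (IH : ∀ (D' : Desc.SchDDFam (fun _ : PUnit.{1} => gg R φ)) [Etale (D'.obj PUnit.unit).hom]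
      [IsSeparated (D'.obj PUnit.unit).hom] [QuasiCompact (D'.obj PUnit.unit).hom],
      (cf D').ncard < (cf D).ncard → Eff₀ (gg R φ) D') : Eff₀ (gg R φ) D := by
  obtain ⟨w₀, x₀, hx₀⟩ := exists_rational_of_mem_cf hφ D x hx
  obtain ⟨σ, hσ, hcompat⟩ := exists_compat_section hφ hρ w₀ x₀ hx₀
  haveI : IsOpenImmersion σ :=
    Groth.Agent.H1.EtSections.isOpenImmersion_section (D.obj PUnit.unit).hom σ hσ
  haveI : IsClosedImmersion σ := by
    haveI : IsClosedImmersion (σ ≫ (D.obj PUnit.unit).hom) := by rw [hσ]; infer_instance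
    exact IsClosedImmersion.of_comp σ (D.obj PUnit.unit).hom
  let W : (D.obj PUnit.unit).left.Opens := σ.opensRange
  have hWr : (W : Set (D.obj PUnit.unit).left) = Set.range σ := rfl
  have hWc : IsClosed (W : Set (D.obj PUnit.unit).left) := by
    rw [hWr]; exact σ.isClosedEmbedding.isClosed_range
  let W' : (D.obj PUnit.unit).left.Opens := ⟨(W : Set (D.obj PUnit.unit).left)ᶜ, hWc.isOpen_compl⟩
  have hW'c : IsClosed (W' : Set (D.obj PUnit.unit).left) := W.2.isClosed_compl
  -- stability
  have hW : StableOpen (gg R φ) D W := by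
    intro K _ y₀ y₁ h v hv hvW
    have hvW' : Set.range v ⊆ Set.range σ := hvW
    have hb : IsOpenImmersion.lift σ v hvW' ≫ σ = v := IsOpenImmersion.lift_fac _ _ _
    have hb' : IsOpenImmersion.lift σ v hvW' = y₀ := by
      have := congrArg (fun m => m ≫ (D.obj PUnit.unit).hom) hb
      simp only [Category.assoc, hσ, Category.comp_id] at this
      rw [this, hv]
    have e : v = y₀ ≫ σ := by rw [← hb', hb]
    have key := hcompat y₀ y₁ h
    have : tr (gg R φ) D y₀ y₁ h v hv = y₁ ≫ σ :=
      (tr_congr (gg R φ) D _ _ rfl rfl e).trans key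
    rw [this, hWr]
    rintro _ ⟨s, rfl⟩
    rw [Scheme.Hom.comp_apply]
    exact ⟨_, rfl⟩
  have hW' : StableOpen (gg R φ) D W' := hW.compl rfl
  -- the first piece is trivial
  haveI hiso : IsIso ((subD (gg R φ) D W hW).obj PUnit.unit).hom := by
    change IsIso (W.ι ≫ (D.obj PUnit.unit).hom)
    have hτr : Set.range W.ι ⊆ Set.range σ := by
      rw [Scheme.Opens.range_ι]
      exact hWr.le
    let τ : W.toScheme ⟶ SS R := IsOpenImmersion.lift σ W.ι hτr
    have hτ : τ ≫ σ = W.ι := IsOpenImmersion.lift_fac _ _ _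
    have hσr : Set.range σ ⊆ (W : Set (D.obj PUnit.unit).left) := by rw [hWr]
    let σ' : SS R ⟶ W.toScheme := liftW W σ hσr
    have hσ' : σ' ≫ W.ι = σ := liftW_ι _ _ _
    refine ⟨σ', ?_, ?_⟩
    · rw [← cancel_mono W.ι, Category.assoc, Category.assoc, hσ', Category.id_comp, ← hτ,
        Category.assoc, reassoc_of% hσ]
    · rw [reassoc_of% hσ', hσ]
  let d₁ : Eff0Data (gg R φ) (subD (gg R φ) D W hW) (Over.mk (𝟙 _)) := Eff0Data.ofIsIso
  haveI : Etale (Over.mk (𝟙 (Spec (CommRingCat.of B)))).hom := by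
    change Etale (𝟙 _)
    infer_instance
  -- the second piece has a smaller closed fibre
  haveI : QuasiCompact ((subD (gg R φ) D W' hW').obj PUnit.unit).hom :=
    subD_quasiCompact W' hW' hW'c
  have hlt : (cf (subD (gg R φ) D W' hW')).ncard < (cf D).ncard := by
    have hfin := finite_cf D
    set p : (D.obj PUnit.unit).left := σ ((D.obj PUnit.unit).hom x) with hp
    have hpW : p ∈ (W : Set (D.obj PUnit.unit).left) := ⟨_, rfl⟩
    have hpcf : p ∈ cf D := by
      change ((D.obj PUnit.unit).hom ≫ gg R φ) p = closedPoint B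
      rw [hp, ← Scheme.Hom.comp_apply, reassoc_of% hσ]
      exact hx
    have hsub : W'.ι '' cf (subD (gg R φ) D W' hW') ⊆ cf D \ {p} := by
      rintro _ ⟨y, hy, rfl⟩
      refine ⟨?_, ?_⟩
      · change ((D.obj PUnit.unit).hom ≫ gg R φ) (W'.ι y) = closedPoint B
        rw [← Scheme.Hom.comp_apply]
        exact hy
      · intro hyp
        have h1 : W'.ι y ∈ (W' : Set (D.obj PUnit.unit).left) := y.2
        have h2 : W'.ι y = p := hyp
        rw [h2] at h1
        exact h1 hpW
    have hinj : Function.Injective W'.ι := W'.ι.isOpenEmbedding.injective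
    calc (cf (subD (gg R φ) D W' hW')).ncard
        = (W'.ι '' cf (subD (gg R φ) D W' hW')).ncard := (Set.ncard_image_of_injective _ hinj).symm
      _ ≤ (cf D \ {p}).ncard := Set.ncard_le_ncard hsub (hfin.subset Set.sdiff_subset)
      _ < (cf D).ncard := Set.ncard_sdiff_singleton_lt_of_mem hpcf hfin
  obtain ⟨U₂, hU₂, ⟨d₂⟩⟩ := eff₀_iff_eff0Data.mp (IH (subD (gg R φ) D W' hW') hlt)
  haveI := hU₂
  obtain ⟨U, hU, ⟨d⟩⟩ := Eff0Data.nonempty_of_decomp W W' hW hW'
    (fun x' => by
      by_cases h : x' ∈ (W : Set (D.obj PUnit.unit).left)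
      · exact Or.inl h
      · exact Or.inr h)
    (fun x' h1 h2 => h2 h1) d₁ d₂
  exact eff₀_iff_eff0Data.mpr ⟨U, hU, ⟨d⟩⟩

/-- **Effectivity in the finite setting**, assuming effectivity over the punctured spectrum. -/
theorem eff₀_of_finite_setting [IsFinite (gg R φ)] (hφ : ∀ w, (φ w).IsIntegral)
    (hρ : ∀ w, Function.Bijective (ResidueField.map (φ w)))
    (HV : ∀ (D : Desc.SchDDFam (fun _ : PUnit.{1} => gg R φ)) [Etale (D.obj PUnit.unit).hom]
      [IsSeparated (D.obj PUnit.unit).hom] [QuasiCompact (D.obj PUnit.unit).hom],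
      Eff (gg R φ) D (punct B).ι)
    (D : Desc.SchDDFam (fun _ : PUnit.{1} => gg R φ)) [Etale (D.obj PUnit.unit).hom]
    [IsSeparated (D.obj PUnit.unit).hom] [QuasiCompact (D.obj PUnit.unit).hom] :
    Eff₀ (gg R φ) D := by
  suffices H : ∀ (n : ℕ) (D : Desc.SchDDFam (fun _ : PUnit.{1} => gg R φ))
      [Etale (D.obj PUnit.unit).hom] [IsSeparated (D.obj PUnit.unit).hom]
      [QuasiCompact (D.obj PUnit.unit).hom], (cf D).ncard = n → Eff₀ (gg R φ) D from
    H _ D rfl
  intro n
  induction n using Nat.strong_induction_on with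
  | _ n ih =>
    intro D _ _ _ hn
    by_cases hne : (cf D).Nonempty
    · obtain ⟨x, hx⟩ := hne
      refine step hφ hρ D x hx ?_
      intro D' _ _ _ hlt
      exact ih _ (hn ▸ hlt) D' rfl
    · rw [Set.not_nonempty_iff_eq_empty] at hne
      exact eff₀_of_cf_empty D (HV D) hne

end Finite

end Groth.Agent.H5.EtDesc
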