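import Mathlib
import Groth.Prelude.Def_DescFam
import Groth.Prelude.Def_SGA1
import Groth.Agent.Lib.Helper1.HensFin5
import Groth.Agent.Lib.Helper1.Subtr7
import Groth.Agent.Lib.Helper6.FinSigma
import Groth.Agent.Lib.Helper8.Hens.HenselianFinite
import Groth.Agent.Lib.Helper5.EtDesc.EtZb

/-!
# Reduction to the finite setting over a henselian local base (S2905)
-/

set_option autoImplicit false
set_option backward.isDefEq.respectTransparency false
set_option backward.isDefEq.respectTransparency.types false

universe u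

open CategoryTheory CategoryTheory.Limits AlgebraicGeometry MorphismProperty IsLocalRing

namespace Groth.Agent.H5.EtDesc

section Alg

/-- an integral homomorphism of local rings is local -/
lemma isLocalHom_of_isIntegral {A R : Type u} [CommRing A] [CommRing R] [IsLocalRing A]
    [IsLocalRing R] (f : A →+* R) (hf : f.IsIntegral) : IsLocalHom f := by
  algebraize [f]
  haveI : Algebra.IsIntegral A R := ⟨hf⟩
  constructor
  intro a ha
  by_contra hnu
  have ham : a ∈ maximalIdeal A := (mem_maximalIdeal a).mpr hnu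
  have hker : RingHom.ker (algebraMap A R) ≤ maximalIdeal A := by
    apply le_maximalIdeal
    intro htop
    have : (1 : A) ∈ RingHom.ker (algebraMap A R) := by rw [htop]; trivial
    rw [RingHom.mem_ker, map_one] at this
    exact one_ne_zero this
  obtain ⟨Q, hQ, hQc⟩ := Ideal.exists_ideal_over_maximal_of_isIntegral (S := R) (maximalIdeal A) hker
  have : algebraMap A R a ∈ Q := by
    rw [← Ideal.mem_comap, hQc]; exact ham
  exact hQ.ne_top (Ideal.eq_top_of_isUnit_mem _ this ha)

/-- residue fields of finite local algebras over a local ring with algebraically closed residue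
field -/
lemma residue_bijective_of_isIntegral {A R : Type u} [CommRing A] [CommRing R] [IsLocalRing A]
    [IsLocalRing R] [IsAlgClosed (ResidueField A)] (f : A →+* R) [IsLocalHom f]
    (hf : f.IsIntegral) : Function.Bijective (ResidueField.map f) := by
  apply IsAlgClosed.ringHom_bijective_of_isIntegral
  have h1 : ((residue R).comp f).IsIntegral :=
    RingHom.IsIntegral.trans f (residue R) hf
      ((residue R).isIntegral_of_surjective residue_surjective)
  rw [← ResidueField.map_comp_residue] at h1
  exact RingHom.IsIntegral.tower_top _ _ h1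

end Alg

section B1

open Groth.Agent.Lib.Helper1.Subtr1 Groth.Agent.Lib.Helper1.Subtr7

variable (B : Type u) [CommRing B]

/-- hypothesis: effectivity over the punctured spectrum, for all data over `Spec B` -/
def HVprop [IsLocalRing B] : Prop :=
  ∀ {S'' : Scheme.{u}} (g'' : S'' ⟶ Spec (CommRingCat.of B)) (_ : SGA1.UnivSubmersive g'')
    [LocallyOfFiniteType g''] [QuasiCompact g''] [LocallyQuasiFinite g'']
    (D'' : Desc.SchDDFam (fun _ : PUnit.{1} => g'')) [Etale (D''.obj PUnit.unit).hom]
    [IsSeparated (D''.obj PUnit.unit).hom] [QuasiCompact (D''.obj PUnit.unit).hom],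
    Eff g'' D'' (punct B).ι

theorem eff₀_of_finite_setting' [IsLocalRing B] {ι : Type u} {R : ι → Type u}
    [∀ w, CommRing (R w)] [∀ w, HenselianLocalRing (R w)] {φ : ∀ w, B →+* R w}
    [∀ w, IsLocalHom (φ w)] [∀ w, IsAlgClosed (ResidueField (R w))]
    (g'' : SS R ⟶ Spec (CommRingCat.of B)) (e : g'' = gg R φ) [IsFinite g'']
    (hφ : ∀ w, (φ w).IsIntegral) (hρ : ∀ w, Function.Bijective (ResidueField.map (φ w)))
    (HV : ∀ (D : Desc.SchDDFam (fun _ : PUnit.{1} => g'')) [Etale (D.obj PUnit.unit).hom]
      [IsSeparated (D.obj PUnit.unit).hom] [QuasiCompact (D.obj PUnit.unit).hom],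
      Eff g'' D (punct B).ι)
    (D : Desc.SchDDFam (fun _ : PUnit.{1} => g'')) [Etale (D.obj PUnit.unit).hom]
    [IsSeparated (D.obj PUnit.unit).hom] [QuasiCompact (D.obj PUnit.unit).hom] :
    Eff₀ g'' D := by
  subst e
  exact eff₀_of_finite_setting hφ hρ HV D

variable [HenselianLocalRing B] [IsNoetherianRing B] [IsAlgClosed (ResidueField B)]

/-- **Effectivity over a henselian local base**, assuming effectivity over the punctured
spectrum. -/
theorem eff₀_of_henselian (HV : HVprop B) {S' : Scheme.{u}} (g : S' ⟶ Spec (CommRingCat.of B))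
    (hg : SGA1.UnivSubmersive g) [LocallyOfFiniteType g] [QuasiCompact g] [LocallyQuasiFinite g]
    (D : Desc.SchDDFam (fun _ : PUnit.{1} => g)) [Etale (D.obj PUnit.unit).hom]
    [IsSeparated (D.obj PUnit.unit).hom] [QuasiCompact (D.obj PUnit.unit).hom] : Eff₀ g D := by
  classical
  let ι : Type u := {w : S' // g w = closedPoint B}
  haveI : Finite ι := (g.finite_preimage_singleton (closedPoint B)).to_subtype
  have key : ∀ w : ι, ∃ (U : S'.Opens) (_ : IsAffineOpen U) (hxU : w.1 ∈ U),
      (g.appLE ⊤ U le_top).hom.Finite ∧ IsFinite (U.ι ≫ g) ∧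
        Function.Bijective (S'.presheaf.germ U w.1 hxU).hom := fun w =>
    Groth.Agent.H1.HensFin.exists_local_finite_open_nbhd B g w.1 w.2 (g.quasiFiniteAt w.1)
  choose U hU hwU _ hfinU hgerm using key
  let R : ι → Type u := fun w => Γ(S', U w)
  haveI : ∀ w, IsLocalRing (R w) := fun w =>
    (RingEquiv.ofBijective _ (hgerm w)).symm.isLocalRing
  let φc : ∀ w, CommRingCat.of B ⟶ Γ(S', U w) := fun w => Spec.preimage ((hU w).fromSpec ≫ g)
  have hφc : ∀ w, Spec.map (φc w) = (hU w).fromSpec ≫ g := fun w => Spec.map_preimage _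
  let φ : ∀ w, B →+* R w := fun w => (φc w).hom
  have hfinSpec : ∀ w, IsFinite (Spec.map (φc w)) := by
    intro w
    rw [hφc]
    have : (hU w).fromSpec = (hU w).isoSpec.inv ≫ (U w).ι := rfl
    rw [this, Category.assoc]
    haveI := hfinU w
    infer_instance
  have hφfin : ∀ w, (φ w).Finite := fun w => (IsFinite.SpecMap_iff (φc w)).mp (hfinSpec w)
  have hφint : ∀ w, (φ w).IsIntegral := fun w => (hφfin w).to_isIntegral
  haveI : ∀ w, IsLocalHom (φ w) := fun w => isLocalHom_of_isIntegral _ (hφint w)
  haveI : ∀ w, HenselianLocalRing (R w) := fun w => by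
    letI := (φ w).toAlgebra
    haveI : Module.Finite B (R w) := hφfin w
    exact Groth.Agent.H8.Hens.henselianLocalRing_of_finite B (R w)
  have hρ : ∀ w, Function.Bijective (ResidueField.map (φ w)) := fun w =>
    residue_bijective_of_isIntegral _ (hφint w)
  haveI : ∀ w, IsAlgClosed (ResidueField (R w)) := fun w =>
    IsAlgClosed.of_ringEquiv _ _ (RingEquiv.ofBijective _ (hρ w))
  let h : SS R ⟶ S' := Sigma.desc fun w => (hU w).fromSpec
  have hjh : ∀ w, jj R w ≫ h = (hU w).fromSpec := fun w => Sigma.ι_desc _ _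
  have hhg : h ≫ g = gg R φ := by
    apply Sigma.hom_ext
    intro w
    have e1 : jj R w ≫ h ≫ g = (hU w).fromSpec ≫ g := by rw [reassoc_of% hjh w]
    exact e1.trans ((hφc w).symm.trans (jj_gg R φ w).symm)
  haveI : IsFinite (h ≫ g) := by
    rw [hhg]
    exact Groth.Agent.H6.FinSigma.isFinite_sigmaDesc _ _ (fun w => hfinSpec w)
  haveI : Surjective (h ≫ g) := by
    constructor
    intro η
    have hss : Subtr.IsSSubtrusive g := UnivSSubtrusive.isSSubtrusive
      (univSSubtrusive_of_valLift (valLift_of_dvrPairs g (dvrPairs_of_univSubmersive g hg)))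
    obtain ⟨x, x', hxx', hx, hx'⟩ := hss (IsLocalRing.specializes_closedPoint η)
    let w : ι := ⟨x, hx⟩
    have hx'U : x' ∈ U w := hxx'.mem_open (U w).2 (hwU w)
    obtain ⟨z, hz⟩ : ∃ z, (hU w).fromSpec z = x' := by
      have : x' ∈ Set.range (hU w).fromSpec := by
        rw [(hU w).range_fromSpec]; exact hx'U
      exact this
    refine ⟨(jj R w) z, ?_⟩
    rw [← Scheme.Hom.comp_apply, reassoc_of% hjh w, Scheme.Hom.comp_apply]
    exact (congrArg g hz).trans hx'
  have hsub : SGA1.UnivSubmersive (h ≫ g) :=
    univSubmersive_of_universallyClosed_of_surjective _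
  refine eff₀_of_refine g h D hsub ?_
  haveI : Etale ((refD g h D).obj PUnit.unit).hom := by
    change Etale (pullback.snd (D.obj PUnit.unit).hom h)
    infer_instance
  haveI : IsSeparated ((refD g h D).obj PUnit.unit).hom := by
    change IsSeparated (pullback.snd (D.obj PUnit.unit).hom h)
    infer_instance
  haveI : QuasiCompact ((refD g h D).obj PUnit.unit).hom := by
    change QuasiCompact (pullback.snd (D.obj PUnit.unit).hom h)
    infer_instance
  refine eff₀_of_finite_setting' B (h ≫ g) hhg hφint hρ ?_ (refD g h D)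
  intro D'' _ _ _
  exact HV (h ≫ g) hsub D''

end B1

end Groth.Agent.H5.EtDesc
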