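import Mathlib
import Groth.Prelude.Def_Desc
import Groth.Prelude.Def_DescFam
import Groth.Prelude.Def_SGA1
import Groth.Agent.Lib.Helper1.FlatDimLocal
import Groth.Agent.Lib.Helper1.DimFormula3
import Groth.Agent.Lib.Helper5.EtDesc.EtT
import Groth.Agent.Lib.Helper5.EtDesc.EtZc

/-!
# Effectivity of étale separated quasi-compact descent data along universally submersive
quasi-finite morphisms over locally noetherian bases (S2905)
-/

set_option autoImplicit false
set_option backward.isDefEq.respectTransparency false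
set_option backward.isDefEq.respectTransparency.types false

universe u

open CategoryTheory CategoryTheory.Limits AlgebraicGeometry MorphismProperty IsLocalRing

namespace Groth.Agent.H5.EtDesc

section DimBound

variable {S S' : Scheme.{u}} {g : S' ⟶ S} {D : Desc.SchDDFam (fun _ : PUnit.{1} => g)}

/-- effectivity can be checked over complete local rings with algebraically closed residue field
whose dimension is at most that of a local ring of the base -/
theorem eff₀_of_forall_stalk_complete [IsLocallyNoetherian S] (hg : SGA1.UnivSubmersive g)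
    [QuasiCompact g] [QuasiSeparated g] [Etale (D.obj PUnit.unit).hom]
    [QuasiCompact (D.obj PUnit.unit).hom] [IsSeparated (D.obj PUnit.unit).hom]
    (h : ∀ (a : S) (B : Type u) [CommRing B] [IsNoetherianRing B] [IsLocalRing B]
      [IsAdicComplete (IsLocalRing.maximalIdeal B) B] [IsAlgClosed (IsLocalRing.ResidueField B)],
      ringKrullDim B ≤ ringKrullDim (S.presheaf.stalk a) →
      ∀ (q : Spec (CommRingCat.of B) ⟶ S), Eff g D q) : Eff₀ g D := by
  rw [eff₀_iff_stalk hg]
  intro a
  obtain ⟨B, _, _, _, hN, hc, hfl, hm, ψ, hψs, hψk, -⟩ :=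
    Groth.Agent.H5.FL.exists_flat_complete (S.presheaf.stalk a)
      (AlgebraicClosure (ResidueField (S.presheaf.stalk a)))
  haveI := hN
  haveI := hc
  haveI := hfl
  haveI : IsLocalHom (algebraMap (S.presheaf.stalk a) B) :=
    ((IsLocalRing.local_hom_TFAE (algebraMap (S.presheaf.stalk a) B)).out 0 2).mpr (le_of_eq hm)
  let e : ResidueField B ≃+* AlgebraicClosure (ResidueField (S.presheaf.stalk a)) :=
    (Ideal.quotEquivOfEq hψk.symm).trans (RingHom.quotientKerEquivOfSurjective hψs)
  haveI : IsAlgClosed (ResidueField B) := IsAlgClosed.of_ringEquiv _ _ e.symm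
  obtain ⟨hfl', hsurj'⟩ := flat_surjective_SpecMap_of_local (S.presheaf.stalk a) B
  haveI := hfl'
  haveI := hsurj'
  have hdim : ringKrullDim B ≤ ringKrullDim (S.presheaf.stalk a) := by
    have h1 := Groth.Agent.H1.FlatDim.ringKrullDim_le_add_fiber (S.presheaf.stalk a) B
    haveI hmax : ((maximalIdeal (S.presheaf.stalk a)).map
        (algebraMap (S.presheaf.stalk a) B)).IsMaximal := by
      rw [hm]; infer_instance
    letI := Ideal.Quotient.field ((maximalIdeal (S.presheaf.stalk a)).map
        (algebraMap (S.presheaf.stalk a) B))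
    rw [ringKrullDim_eq_zero_of_field, add_zero] at h1
    exact h1
  obtain ⟨U', het, ⟨d'⟩⟩ := eff_iff.mp
    (h a B hdim (Spec.map (CommRingCat.ofHom (algebraMap (S.presheaf.stalk a) B)) ≫
      S.fromSpecStalk a))
  haveI := het
  haveI : IsSeparated U'.hom := d'.isSeparated hg
  haveI : QuasiCompact U'.hom := d'.quasiCompact hg
  obtain ⟨U, het', -, -, ⟨d⟩⟩ := exists_effData_of_fpqc (p := S.fromSpecStalk a)
    (Spec.map (CommRingCat.ofHom (algebraMap (S.presheaf.stalk a) B))) _ rfl d' hg
  exact eff_iff.mpr ⟨U, het', ⟨d⟩⟩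

end DimBound

section Dim

lemma exists_nat_of_lt {x : WithBot ℕ∞} {n : ℕ} (h0 : 0 ≤ x) (h : x < n) :
    ∃ m : ℕ, m < n ∧ x = m := by
  induction x using WithBot.recBotCoe with
  | bot => simp at h0
  | coe x =>
    have h' : x < (n : ℕ∞) := by exact_mod_cast h
    lift x to ℕ using (ne_top_of_lt h')
    exact ⟨x, by exact_mod_cast h', rfl⟩

/-- the local rings of the punctured spectrum have smaller dimension -/
lemma ringKrullDim_stalk_punct_lt (B : Type u) [CommRing B] [IsLocalRing B] [IsNoetherianRing B]
    (a : (punct B).toScheme) :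
    ringKrullDim ((punct B).toScheme.presheaf.stalk a) < ringKrullDim B := by
  have h1 := ringKrullDim_stalk_eq_coheight a
  have h2 : Order.coheight ((punct B).ι a) = Order.coheight a :=
    coheight_eq_of_isOpenImmersion (punct B).ι
  have h3 := ringKrullDim_stalk_eq_coheight ((punct B).ι a)
  have hne : (punct B).ι a ≠ closedPoint B := by
    intro h
    have : (punct B).ι a ∈ (punct B : Set (Spec (CommRingCat.of B))) := a.2
    rw [h] at this
    exact this rfl
  have h4 := Groth.Agent.H1.DimFormula.ringKrullDim_stalk_lt_of_specializes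
    (T := Spec (CommRingCat.of B)) (x := (punct B).ι a) (x' := closedPoint B)
    (IsLocalRing.specializes_closedPoint _) hne
  have h5 : ringKrullDim ((Spec (CommRingCat.of B)).presheaf.stalk (closedPoint B)) ≤
      ringKrullDim B := by
    have e1 := ringKrullDim_stalk_eq_coheight (X := Spec (CommRingCat.of B)) (closedPoint B)
    have e2 := idealHeight_eq_coheight (CommRingCat.of B) (closedPoint B)
    rw [e1, ← e2]
    exact Ideal.height_le_ringKrullDim_of_ne_top (closedPoint B).2.ne_top
  rw [h1, ← h2, ← h3]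
  exact lt_of_lt_of_le h4 h5

end Dim

section BCHyp

variable {S S' T : Scheme.{u}} (g : S' ⟶ S) (D : Desc.SchDDFam (fun _ : PUnit.{1} => g))
  (p : T ⟶ S)

lemma univSubmersive_snd (hg : SGA1.UnivSubmersive g) : SGA1.UnivSubmersive (pullback.snd g p) :=
  Groth.Agent.Lib.Helper1.Subtr8.univSubmersive_of_isPullback hg
    (IsPullback.of_hasPullback g p).flip

instance pullD_etale [Etale (D.obj PUnit.unit).hom] :
    Etale ((pullD g D p).obj PUnit.unit).hom := by
  change Etale (pullback.snd (D.obj PUnit.unit).hom (pullback.fst g p))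
  infer_instance

instance pullD_isSeparated [IsSeparated (D.obj PUnit.unit).hom] :
    IsSeparated ((pullD g D p).obj PUnit.unit).hom := by
  change IsSeparated (pullback.snd (D.obj PUnit.unit).hom (pullback.fst g p))
  infer_instance

instance pullD_quasiCompact [QuasiCompact (D.obj PUnit.unit).hom] :
    QuasiCompact ((pullD g D p).obj PUnit.unit).hom := by
  change QuasiCompact (pullback.snd (D.obj PUnit.unit).hom (pullback.fst g p))
  infer_instance

lemma quasiSeparated_of_locallyOfFiniteType {X Y : Scheme.{u}} (f : X ⟶ Y)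
    [LocallyOfFiniteType f] [IsLocallyNoetherian Y] : QuasiSeparated f := by
  haveI : IsLocallyNoetherian X := LocallyOfFiniteType.isLocallyNoetherian f
  infer_instance

end BCHyp

section Main

/-- **Effectivity over complete local rings with algebraically closed residue field**, by
induction on the dimension. -/
theorem eff₀_complete : ∀ (n : ℕ) (B : Type u) [CommRing B] [IsNoetherianRing B] [IsLocalRing B]
    [IsAdicComplete (maximalIdeal B) B] [IsAlgClosed (ResidueField B)],
    ringKrullDim B ≤ n → ∀ {S' : Scheme.{u}} (g : S' ⟶ Spec (CommRingCat.of B))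
    (_ : SGA1.UnivSubmersive g) [LocallyOfFiniteType g] [QuasiCompact g] [LocallyQuasiFinite g]
    (D : Desc.SchDDFam (fun _ : PUnit.{1} => g)) [Etale (D.obj PUnit.unit).hom]
    [IsSeparated (D.obj PUnit.unit).hom] [QuasiCompact (D.obj PUnit.unit).hom], Eff₀ g D := by
  intro n
  induction n using Nat.strong_induction_on with
  | _ n ih =>
    intro B _ _ _ _ _ hdim S' g hg _ _ _ D _ _ _
    haveI : HenselianLocalRing B := by
      refine ⟨fun f hf a₀ h1 h2 => ?_⟩
      exact HenselianRing.is_henselian (I := maximalIdeal B) f hf a₀ h1 (h2.map _)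
    refine eff₀_of_henselian B ?_ g hg D
    intro S'' g'' hg'' _ _ _ D'' _ _ _
    change Eff₀ (pullback.snd g'' (punct B).ι) (pullD g'' D'' (punct B).ι)
    have hγ := univSubmersive_snd g'' (punct B).ι hg''
    haveI : IsLocallyNoetherian (punct B).toScheme :=
      isLocallyNoetherian_of_isOpenImmersion (punct B).ι
    haveI : QuasiSeparated (pullback.snd g'' (punct B).ι) :=
      quasiSeparated_of_locallyOfFiniteType _
    refine eff₀_of_forall_stalk_complete hγ ?_
    intro a B₁ _ _ _ _ _ hdim₁ q
    have hlt : ringKrullDim B₁ < n :=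
      lt_of_lt_of_le (lt_of_le_of_lt hdim₁ (ringKrullDim_stalk_punct_lt B a)) hdim
    obtain ⟨m, hmn, hm⟩ := exists_nat_of_lt ringKrullDim_nonneg_of_nontrivial hlt
    change Eff₀ (pullback.snd (pullback.snd g'' (punct B).ι) q)
      (pullD (pullback.snd g'' (punct B).ι) (pullD g'' D'' (punct B).ι) q)
    exact ih m hmn B₁ hm.le (pullback.snd (pullback.snd g'' (punct B).ι) q)
      (univSubmersive_snd _ q hγ) _

lemma exists_nat_ge (x : WithBot ℕ∞) (h : x < ⊤) : ∃ n : ℕ, x ≤ n := by
  induction x using WithBot.recBotCoe with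
  | bot => exact ⟨0, bot_le⟩
  | coe x =>
    have h' : x < (⊤ : ℕ∞) := by
      rw [← WithBot.coe_top] at h
      exact WithBot.coe_lt_coe.mp h
    lift x to ℕ using h'.ne
    exact ⟨x, le_rfl⟩

/-- **Main theorem (S2905)**, in terms of `Eff₀`. -/
theorem eff₀_main {S S' : Scheme.{u}} [IsLocallyNoetherian S] (g : S' ⟶ S)
    (hg : SGA1.UnivSubmersive g) [LocallyOfFiniteType g] [QuasiCompact g] [LocallyQuasiFinite g]
    (D : Desc.SchDDFam (fun _ : PUnit.{1} => g)) [Etale (D.obj PUnit.unit).hom]
    [IsSeparated (D.obj PUnit.unit).hom] [QuasiCompact (D.obj PUnit.unit).hom] : Eff₀ g D := by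
  haveI : QuasiSeparated g := quasiSeparated_of_locallyOfFiniteType g
  rw [eff₀_iff_complete_algClosed hg]
  intro B _ _ _ _ _ q
  change Eff₀ (pullback.snd g q) (pullD g D q)
  obtain ⟨n, hn⟩ := exists_nat_ge (ringKrullDim B) ringKrullDim_lt_top
  exact eff₀_complete n B hn (pullback.snd g q) (univSubmersive_snd g q hg) (pullD g D q)

/-- **S2905**: the realisation is moreover separated and quasi-compact. -/
theorem main_S2905 {S S' : Scheme.{u}} [IsLocallyNoetherian S] (g : S' ⟶ S)
    (hg : SGA1.UnivSubmersive g) [LocallyOfFiniteType g] [QuasiCompact g] [LocallyQuasiFinite g]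
    (D : Desc.SchDD g) [QuasiCompact D.obj.hom] [IsSeparated D.obj.hom] [Etale D.obj.hom] :
    ∃ U : Over S, QuasiCompact U.hom ∧ IsSeparated U.hom ∧ Etale U.hom ∧
      Nonempty ((Desc.toDD g).obj U ≅ D) := by
  let D' : Desc.SchDDFam (fun _ : PUnit.{1} => g) := (Desc.SchDDFam.ofSchDD.{0} g).obj D
  haveI : Etale (D'.obj PUnit.unit).hom := ‹Etale D.obj.hom›
  haveI : IsSeparated (D'.obj PUnit.unit).hom := ‹IsSeparated D.obj.hom›
  haveI : QuasiCompact (D'.obj PUnit.unit).hom := ‹QuasiCompact D.obj.hom›
  obtain ⟨U, hU, ⟨Θ⟩⟩ := eff₀_main g hg D'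
  let d : EffData g D' (𝟙 S) U := EffData.ofIso₀ Θ
  refine ⟨U, d.quasiCompact hg, d.isSeparated hg, hU, ⟨?_⟩⟩
  exact (Desc.SchDDFam.toSchDD.{0} g).mapIso Θ

end Main

end Groth.Agent.H5.EtDesc
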