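import Mathlib
import Groth.Prelude.Def_Desc
import Groth.Prelude.Def_DescFam
import Groth.Prelude.Def_SGA1
import Groth.Prelude.Def_EGA43
import Groth.Prelude.Def_CAlg2
import Groth.Agent.Lib.Helper1.QSecD
import Groth.Agent.Lib.Helper1.HensFin5
import Groth.Agent.Lib.Helper8.Hens.StrictQuot
import Groth.Agent.Lib.Helper8.Hens.EtaleGU
import Groth.Agent.Lib.Helper8.Hens.HenselianFinite
import Groth.Agent.Lib.Helper6.FinSigma
import Groth.Agent.Lib.Helper5.EtDesc.EtZd

/-!
# Quasi-sections of universally open morphisms over henselian local rings (towards S2904)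
-/

set_option autoImplicit false
set_option backward.isDefEq.respectTransparency false
set_option backward.isDefEq.respectTransparency.types false

universe u

open CategoryTheory CategoryTheory.Limits AlgebraicGeometry MorphismProperty IsLocalRing

namespace Groth.Agent.H5.EtDesc

section Alg

/-- a henselian local ring with separably closed residue field is its own strict henselization -/
theorem isStrictHenselization_self (A : Type u) [CommRing A] [HenselianLocalRing A]
    [IsSepClosed (ResidueField A)] : Hensel.IsStrictHenselization A A where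
  henselian := inferInstance
  isSepClosure := by
    refine (@isSepClosure_iff _ _ _ _ ResidueField.instAlgebra).mpr ⟨inferInstance, ?_⟩
    · refine (@Algebra.isSeparable_def _ _ _ _ ResidueField.instAlgebra).mpr ?_
      intro y
      have e : @algebraMap (ResidueField A) (ResidueField A) _ _ ResidueField.instAlgebra =
          RingHom.id _ := ResidueField.map_id
      have e' : y = @algebraMap (ResidueField A) (ResidueField A) _ _
          ResidueField.instAlgebra y := by rw [e]; rfl
      rw [e']
      exact @isSeparable_algebraMap _ _ _ _ ResidueField.instAlgebra y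
  universal := by
    intro T _ _ f _ τ hτ
    have e : ResidueField.map (algebraMap A A) = RingHom.id _ := ResidueField.map_id
    rw [e, RingHom.comp_id] at hτ
    refine ⟨f, ⟨rfl, fun x => ?_⟩, fun g hg => hg.1⟩
    rw [hτ]
    rfl

/-- a henselian local domain with separably closed residue field is geometrically unibranch -/
theorem isGeomUnibranch_of_henselian_domain (A : Type u) [CommRing A] [IsDomain A]
    [HenselianLocalRing A] [IsSepClosed (ResidueField A)] : CAlg2.IsGeomUnibranch A := by
  haveI := isStrictHenselization_self A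
  rw [Groth.Agent.H8.Hens.UMP.isGeomUnibranch_iff (A := A) (Ash := A),
    ← Groth.Agent.H8.Hens.UMP.isDomain_quotient_nilradical_iff, Ideal.Quotient.isDomain_iff_prime,
    nilradical_eq_zero]
  exact Ideal.isPrime_bot

/-- the local ring of `Spec A` at the closed point is geometrically unibranch, for `A` a henselian
local domain with separably closed residue field -/
theorem isGeomUnibranch_stalk_closedPoint (A : Type u) [CommRing A] [IsDomain A]
    [HenselianLocalRing A] [IsSepClosed (ResidueField A)] :
    CAlg2.IsGeomUnibranch ((Spec (CommRingCat.of A)).presheaf.stalk (closedPoint A)) :=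
  Groth.Agent.H8.Hens.isGeomUnibranch_of_ringEquiv
    (stalkClosedPointIso (CommRingCat.of A)).commRingCatIsoToRingEquiv.symm
    (isGeomUnibranch_of_henselian_domain A)

end Alg

section Top

variable {X Y : Scheme.{u}}

lemma isUnivOpenAt_of_universallyOpen (f : X ⟶ Y) [UniversallyOpen f] (x : X) :
    EGA43.IsUnivOpenAt f x := by
  intro Y' g x' _ U hU
  exact (pullback.snd f g).isOpenMap.image_mem_nhds hU

/-- a universally open surjective morphism is universally submersive -/
lemma univSubmersive_of_universallyOpen_of_surjective (c : X ⟶ Y)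
    [UniversallyOpen c] [Surjective c] : SGA1.UnivSubmersive c := by
  intro X' Y' i₁ i₂ f' h
  haveI : UniversallyOpen f' :=
    MorphismProperty.of_isPullback (P := @UniversallyOpen) h.flip inferInstance
  haveI : Surjective f' := MorphismProperty.of_isPullback (P := @Surjective) h.flip inferInstance
  exact IsOpenMap.isQuotientMap f'.isOpenMap f'.continuous f'.surjective

end Top

section QSect

/-- **Quasi-sections over a henselian local domain**: a surjective universally open morphism
locally of finite type to the spectrum of a noetherian henselian local domain with separably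
closed residue field is dominated by a finite surjective morphism. -/
theorem exists_finite_surjective_of_domain (A : Type u) [CommRing A] [IsDomain A]
    [IsNoetherianRing A] [HenselianLocalRing A] [IsSepClosed (ResidueField A)] {X : Scheme.{u}}
    (f : X ⟶ Spec (CommRingCat.of A)) [LocallyOfFiniteType f] [Surjective f]
    [UniversallyOpen f] :
    ∃ (W : Scheme.{u}) (h : W ⟶ X), IsFinite (h ≫ f) ∧ Surjective (h ≫ f) := by
  obtain ⟨x₀, hx₀⟩ := f.surjective (closedPoint A)
  obtain ⟨x, -, hx, hxcl⟩ :=
    Groth.Agent.H1.QSec.exists_closed_point_fibre_of_mem_nhds f x₀ Set.univ Filter.univ_mem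
  have hxy : f.base x = closedPoint A := hx.trans hx₀
  have H0 := (Groth.Agent.H1.QSec.s4945 f (closedPoint A)
    (isGeomUnibranch_stalk_closedPoint A)).out 0 3
  have H := H0.mp (fun x _ => isUnivOpenAt_of_universallyOpen f x) x hxy
    (fun x' hx' hs => hxcl x' (hx'.trans hx₀.symm) hs)
  obtain ⟨T, i, hi, hirr, hred, ⟨t, ht⟩, hft, hqf, hqc, hdom⟩ := H
  haveI := hft
  haveI := hqf
  haveI := hirr
  have htx : (i ≫ f) t = closedPoint A := by
    rw [Scheme.Hom.comp_apply, ht]
    exact hxy
  obtain ⟨U, hU, htU, -, hfin, -⟩ :=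
    Groth.Agent.H1.HensFin.exists_local_finite_open_nbhd A (i ≫ f) t htx
      ((i ≫ f).quasiFiniteAt t)
  refine ⟨U, U.ι ≫ i, ?_, ?_⟩
  · rw [Category.assoc]
    exact hfin
  · rw [Category.assoc]
    haveI := hfin
    have hcl : IsClosed (Set.range (U.ι ≫ i ≫ f)) := (U.ι ≫ i ≫ f).isClosedMap.isClosed_range
    have hUd : Dense (U : Set T) := U.isOpen.dense ⟨t, htU⟩
    have hd : Dense ((i ≫ f) '' (U : Set T)) :=
      hdom.denseRange.dense_image (i ≫ f).continuous hUd
    have hr : Set.range (U.ι ≫ i ≫ f) = (i ≫ f) '' (U : Set T) := by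
      rw [Scheme.Hom.comp_base, TopCat.coe_comp, Set.range_comp, Scheme.Opens.range_ι]
    rw [hr] at hcl
    have huniv : (i ≫ f) '' (U : Set T) = Set.univ := by
      rw [← hcl.closure_eq]
      exact hd.closure_eq
    refine ⟨fun y => ?_⟩
    have hy : y ∈ Set.range (U.ι ≫ i ≫ f) := by
      rw [hr, huniv]
      trivial
    exact hy

section Quot

variable (B : Type u) [CommRing B] [HenselianLocalRing B] (p : Ideal B) [p.IsPrime]

theorem isLocalRing_quot : IsLocalRing (B ⧸ p) :=
  IsLocalRing.of_surjective' (Ideal.Quotient.mk p) Ideal.Quotient.mk_surjective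

theorem henselian_quot : HenselianLocalRing (B ⧸ p) :=
  haveI := isLocalRing_quot B p
  Groth.Agent.H8.Hens.henselianLocalRing_of_finite B (B ⧸ p)

theorem isAlgClosed_residue_quot [IsLocalRing (B ⧸ p)] [IsAlgClosed (ResidueField B)] :
    IsAlgClosed (ResidueField (B ⧸ p)) := by
  haveI : IsLocalHom (Ideal.Quotient.mk p) := .of_surjective _ Ideal.Quotient.mk_surjective
  have hs : Function.Surjective (ResidueField.map (Ideal.Quotient.mk p)) := by
    intro y
    obtain ⟨b', rfl⟩ := residue_surjective y
    obtain ⟨b, rfl⟩ := Ideal.Quotient.mk_surjective b'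
    exact ⟨residue B b, rfl⟩
  exact IsAlgClosed.of_ringEquiv _ _ (RingEquiv.ofBijective _ ⟨RingHom.injective _, hs⟩)

end Quot

/-- **Quasi-sections over a henselian local ring**: a surjective universally open morphism
locally of finite type to the spectrum of a noetherian henselian local ring with algebraically
closed residue field is dominated by a finite surjective morphism. -/
theorem exists_finite_surjective (B : Type u) [CommRing B] [IsNoetherianRing B]
    [HenselianLocalRing B] [IsAlgClosed (ResidueField B)] {X : Scheme.{u}}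
    (f : X ⟶ Spec (CommRingCat.of B)) [LocallyOfFiniteType f] [Surjective f]
    [UniversallyOpen f] :
    ∃ (W : Scheme.{u}) (h : W ⟶ X), IsFinite (h ≫ f) ∧ Surjective (h ≫ f) := by
  haveI : Finite ↥(minimalPrimes B) :=
    Set.finite_coe_iff.mpr (minimalPrimes.finite_of_isNoetherianRing B)
  have key : ∀ p : ↥(minimalPrimes B), ∃ (W : Scheme.{u}) (h : W ⟶ X),
      IsFinite (h ≫ f) ∧ Set.range (Spec.map (CommRingCat.ofHom (Ideal.Quotient.mk p.1))) ⊆
        Set.range (h ≫ f) := by
    intro p
    haveI : p.1.IsPrime := p.2.1.1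
    haveI := henselian_quot B p.1
    haveI := isAlgClosed_residue_quot B p.1
    let c : Spec (CommRingCat.of (B ⧸ p.1)) ⟶ Spec (CommRingCat.of B) :=
      Spec.map (CommRingCat.ofHom (Ideal.Quotient.mk p.1))
    haveI : IsClosedImmersion c := IsClosedImmersion.spec_of_surjective _
      Ideal.Quotient.mk_surjective
    obtain ⟨W, h, hfin, hsurj⟩ := exists_finite_surjective_of_domain (B ⧸ p.1) (pullback.snd f c)
    refine ⟨W, h ≫ pullback.fst f c, ?_, ?_⟩
    · rw [Category.assoc, pullback.condition, ← Category.assoc]
      infer_instance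
    · rintro _ ⟨y, rfl⟩
      obtain ⟨w, rfl⟩ := (h ≫ pullback.snd f c).surjective y
      refine ⟨w, ?_⟩
      rw [Category.assoc, pullback.condition, ← Category.assoc]
      rfl
  choose W h hfin hrange using key
  refine ⟨∐ W, Sigma.desc h, ?_, ?_⟩
  · have e : Sigma.desc h ≫ f = Sigma.desc (fun p => h p ≫ f) := by
      apply Sigma.hom_ext
      intro p
      rw [← Category.assoc, Sigma.ι_desc, Sigma.ι_desc]
    rw [e]
    exact Groth.Agent.H6.FinSigma.isFinite_sigmaDesc W _ hfin
  · refine ⟨fun y => ?_⟩
    obtain ⟨p, hp, hpy⟩ := Ideal.exists_minimalPrimes_le (I := ⊥) (J := y.asIdeal) bot_le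
    have hy : y ∈ Set.range (Spec.map (CommRingCat.ofHom (Ideal.Quotient.mk p))) := by
      change y ∈ Set.range (PrimeSpectrum.comap (Ideal.Quotient.mk p))
      rw [_root_.range_comap_of_surjective _ _ Ideal.Quotient.mk_surjective, Ideal.mk_ker]
      exact hpy
    obtain ⟨w, hw⟩ := hrange ⟨p, hp⟩ hy
    refine ⟨Sigma.ι W ⟨p, hp⟩ w, ?_⟩
    rw [← Scheme.Hom.comp_apply, ← Category.assoc, Sigma.ι_desc]
    exact hw

end QSect

section Main

/-- refinement instances -/
lemma eff₀_of_exists_finite_surjective {S S' S'' : Scheme.{u}} [IsLocallyNoetherian S]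
    (g : S' ⟶ S) (h : S'' ⟶ S') [IsFinite (h ≫ g)] [Surjective (h ≫ g)]
    (D : Desc.SchDDFam (fun _ : PUnit.{1} => g)) [Etale (D.obj PUnit.unit).hom]
    [IsSeparated (D.obj PUnit.unit).hom] [QuasiCompact (D.obj PUnit.unit).hom] : Eff₀ g D := by
  have hsub : SGA1.UnivSubmersive (h ≫ g) :=
    univSubmersive_of_universallyClosed_of_surjective _
  refine eff₀_of_refine g h D hsub ?_
  haveI : Etale ((refD g h D).obj PUnit.unit).hom := by
    change Etale (pullback.snd (D.obj PUnit.unit).hom h)
    infer_instance
  haveI : IsSeparated ((refD g h D).obj PUnit.unit).hom := by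
    change IsSeparated (pullback.snd (D.obj PUnit.unit).hom h)
    infer_instance
  haveI : QuasiCompact ((refD g h D).obj PUnit.unit).hom := by
    change QuasiCompact (pullback.snd (D.obj PUnit.unit).hom h)
    infer_instance
  exact eff₀_main (h ≫ g) hsub (refD g h D)

/-- **Main theorem (S2904)**, in terms of `Eff₀`. -/
theorem eff₀_main_open {S S' : Scheme.{u}} [IsLocallyNoetherian S] (g : S' ⟶ S)
    [LocallyOfFiniteType g] [QuasiCompact g] [Surjective g] [UniversallyOpen g]
    (D : Desc.SchDDFam (fun _ : PUnit.{1} => g)) [Etale (D.obj PUnit.unit).hom]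
    [IsSeparated (D.obj PUnit.unit).hom] [QuasiCompact (D.obj PUnit.unit).hom] : Eff₀ g D := by
  have hg := univSubmersive_of_universallyOpen_of_surjective g
  haveI : QuasiSeparated g := quasiSeparated_of_locallyOfFiniteType g
  rw [eff₀_iff_complete_algClosed hg]
  intro B _ _ _ _ _ q
  change Eff₀ (pullback.snd g q) (pullD g D q)
  haveI : HenselianLocalRing B := by
    refine ⟨fun f hf a₀ h1 h2 => ?_⟩
    exact HenselianRing.is_henselian (I := maximalIdeal B) f hf a₀ h1 (h2.map _)
  obtain ⟨W, h, hfin, hsurj⟩ := exists_finite_surjective B (pullback.snd g q)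
  exact eff₀_of_exists_finite_surjective (pullback.snd g q) h (pullD g D q)

/-- **S2904**: the realisation is moreover separated and quasi-compact. -/
theorem main_S2904 {S S' : Scheme.{u}} [IsLocallyNoetherian S] (g : S' ⟶ S)
    [LocallyOfFiniteType g] [QuasiCompact g] [Surjective g] [UniversallyOpen g]
    (D : Desc.SchDD g) [QuasiCompact D.obj.hom] [IsSeparated D.obj.hom] [Etale D.obj.hom] :
    ∃ U : Over S, QuasiCompact U.hom ∧ IsSeparated U.hom ∧ Etale U.hom ∧
      Nonempty ((Desc.toDD g).obj U ≅ D) := by
  have hg := univSubmersive_of_universallyOpen_of_surjective g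
  let D' : Desc.SchDDFam (fun _ : PUnit.{1} => g) := (Desc.SchDDFam.ofSchDD.{0} g).obj D
  haveI : Etale (D'.obj PUnit.unit).hom := ‹Etale D.obj.hom›
  haveI : IsSeparated (D'.obj PUnit.unit).hom := ‹IsSeparated D.obj.hom›
  haveI : QuasiCompact (D'.obj PUnit.unit).hom := ‹QuasiCompact D.obj.hom›
  obtain ⟨U, hU, ⟨Θ⟩⟩ := eff₀_main_open g D'
  let d : EffData g D' (𝟙 S) U := EffData.ofIso₀ Θ
  refine ⟨U, d.quasiCompact hg, d.isSeparated hg, hU, ⟨?_⟩⟩
  exact (Desc.SchDDFam.toSchDD.{0} g).mapIso Θ

end Main

end Groth.Agent.H5.EtDesc
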