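import Mathlib
import Groth.Prelude.Def_Desc
import Groth.Prelude.Def_DescFam
import Groth.Prelude.Def_SGA1
import Groth.Agent.Lib.Helper5.EtDesc.EtV

/-!
# Scheme-level descent data: the transport morphism (towards S3687)
-/

set_option autoImplicit false
set_option backward.isDefEq.respectTransparency false
set_option backward.isDefEq.respectTransparency.types false

universe u

open CategoryTheory CategoryTheory.Limits AlgebraicGeometry MorphismProperty

namespace Groth.Agent.H5.EtDesc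

section Tau

variable {S S' X : Scheme.{u}} (g : S' ⟶ S) (a : X ⟶ S')

/-- scheme-level descent datum on `a : X ⟶ S'` relative to `g`: the transport morphism
`X ×_S S' ⟶ X`, with the identity and the cocycle conditions (the latter on points) -/
structure TauData where
  τ : pullback (a ≫ g) g ⟶ X
  τ_hom : τ ≫ a = pullback.snd (a ≫ g) g
  self : pullback.lift (𝟙 X) a (by rw [Category.id_comp]) ≫ τ = 𝟙 X
  coc : ∀ {T : Scheme.{u}} (v : T ⟶ X) (y₁ y₂ : T ⟶ S') (h₁ : v ≫ a ≫ g = y₁ ≫ g)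
    (h₂ : (pullback.lift v y₁ h₁ ≫ τ) ≫ a ≫ g = y₂ ≫ g) (h₃ : v ≫ a ≫ g = y₂ ≫ g),
    pullback.lift (pullback.lift v y₁ h₁ ≫ τ) y₂ h₂ ≫ τ = pullback.lift v y₂ h₃ ≫ τ

variable {g a}

namespace TauData

variable (t : TauData g a)

/-- transport of a point -/
noncomputable def tp {T : Scheme.{u}} (v : T ⟶ X) (y : T ⟶ S') (h : v ≫ a ≫ g = y ≫ g) : T ⟶ X :=
  pullback.lift v y h ≫ t.τ

lemma tp_hom {T : Scheme.{u}} (v : T ⟶ X) (y : T ⟶ S') (h : v ≫ a ≫ g = y ≫ g) :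
    t.tp v y h ≫ a = y := by
  rw [tp, Category.assoc, t.τ_hom, pullback.lift_snd]

lemma tp_congr {T : Scheme.{u}} {v v' : T ⟶ X} {y y' : T ⟶ S'} (h : v ≫ a ≫ g = y ≫ g)
    (ev : v = v') (ey : y = y') : t.tp v y h = t.tp v' y' (by rw [← ev, ← ey]; exact h) := by
  subst ev ey; rfl

lemma tp_natural {T T' : Scheme.{u}} (r : T' ⟶ T) (v : T ⟶ X) (y : T ⟶ S')
    (h : v ≫ a ≫ g = y ≫ g) :
    r ≫ t.tp v y h = t.tp (r ≫ v) (r ≫ y) (by rw [Category.assoc, h, Category.assoc]) := by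
  rw [tp, tp, ← Category.assoc]
  congr 1
  apply pullback.hom_ext
  · rw [Category.assoc, pullback.lift_fst, pullback.lift_fst]
  · rw [Category.assoc, pullback.lift_snd, pullback.lift_snd]

lemma tp_self {T : Scheme.{u}} (v : T ⟶ X) (y : T ⟶ S') (hy : v ≫ a = y)
    (h : v ≫ a ≫ g = y ≫ g) : t.tp v y h = v := by
  subst hy
  have e : pullback.lift v (v ≫ a) h =
      v ≫ pullback.lift (𝟙 X) a (by rw [Category.id_comp]) := by
    apply pullback.hom_ext
    · rw [pullback.lift_fst, Category.assoc, pullback.lift_fst, Category.comp_id]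
    · rw [pullback.lift_snd, Category.assoc, pullback.lift_snd]
  rw [tp, e, Category.assoc, t.self, Category.comp_id]

lemma tp_tp {T : Scheme.{u}} (v : T ⟶ X) (y₁ y₂ : T ⟶ S') (h₁ : v ≫ a ≫ g = y₁ ≫ g)
    (h₁₂ : y₁ ≫ g = y₂ ≫ g) :
    t.tp (t.tp v y₁ h₁) y₂ (by rw [← Category.assoc, t.tp_hom, h₁₂]) =
      t.tp v y₂ (h₁.trans h₁₂) :=
  t.coc v y₁ y₂ h₁ _ _

end TauData

/-- the descent datum defined by a transport morphism -/
noncomputable def ddOfTau (t : TauData g a) : Desc.SchDDFam (fun _ : PUnit.{1} => g) where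
  obj _ := Over.mk a
  φ T i j x₀ x₁ h :=
    { toFun := fun v => ⟨t.tp v.1 x₁ (by
          have h' : x₀ ≫ g = x₁ ≫ g := h
          have hv : v.1 ≫ a = x₀ := v.2
          rw [← h', ← Category.assoc, hv]), t.tp_hom _ _ _⟩
      invFun := fun w => ⟨t.tp w.1 x₀ (by
          have h' : x₀ ≫ g = x₁ ≫ g := h
          have hw : w.1 ≫ a = x₁ := w.2
          rw [h', ← Category.assoc, hw]), t.tp_hom _ _ _⟩
      left_inv := fun v => by
        have h' : x₀ ≫ g = x₁ ≫ g := h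
        have hv : v.1 ≫ a = x₀ := v.2
        apply Subtype.ext
        change t.tp (t.tp v.1 x₁ _) x₀ _ = v.1
        rw [t.tp_tp v.1 x₁ x₀ _ h'.symm]
        exact t.tp_self v.1 x₀ hv _
      right_inv := fun w => by
        have h' : x₀ ≫ g = x₁ ≫ g := h
        have hw : w.1 ≫ a = x₁ := w.2
        apply Subtype.ext
        change t.tp (t.tp w.1 x₀ _) x₁ _ = w.1
        rw [t.tp_tp w.1 x₀ x₁ _ h']
        exact t.tp_self w.1 x₁ hw _ }
  φ_natural T T' r i j x₀ x₁ h y₀ y₁ hy₀ hy₁ h' v v' hv' := by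
    subst hy₀ hy₁
    change t.tp v'.1 (r ≫ x₁) _ = r ≫ t.tp v.1 x₁ _
    rw [t.tp_natural]
    exact t.tp_congr _ hv' rfl
  φ_self T i x v := by
    apply Subtype.ext
    exact t.tp_self v.1 x v.2 _
  φ_comp T i j k x₀ x₁ x₂ h₀₁ h₁₂ v := by
    apply Subtype.ext
    exact t.tp_tp v.1 x₁ x₂ _ h₁₂

lemma tr_ddOfTau (t : TauData g a) {T : Scheme.{u}} (x₀ x₁ : T ⟶ S') (h : x₀ ≫ g = x₁ ≫ g)
    (v : T ⟶ X) (hv : v ≫ a = x₀) :
    tr g (ddOfTau t) x₀ x₁ h v hv = t.tp v x₁ (by rw [← h, ← Category.assoc, hv]) := rfl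

end Tau

section OfDD

variable {S S' : Scheme.{u}} (g : S' ⟶ S) (D : Desc.SchDDFam (fun _ : PUnit.{1} => g))

/-- the transport morphism of a descent datum -/
noncomputable def tauMor :
    pullback ((D.obj PUnit.unit).hom ≫ g) g ⟶ (D.obj PUnit.unit).left :=
  tr g D (pullback.fst _ _ ≫ (D.obj PUnit.unit).hom) (pullback.snd _ _)
    (by rw [Category.assoc]; exact pullback.condition) (pullback.fst _ _) rfl

lemma tauMor_hom : tauMor g D ≫ (D.obj PUnit.unit).hom = pullback.snd _ _ :=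
  tr_hom g D _ _ _ _ _

lemma lift_tauMor {T : Scheme.{u}} (v : T ⟶ (D.obj PUnit.unit).left) (y : T ⟶ S')
    (h : v ≫ (D.obj PUnit.unit).hom ≫ g = y ≫ g) :
    pullback.lift v y h ≫ tauMor g D =
      tr g D (v ≫ (D.obj PUnit.unit).hom) y (by rw [Category.assoc]; exact h) v rfl := by
  rw [tauMor, tr_natural]
  exact tr_congr g D _ _ (by rw [← Category.assoc, pullback.lift_fst])
    (pullback.lift_snd _ _ _) (pullback.lift_fst _ _ _)

/-- the scheme-level form of a descent datum -/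
noncomputable def tauOf : TauData g (D.obj PUnit.unit).hom where
  τ := tauMor g D
  τ_hom := tauMor_hom g D
  self := by
    rw [lift_tauMor]
    exact (tr_congr g D _ _ (Category.id_comp _) rfl rfl).trans
      (tr_self g D _ (𝟙 _) (Category.id_comp _))
  coc := by
    intro T v y₁ y₂ h₁ h₂ h₃
    rw [lift_tauMor, lift_tauMor g D v y₂]
    have e1 : pullback.lift v y₁ h₁ ≫ tauMor g D =
        tr g D (v ≫ (D.obj PUnit.unit).hom) y₁ (by rw [Category.assoc]; exact h₁) v rfl :=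
      lift_tauMor g D v y₁ h₁
    have h₁₂ : y₁ ≫ g = y₂ ≫ g := by
      rw [← h₂, Category.assoc, ← Category.assoc (tauMor g D), tauMor_hom, ← Category.assoc,
        pullback.lift_snd]
    have e0 : (pullback.lift v y₁ h₁ ≫ tauMor g D) ≫ (D.obj PUnit.unit).hom = y₁ := by
      rw [Category.assoc, tauMor_hom, pullback.lift_snd]
    refine (tr_congr g D (y₀ := y₁) (y₁ := y₂) _ _ e0 rfl e1).trans ?_
    exact tr_tr g D _ y₁ y₂ _ h₁₂ v rfl

lemma tr_eq_tp {T : Scheme.{u}} (x₀ x₁ : T ⟶ S') (h : x₀ ≫ g = x₁ ≫ g)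
    (v : T ⟶ (D.obj PUnit.unit).left) (hv : v ≫ (D.obj PUnit.unit).hom = x₀) :
    tr g D x₀ x₁ h v hv =
      (tauOf g D).tp v x₁ (by rw [← h, ← hv, Category.assoc]) := by
  subst hv
  exact (lift_tauMor g D v x₁ _).symm

end OfDD

section Transfer

variable {S S' S₀ S'₀ : Scheme.{u}} {g : S' ⟶ S} {D : Desc.SchDDFam (fun _ : PUnit.{1} => g)}
  {g₀ : S'₀ ⟶ S₀} {D₀ : Desc.SchDDFam (fun _ : PUnit.{1} => g₀)}
  {q : S ⟶ S₀} {r : S' ⟶ S'₀} (sq₁ : IsPullback r g g₀ q)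
  {rX : (D.obj PUnit.unit).left ⟶ (D₀.obj PUnit.unit).left}
  (sq₂ : IsPullback rX (D.obj PUnit.unit).hom (D₀.obj PUnit.unit).hom r)
  (compat : ∀ {T : Scheme.{u}} (y₀ y₁ : T ⟶ S') (h : y₀ ≫ g = y₁ ≫ g)
    (h' : (y₀ ≫ r) ≫ g₀ = (y₁ ≫ r) ≫ g₀)
    (v : T ⟶ (D.obj PUnit.unit).left) (hv : v ≫ (D.obj PUnit.unit).hom = y₀)
    (hv' : (v ≫ rX) ≫ (D₀.obj PUnit.unit).hom = y₀ ≫ r),
    tr g D y₀ y₁ h v hv ≫ rX = tr g₀ D₀ (y₀ ≫ r) (y₁ ≫ r) h' (v ≫ rX) hv')
  {U₀ : Over S₀} (d₀ : Eff0Data g₀ D₀ U₀)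

include sq₁ in
lemma transfer_cond {T : Scheme.{u}} (y : T ⟶ S') (u : T ⟶ pullback U₀.hom q)
    (h : y ≫ g = u ≫ pullback.snd U₀.hom q) :
    (y ≫ r) ≫ g₀ = (u ≫ pullback.fst U₀.hom q) ≫ U₀.hom := by
  rw [Category.assoc, sq₁.w, reassoc_of% h, Category.assoc, pullback.condition]

/-- the evaluation morphism of the base-changed realisation -/
noncomputable def transferEv :
    pullback g (pullback.snd U₀.hom q) ⟶ (D.obj PUnit.unit).left :=
  sq₂.lift (d₀.pt (pullback.fst g (pullback.snd U₀.hom q) ≫ r)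
      (pullback.snd g (pullback.snd U₀.hom q) ≫ pullback.fst U₀.hom q)
      (transfer_cond sq₁ _ _ pullback.condition))
    (pullback.fst g (pullback.snd U₀.hom q))
    (d₀.pt_hom _ _ _)

lemma transferEv_rX : transferEv sq₁ sq₂ d₀ ≫ rX =
    d₀.pt (pullback.fst g (pullback.snd U₀.hom q) ≫ r)
      (pullback.snd g (pullback.snd U₀.hom q) ≫ pullback.fst U₀.hom q)
      (transfer_cond sq₁ _ _ pullback.condition) := sq₂.lift_fst _ _ _

lemma transferEv_hom : transferEv sq₁ sq₂ d₀ ≫ (D.obj PUnit.unit).hom =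
    pullback.fst g (pullback.snd U₀.hom q) := sq₂.lift_snd _ _ _

lemma lift_transferEv_rX {T : Scheme.{u}} (y : T ⟶ S') (u : T ⟶ pullback U₀.hom q)
    (h : y ≫ g = u ≫ pullback.snd U₀.hom q) :
    (pullback.lift y u h ≫ transferEv sq₁ sq₂ d₀) ≫ rX =
      d₀.pt (y ≫ r) (u ≫ pullback.fst U₀.hom q) (transfer_cond sq₁ y u h) := by
  rw [Category.assoc, transferEv_rX, d₀.pt_natural]
  exact d₀.pt_congr _ (by rw [← Category.assoc, pullback.lift_fst])
    (by rw [← Category.assoc, pullback.lift_snd])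

include sq₁ sq₂ in
lemma transfer_unpt_cond :
    d₀.unpt rX ≫ U₀.hom = ((D.obj PUnit.unit).hom ≫ g) ≫ q := by
  rw [← d₀.unpt_hom (rX ≫ (D₀.obj PUnit.unit).hom) rX rfl, sq₂.w, Category.assoc, sq₁.w,
    Category.assoc]

/-- the inverse of the evaluation morphism -/
noncomputable def transferInv :
    (D.obj PUnit.unit).left ⟶ pullback g (pullback.snd U₀.hom q) :=
  pullback.lift (D.obj PUnit.unit).hom
    (pullback.lift (d₀.unpt rX) ((D.obj PUnit.unit).hom ≫ g) (transfer_unpt_cond sq₁ sq₂ d₀))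
    (by rw [pullback.lift_snd])

lemma transferInv_ev : transferInv sq₁ sq₂ d₀ ≫ transferEv sq₁ sq₂ d₀ = 𝟙 _ := by
  apply sq₂.hom_ext
  · rw [Category.assoc, transferEv_rX, d₀.pt_natural, Category.id_comp]
    refine (d₀.pt_congr (x' := rX ≫ (D₀.obj PUnit.unit).hom) (u' := d₀.unpt rX) _ ?_ ?_).trans
      (d₀.pt_unpt _ rX rfl)
    · rw [transferInv, ← Category.assoc, pullback.lift_fst, sq₂.w]
    · rw [transferInv, ← Category.assoc, pullback.lift_snd, pullback.lift_fst]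
  · rw [Category.assoc, transferEv_hom, transferInv, pullback.lift_fst, Category.id_comp]

lemma transferEv_inv : transferEv sq₁ sq₂ d₀ ≫ transferInv sq₁ sq₂ d₀ = 𝟙 _ := by
  apply pullback.hom_ext
  · rw [Category.assoc, transferInv, pullback.lift_fst, transferEv_hom, Category.id_comp]
  · rw [Category.assoc, transferInv, pullback.lift_snd, Category.id_comp]
    apply pullback.hom_ext
    · rw [Category.assoc, pullback.lift_fst, d₀.unpt_natural, transferEv_rX, d₀.unpt_pt]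
    · rw [Category.assoc, pullback.lift_snd, ← Category.assoc, transferEv_hom,
        pullback.condition]

include compat in
/-- **Transfer of effectivity data along a base change.** -/
noncomputable def Eff0Data.ofBaseChange : Eff0Data g D (Over.mk (pullback.snd U₀.hom q)) where
  ev := transferEv sq₁ sq₂ d₀
  ev_hom := transferEv_hom sq₁ sq₂ d₀
  isIso := ⟨transferInv sq₁ sq₂ d₀, transferEv_inv sq₁ sq₂ d₀, transferInv_ev sq₁ sq₂ d₀⟩
  comm := by
    intro T x₀ x₁ u h₀ h₁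
    have h₀' : x₀ ≫ g = u ≫ pullback.snd U₀.hom q := h₀
    have h₁' : x₁ ≫ g = u ≫ pullback.snd U₀.hom q := h₁
    have hev : (pullback.lift x₀ u h₀' ≫ transferEv sq₁ sq₂ d₀) ≫ (D.obj PUnit.unit).hom = x₀ := by
      rw [Category.assoc, transferEv_hom, pullback.lift_fst]
    change tr g D x₀ x₁ (h₀'.trans h₁'.symm) (pullback.lift x₀ u h₀' ≫ transferEv sq₁ sq₂ d₀) hev =
      pullback.lift x₁ u h₁' ≫ transferEv sq₁ sq₂ d₀
    apply sq₂.hom_ext
    · have hv' : ((pullback.lift x₀ u h₀' ≫ transferEv sq₁ sq₂ d₀) ≫ rX) ≫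
          (D₀.obj PUnit.unit).hom = x₀ ≫ r := by
        rw [lift_transferEv_rX, d₀.pt_hom]
      have hh' : (x₀ ≫ r) ≫ g₀ = (x₁ ≫ r) ≫ g₀ := by
        rw [transfer_cond sq₁ x₀ u h₀', transfer_cond sq₁ x₁ u h₁']
      rw [compat x₀ x₁ (h₀'.trans h₁'.symm) hh' _ hev hv', lift_transferEv_rX sq₁ sq₂ d₀ x₁ u h₁']
      refine (tr_congr g₀ D₀ _ _ rfl rfl (lift_transferEv_rX sq₁ sq₂ d₀ x₀ u h₀')).trans ?_
      exact d₀.pt_comm (x₀ ≫ r) (x₁ ≫ r) (u ≫ pullback.fst U₀.hom q)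
        (transfer_cond sq₁ x₀ u h₀') (transfer_cond sq₁ x₁ u h₁')
    · rw [tr_hom, Category.assoc, transferEv_hom]
      exact (pullback.lift_fst _ _ _).symm

end Transfer

end Groth.Agent.H5.EtDesc
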