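import Mathlib
import Groth.Prelude.Def_Desc
import Groth.Prelude.Def_DescFam
import Groth.Prelude.Def_SGA1
import Groth.Agent.Lib.Helper5.EtDesc.EtE
import Groth.Agent.Lib.Helper5.Lim.DescendDiagonal
import Groth.Agent.Lib.Helper5.Lim.DescendProps
import Groth.Agent.Lib.Helper5.EtDesc.EtZf

/-!
# Noetherian approximation of descent data (towards S3687)
-/

set_option autoImplicit false
set_option backward.isDefEq.respectTransparency false
set_option backward.isDefEq.respectTransparency.types false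

universe u

open CategoryTheory CategoryTheory.Limits AlgebraicGeometry MorphismProperty

namespace Groth.Agent.H5.EtDesc

section PB

variable {T₁ T₀ S₁ S₀ X₁ X₀ : Scheme.{u}} {g₁ : S₁ ⟶ T₁} {a₁ : X₁ ⟶ S₁} {g₀ : S₀ ⟶ T₀}
  {a₀ : X₀ ⟶ S₀} {β : T₁ ⟶ T₀} {r : S₁ ⟶ S₀} {rX : X₁ ⟶ X₀}
  (sq₁ : IsPullback r g₁ g₀ β) (sq₂ : IsPullback rX a₁ a₀ r)

include sq₁ sq₂ in
lemma sqX : IsPullback rX (a₁ ≫ g₁) (a₀ ≫ g₀) β := sq₂.paste_vert sq₁

/-- the induced map on `X ×_T S'` -/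
noncomputable def Pmap : pullback (a₁ ≫ g₁) g₁ ⟶ pullback (a₀ ≫ g₀) g₀ :=
  pullback.map (a₁ ≫ g₁) g₁ (a₀ ≫ g₀) g₀ rX r β (sqX sq₁ sq₂).w.symm sq₁.w.symm

@[reassoc]
lemma Pmap_fst : Pmap sq₁ sq₂ ≫ pullback.fst (a₀ ≫ g₀) g₀ = pullback.fst (a₁ ≫ g₁) g₁ ≫ rX :=
  pullback.lift_fst _ _ _

@[reassoc]
lemma Pmap_snd : Pmap sq₁ sq₂ ≫ pullback.snd (a₀ ≫ g₀) g₀ = pullback.snd (a₁ ≫ g₁) g₁ ≫ r :=
  pullback.lift_snd _ _ _

lemma sqP : IsPullback (Pmap sq₁ sq₂) (pullback.snd (a₁ ≫ g₁) g₁ ≫ g₁)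
    (pullback.snd (a₀ ≫ g₀) g₀ ≫ g₀) β :=
  isPullback_map_base (a₀ ≫ g₀) g₀ (a₁ ≫ g₁) g₁ rX r β (sqX sq₁ sq₂) sq₁

lemma sqP₂ : IsPullback (Pmap sq₁ sq₂) (pullback.snd (a₁ ≫ g₁) g₁)
    (pullback.snd (a₀ ≫ g₀) g₀) r :=
  isPullback_map_snd (a₀ ≫ g₀) g₀ (a₁ ≫ g₁) g₁ rX r β (sqX sq₁ sq₂) sq₁.w.symm

lemma lift_Pmap {T : Scheme.{u}} (v : T ⟶ X₁) (y : T ⟶ S₁) (h : v ≫ a₁ ≫ g₁ = y ≫ g₁)
    (h' : (v ≫ rX) ≫ a₀ ≫ g₀ = (y ≫ r) ≫ g₀) :
    pullback.lift v y h ≫ Pmap sq₁ sq₂ = pullback.lift (v ≫ rX) (y ≫ r) h' := by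
  apply pullback.hom_ext
  · rw [Category.assoc, Pmap_fst, pullback.lift_fst_assoc, pullback.lift_fst]
  · rw [Category.assoc, Pmap_snd, pullback.lift_snd_assoc, pullback.lift_snd]

end PB

section Apx

variable {I : Type u} [SmallCategory I] (Dg : I ⥤ Scheme.{u}) (c : Cone Dg)
  {S' : Scheme.{u}} (g : S' ⟶ c.pt) (D : Desc.SchDDFam (fun _ : PUnit.{1} => g))
  (Pg Pa : MorphismProperty Scheme.{u})

/-- approximation of `(g, D)` at the stage `k` (the schemes only) -/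
structure Apx (k : I) where
  Sk : Scheme.{u}
  Xk : Scheme.{u}
  gk : Sk ⟶ Dg.obj k
  ak : Xk ⟶ Sk
  r : S' ⟶ Sk
  rX : (D.obj PUnit.unit).left ⟶ Xk
  sq₁ : IsPullback r g gk (c.π.app k)
  sq₂ : IsPullback rX (D.obj PUnit.unit).hom ak r
  gk_qc : QuasiCompact gk
  gk_qs : QuasiSeparated gk
  ak_fp : LocallyOfFinitePresentation ak
  ak_qc : QuasiCompact ak
  ak_qs : QuasiSeparated ak
  gk_P : Pg gk
  ak_P : Pa ak

attribute [instance] Apx.gk_qc Apx.gk_qs Apx.ak_fp Apx.ak_qc Apx.ak_qs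

variable {Dg c g D Pg Pa} [Pg.IsStableUnderBaseChange] [Pa.IsStableUnderBaseChange]
  {k k' : I} (A : Apx Dg c g D Pg Pa k) (ψ : k' ⟶ k)

namespace Apx

noncomputable def bcr : S' ⟶ pullback A.gk (Dg.map ψ) :=
  pullback.lift A.r (g ≫ c.π.app k') (by rw [A.sq₁.w, Category.assoc, c.w])

lemma bcr_fst : A.bcr ψ ≫ pullback.fst A.gk (Dg.map ψ) = A.r := pullback.lift_fst _ _ _

lemma bcr_snd : A.bcr ψ ≫ pullback.snd A.gk (Dg.map ψ) = g ≫ c.π.app k' :=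
  pullback.lift_snd _ _ _

lemma bcsq₁ : IsPullback (A.bcr ψ) g (pullback.snd A.gk (Dg.map ψ)) (c.π.app k') := by
  refine IsPullback.of_right ?_ (A.bcr_snd ψ) (IsPullback.of_hasPullback A.gk (Dg.map ψ))
  rw [bcr_fst, c.w]
  exact A.sq₁

noncomputable def bcrX : (D.obj PUnit.unit).left ⟶
    pullback A.ak (pullback.fst A.gk (Dg.map ψ)) :=
  pullback.lift A.rX ((D.obj PUnit.unit).hom ≫ A.bcr ψ) (by
    rw [A.sq₂.w, Category.assoc, bcr_fst])

lemma bcrX_fst : A.bcrX ψ ≫ pullback.fst A.ak (pullback.fst A.gk (Dg.map ψ)) = A.rX :=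
  pullback.lift_fst _ _ _

lemma bcrX_snd : A.bcrX ψ ≫ pullback.snd A.ak (pullback.fst A.gk (Dg.map ψ)) =
    (D.obj PUnit.unit).hom ≫ A.bcr ψ := pullback.lift_snd _ _ _

lemma bcsq₂ : IsPullback (A.bcrX ψ) (D.obj PUnit.unit).hom
    (pullback.snd A.ak (pullback.fst A.gk (Dg.map ψ))) (A.bcr ψ) := by
  refine IsPullback.of_right ?_ (A.bcrX_snd ψ)
    (IsPullback.of_hasPullback A.ak (pullback.fst A.gk (Dg.map ψ)))
  rw [bcrX_fst, bcr_fst]
  exact A.sq₂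

/-- base change of an approximation to a further stage -/
noncomputable abbrev bc : Apx Dg c g D Pg Pa k' where
  Sk := pullback A.gk (Dg.map ψ)
  Xk := pullback A.ak (pullback.fst A.gk (Dg.map ψ))
  gk := pullback.snd A.gk (Dg.map ψ)
  ak := pullback.snd A.ak (pullback.fst A.gk (Dg.map ψ))
  r := A.bcr ψ
  rX := A.bcrX ψ
  sq₁ := A.bcsq₁ ψ
  sq₂ := A.bcsq₂ ψ
  gk_qc := inferInstance
  gk_qs := inferInstance
  ak_fp := inferInstance
  ak_qc := inferInstance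
  ak_qs := inferInstance
  gk_P := Pg.pullback_snd _ _ A.gk_P
  ak_P := Pa.pullback_snd _ _ A.ak_P

/-- the square between stages -/
lemma stsq₁ : IsPullback (pullback.fst A.gk (Dg.map ψ)) (A.bc ψ).gk A.gk (Dg.map ψ) :=
  IsPullback.of_hasPullback A.gk (Dg.map ψ)

lemma stsq₂ : IsPullback (pullback.fst A.ak (pullback.fst A.gk (Dg.map ψ))) (A.bc ψ).ak A.ak
    (pullback.fst A.gk (Dg.map ψ)) :=
  IsPullback.of_hasPullback A.ak (pullback.fst A.gk (Dg.map ψ))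

end Apx

/-- a transport morphism at the stage `k`, compatible with that of `D` -/
structure ApxTau where
  τk : pullback (A.ak ≫ A.gk) A.gk ⟶ A.Xk
  τk_hom : τk ≫ A.ak = pullback.snd (A.ak ≫ A.gk) A.gk
  compat : tauMor g D ≫ A.rX = Pmap A.sq₁ A.sq₂ ≫ τk

variable {A}

namespace ApxTau

variable (t : ApxTau A)

/-- base change of the transport morphism -/
noncomputable def bcτ : pullback ((A.bc ψ).ak ≫ (A.bc ψ).gk) (A.bc ψ).gk ⟶ (A.bc ψ).Xk :=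
  pullback.lift (Pmap (A.stsq₁ ψ) (A.stsq₂ ψ) ≫ t.τk)
    (pullback.snd ((A.bc ψ).ak ≫ (A.bc ψ).gk) (A.bc ψ).gk) (by
      rw [Category.assoc, t.τk_hom, Pmap_snd])

lemma bcτ_fst : t.bcτ ψ ≫ pullback.fst A.ak (pullback.fst A.gk (Dg.map ψ)) =
    Pmap (A.stsq₁ ψ) (A.stsq₂ ψ) ≫ t.τk := pullback.lift_fst _ _ _

lemma bcτ_hom : t.bcτ ψ ≫ (A.bc ψ).ak =
    pullback.snd ((A.bc ψ).ak ≫ (A.bc ψ).gk) (A.bc ψ).gk := pullback.lift_snd _ _ _

lemma Pmap_comp : Pmap (A.bc ψ).sq₁ (A.bc ψ).sq₂ ≫ Pmap (A.stsq₁ ψ) (A.stsq₂ ψ) =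
    Pmap A.sq₁ A.sq₂ := by
  apply pullback.hom_ext
  · rw [Category.assoc, Pmap_fst, Pmap_fst_assoc, Pmap_fst]
    congr 1
    exact A.bcrX_fst ψ
  · rw [Category.assoc, Pmap_snd, Pmap_snd_assoc, Pmap_snd]
    congr 1
    exact A.bcr_fst ψ

/-- base change of a stage transport morphism -/
noncomputable abbrev bc : ApxTau (A.bc ψ) where
  τk := t.bcτ ψ
  τk_hom := t.bcτ_hom ψ
  compat := by
    apply pullback.hom_ext
    · rw [Category.assoc, Category.assoc, bcτ_fst, ← Category.assoc (Pmap _ _), Pmap_comp,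
        ← t.compat]
      congr 1
      exact A.bcrX_fst ψ
    · rw [Category.assoc, Category.assoc]
      have e1 : (A.bc ψ).rX ≫ pullback.snd A.ak (pullback.fst A.gk (Dg.map ψ)) =
          (D.obj PUnit.unit).hom ≫ (A.bc ψ).r := A.bcrX_snd ψ
      have e2 : t.bcτ ψ ≫ pullback.snd A.ak (pullback.fst A.gk (Dg.map ψ)) =
          pullback.snd ((A.bc ψ).ak ≫ (A.bc ψ).gk) (A.bc ψ).gk := t.bcτ_hom ψ
      rw [e1, e2, Pmap_snd, ← Category.assoc, tauMor_hom]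

end ApxTau

end Apx

section TauMor

variable {S S' : Scheme.{u}} (g : S' ⟶ S) (D : Desc.SchDDFam (fun _ : PUnit.{1} => g))

lemma tauMor_self :
    pullback.lift (𝟙 _) (D.obj PUnit.unit).hom (by rw [Category.id_comp]) ≫ tauMor g D = 𝟙 _ :=
  (tauOf g D).self

lemma tauMor_coc {T : Scheme.{u}} (v : T ⟶ (D.obj PUnit.unit).left) (y₁ y₂ : T ⟶ S')
    (h₁ : v ≫ (D.obj PUnit.unit).hom ≫ g = y₁ ≫ g)
    (h₂ : (pullback.lift v y₁ h₁ ≫ tauMor g D) ≫ (D.obj PUnit.unit).hom ≫ g = y₂ ≫ g)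
    (h₃ : v ≫ (D.obj PUnit.unit).hom ≫ g = y₂ ≫ g) :
    pullback.lift (pullback.lift v y₁ h₁ ≫ tauMor g D) y₂ h₂ ≫ tauMor g D =
      pullback.lift v y₂ h₃ ≫ tauMor g D :=
  (tauOf g D).coc v y₁ y₂ h₁ h₂ h₃

end TauMor

section Steps

variable {I : Type u} [SmallCategory I] [IsCofiltered I] {Dg : I ⥤ Scheme.{u}} {c : Cone Dg}
  (hc : IsLimit c) [∀ (i j : I) (a : i ⟶ j), IsAffineHom (Dg.map a)]
  [∀ i, CompactSpace (Dg.obj i)] [∀ i, QuasiSeparatedSpace (Dg.obj i)]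
  {S' : Scheme.{u}} {g : S' ⟶ c.pt} {D : Desc.SchDDFam (fun _ : PUnit.{1} => g)}
  {Pg Pa : MorphismProperty Scheme.{u}} [Pg.IsStableUnderBaseChange] [Pa.IsStableUnderBaseChange]
  {k : I} {A : Apx Dg c g D Pg Pa k}

include hc in
/-- **Step A**: the transport morphism descends to a stage. -/
theorem exists_apxTau (A : Apx Dg c g D Pg Pa k) :
    ∃ (k' : I) (ψ : k' ⟶ k), Nonempty (ApxTau (A.bc ψ)) := by
  have ha : (tauMor g D ≫ A.rX) ≫ A.ak =
      Pmap A.sq₁ A.sq₂ ≫ pullback.snd (A.ak ≫ A.gk) A.gk := by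
    rw [Category.assoc, A.sq₂.w, ← Category.assoc, tauMor_hom, Pmap_snd]
  obtain ⟨k', ψ, H⟩ := exists_hom_of_isPullback Dg c hc k
    (pullback.snd (A.ak ≫ A.gk) A.gk ≫ A.gk) A.ak (pullback.snd (A.ak ≫ A.gk) A.gk)
    (Pmap A.sq₁ A.sq₂) (pullback.snd _ _ ≫ g) (sqP A.sq₁ A.sq₂) (tauMor g D ≫ A.rX) ha
  obtain ⟨ak', h1, h2⟩ := H (Pmap (A.stsq₁ ψ) (A.stsq₂ ψ))
    (pullback.snd ((A.bc ψ).ak ≫ (A.bc ψ).gk) (A.bc ψ).gk ≫ (A.bc ψ).gk)
    (sqP (A.stsq₁ ψ) (A.stsq₂ ψ)) (Pmap (A.bc ψ).sq₁ (A.bc ψ).sq₂)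
    (ApxTau.Pmap_comp (A := A) ψ) (sqP (A.bc ψ).sq₁ (A.bc ψ).sq₂).w
  refine ⟨k', ψ, ⟨{
    τk := pullback.lift ak' (pullback.snd ((A.bc ψ).ak ≫ (A.bc ψ).gk) (A.bc ψ).gk) (by
      rw [h1, Pmap_snd])
    τk_hom := pullback.lift_snd _ _ _
    compat := ?_ }⟩⟩
  apply pullback.hom_ext
  · rw [Category.assoc, Category.assoc, pullback.lift_fst, h2]
    congr 1
    exact A.bcrX_fst ψ
  · rw [Category.assoc, Category.assoc, pullback.lift_snd]
    have e1 : (A.bc ψ).rX ≫ pullback.snd A.ak (pullback.fst A.gk (Dg.map ψ)) =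
        (D.obj PUnit.unit).hom ≫ (A.bc ψ).r := A.bcrX_snd ψ
    rw [e1, Pmap_snd, ← Category.assoc, tauMor_hom]

/-- the identity condition at a stage -/
def ApxTau.SelfProp (t : ApxTau A) : Prop :=
  pullback.lift (𝟙 A.Xk) A.ak (by rw [Category.id_comp]) ≫ t.τk = 𝟙 A.Xk

omit [IsCofiltered I] [∀ (i j : I) (a : i ⟶ j), IsAffineHom (Dg.map a)]
  [∀ i, CompactSpace (Dg.obj i)] [∀ i, QuasiSeparatedSpace (Dg.obj i)] in
lemma ApxTau.self_bc (t : ApxTau A) {k' : I} (ψ : k' ⟶ k)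
    (h : pullback.fst A.ak (pullback.fst A.gk (Dg.map ψ)) ≫
        (pullback.lift (𝟙 A.Xk) A.ak (by rw [Category.id_comp]) ≫ t.τk) =
      pullback.fst A.ak (pullback.fst A.gk (Dg.map ψ)) ≫ 𝟙 A.Xk) : (t.bc ψ).SelfProp := by
  change pullback.lift (𝟙 _) (A.bc ψ).ak _ ≫ t.bcτ ψ = 𝟙 _
  apply pullback.hom_ext
  · rw [Category.assoc, t.bcτ_fst ψ, Category.id_comp, ← Category.assoc,
      lift_Pmap (A.stsq₁ ψ) (A.stsq₂ ψ) (𝟙 _) (A.bc ψ).ak _
        (by rw [Category.id_comp, ← Category.assoc, (A.stsq₂ ψ).w])]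
    rw [Category.comp_id] at h
    refine (congrArg (· ≫ t.τk) ?_).trans ((Category.assoc _ _ _).trans h)
    apply pullback.hom_ext
    · rw [pullback.lift_fst, Category.assoc, pullback.lift_fst, Category.id_comp,
        Category.comp_id]
    · rw [pullback.lift_snd, Category.assoc, pullback.lift_snd]
      exact (A.stsq₂ ψ).w.symm
  · rw [Category.assoc, Category.id_comp]
    have e2 : t.bcτ ψ ≫ pullback.snd A.ak (pullback.fst A.gk (Dg.map ψ)) =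
        pullback.snd ((A.bc ψ).ak ≫ (A.bc ψ).gk) (A.bc ψ).gk := t.bcτ_hom ψ
    rw [e2, pullback.lift_snd]

omit [IsCofiltered I] [∀ (i j : I) (a : i ⟶ j), IsAffineHom (Dg.map a)]
  [∀ i, CompactSpace (Dg.obj i)] [∀ i, QuasiSeparatedSpace (Dg.obj i)] in
lemma ApxTau.SelfProp.bc {t : ApxTau A} (h : t.SelfProp) {k' : I} (ψ : k' ⟶ k) :
    (t.bc ψ).SelfProp :=
  t.self_bc ψ (by rw [show pullback.lift (𝟙 A.Xk) A.ak _ ≫ t.τk = 𝟙 A.Xk from h])

include hc in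
/-- **Step B**: the identity condition holds at a further stage. -/
theorem ApxTau.exists_self (t : ApxTau A) :
    ∃ (k' : I) (ψ : k' ⟶ k), (t.bc ψ).SelfProp := by
  have hab : A.rX ≫ (pullback.lift (𝟙 A.Xk) A.ak (by rw [Category.id_comp]) ≫ t.τk) =
      A.rX ≫ 𝟙 A.Xk := by
    have e : A.rX ≫ pullback.lift (𝟙 A.Xk) A.ak (by rw [Category.id_comp]) =
        pullback.lift (𝟙 _) (D.obj PUnit.unit).hom (by rw [Category.id_comp]) ≫
          Pmap A.sq₁ A.sq₂ := by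
      apply pullback.hom_ext
      · rw [Category.assoc, pullback.lift_fst, Category.assoc, Pmap_fst,
          pullback.lift_fst_assoc, Category.comp_id, Category.id_comp]
      · rw [Category.assoc, pullback.lift_snd, Category.assoc, Pmap_snd,
          pullback.lift_snd_assoc, A.sq₂.w]
    rw [← Category.assoc, e, Category.assoc, ← t.compat, ← Category.assoc,
      tauMor_self, Category.id_comp, Category.comp_id]
  obtain ⟨k', ψ, H⟩ := exists_eq_of_isPullback Dg c hc k (A.ak ≫ A.gk) A.ak A.ak A.rX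
    ((D.obj PUnit.unit).hom ≫ g) (sqX A.sq₁ A.sq₂)
    (pullback.lift (𝟙 A.Xk) A.ak (by rw [Category.id_comp]) ≫ t.τk) (𝟙 A.Xk)
    (by rw [Category.assoc, t.τk_hom, pullback.lift_snd]) (Category.id_comp _) hab
  exact ⟨k', ψ, t.self_bc ψ (H _ ((A.bc ψ).ak ≫ (A.bc ψ).gk) (sqX (A.stsq₁ ψ) (A.stsq₂ ψ)))⟩

section Coc

/-- left side of the cocycle condition on the universal triple -/
noncomputable def ApxTau.lhsC (t : ApxTau A) :
    pullback (pullback.snd (A.ak ≫ A.gk) A.gk ≫ A.gk) A.gk ⟶ A.Xk :=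
  pullback.lift (pullback.fst (pullback.snd (A.ak ≫ A.gk) A.gk ≫ A.gk) A.gk ≫ t.τk)
    (pullback.snd (pullback.snd (A.ak ≫ A.gk) A.gk ≫ A.gk) A.gk) (by
      rw [Category.assoc, ← Category.assoc t.τk, t.τk_hom]
      exact pullback.condition) ≫ t.τk

/-- right side of the cocycle condition on the universal triple -/
noncomputable def ApxTau.rhsC (t : ApxTau A) :
    pullback (pullback.snd (A.ak ≫ A.gk) A.gk ≫ A.gk) A.gk ⟶ A.Xk :=
  pullback.lift (pullback.fst (pullback.snd (A.ak ≫ A.gk) A.gk ≫ A.gk) A.gk ≫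
      pullback.fst (A.ak ≫ A.gk) A.gk)
    (pullback.snd (pullback.snd (A.ak ≫ A.gk) A.gk ≫ A.gk) A.gk) (by
      rw [Category.assoc, pullback.condition (f := A.ak ≫ A.gk)]
      exact pullback.condition) ≫ t.τk

/-- the cocycle condition at a stage, on points -/
def ApxTau.CocProp (t : ApxTau A) : Prop :=
  ∀ {T : Scheme.{u}} (v : T ⟶ A.Xk) (y₁ y₂ : T ⟶ A.Sk) (h₁ : v ≫ A.ak ≫ A.gk = y₁ ≫ A.gk)
    (h₂ : (pullback.lift v y₁ h₁ ≫ t.τk) ≫ A.ak ≫ A.gk = y₂ ≫ A.gk)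
    (h₃ : v ≫ A.ak ≫ A.gk = y₂ ≫ A.gk),
    pullback.lift (pullback.lift v y₁ h₁ ≫ t.τk) y₂ h₂ ≫ t.τk = pullback.lift v y₂ h₃ ≫ t.τk

omit [IsCofiltered I] [∀ (i j : I) (a : i ⟶ j), IsAffineHom (Dg.map a)]
  [∀ i, CompactSpace (Dg.obj i)] [∀ i, QuasiSeparatedSpace (Dg.obj i)]
  [Pg.IsStableUnderBaseChange] [Pa.IsStableUnderBaseChange] in
lemma ApxTau.cocProp_of_eq (t : ApxTau A) (h : t.lhsC = t.rhsC) : t.CocProp := by
  intro T v y₁ y₂ h₁ h₂ h₃
  have hy : y₁ ≫ A.gk = y₂ ≫ A.gk := by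
    rw [← h₂, Category.assoc, ← Category.assoc t.τk, t.τk_hom, ← Category.assoc,
      pullback.lift_snd]
  let ω : T ⟶ pullback (pullback.snd (A.ak ≫ A.gk) A.gk ≫ A.gk) A.gk :=
    pullback.lift (pullback.lift v y₁ h₁) y₂ (by rw [← Category.assoc, pullback.lift_snd, hy])
  have e1 : ω ≫ t.lhsC = pullback.lift (pullback.lift v y₁ h₁ ≫ t.τk) y₂ h₂ ≫ t.τk := by
    rw [ApxTau.lhsC, ← Category.assoc]
    congr 1
    apply pullback.hom_ext
    · rw [Category.assoc, pullback.lift_fst, pullback.lift_fst, pullback.lift_fst_assoc]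
    · rw [Category.assoc, pullback.lift_snd, pullback.lift_snd, pullback.lift_snd]
  have e2 : ω ≫ t.rhsC = pullback.lift v y₂ h₃ ≫ t.τk := by
    rw [ApxTau.rhsC, ← Category.assoc]
    congr 1
    apply pullback.hom_ext
    · rw [Category.assoc, pullback.lift_fst, pullback.lift_fst, pullback.lift_fst_assoc,
        pullback.lift_fst]
    · rw [Category.assoc, pullback.lift_snd, pullback.lift_snd, pullback.lift_snd]
  rw [← e1, ← e2, h]

omit [IsCofiltered I] [∀ (i j : I) (a : i ⟶ j), IsAffineHom (Dg.map a)]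
  [∀ i, CompactSpace (Dg.obj i)] [∀ i, QuasiSeparatedSpace (Dg.obj i)] in
lemma ApxTau.coc_bc (t : ApxTau A) {k' : I} (ψ : k' ⟶ k)
    (h : Pmap (A.stsq₁ ψ) (sqP₂ (A.stsq₁ ψ) (A.stsq₂ ψ)) ≫ t.lhsC =
      Pmap (A.stsq₁ ψ) (sqP₂ (A.stsq₁ ψ) (A.stsq₂ ψ)) ≫ t.rhsC) : (t.bc ψ).CocProp := by
  apply ApxTau.cocProp_of_eq
  have e2 : t.bcτ ψ ≫ pullback.snd A.ak (pullback.fst A.gk (Dg.map ψ)) =
      pullback.snd ((A.bc ψ).ak ≫ (A.bc ψ).gk) (A.bc ψ).gk := t.bcτ_hom ψ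
  have hl : (t.bc ψ).lhsC ≫ pullback.fst A.ak (pullback.fst A.gk (Dg.map ψ)) =
      Pmap (A.stsq₁ ψ) (sqP₂ (A.stsq₁ ψ) (A.stsq₂ ψ)) ≫ t.lhsC := by
    rw [ApxTau.lhsC, ApxTau.lhsC, Category.assoc, t.bcτ_fst ψ, ← Category.assoc,
      ← Category.assoc]
    congr 1
    apply pullback.hom_ext
    · rw [Category.assoc, Pmap_fst, pullback.lift_fst_assoc, Category.assoc, t.bcτ_fst ψ,
        Category.assoc, pullback.lift_fst, Pmap_fst_assoc]
    · rw [Category.assoc, Pmap_snd, pullback.lift_snd_assoc, Category.assoc, pullback.lift_snd,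
        Pmap_snd]
  have hr : (t.bc ψ).rhsC ≫ pullback.fst A.ak (pullback.fst A.gk (Dg.map ψ)) =
      Pmap (A.stsq₁ ψ) (sqP₂ (A.stsq₁ ψ) (A.stsq₂ ψ)) ≫ t.rhsC := by
    rw [ApxTau.rhsC, ApxTau.rhsC, Category.assoc, t.bcτ_fst ψ, ← Category.assoc,
      ← Category.assoc]
    congr 1
    apply pullback.hom_ext
    · rw [Category.assoc, Pmap_fst, pullback.lift_fst_assoc, Category.assoc,
        Category.assoc, pullback.lift_fst, Pmap_fst_assoc, Pmap_fst]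
    · rw [Category.assoc, Pmap_snd, pullback.lift_snd_assoc, Category.assoc, pullback.lift_snd,
        Pmap_snd]
  apply pullback.hom_ext
  · rw [hl, hr, h]
  · rw [ApxTau.lhsC, ApxTau.rhsC, Category.assoc, Category.assoc, e2, pullback.lift_snd,
      pullback.lift_snd]

include hc in
/-- **Step C**: the cocycle condition holds at a further stage. -/
theorem ApxTau.exists_coc (t : ApxTau A) :
    ∃ (k' : I) (ψ : k' ⟶ k), (t.bc ψ).CocProp := by
  have hab : Pmap A.sq₁ (sqP₂ A.sq₁ A.sq₂) ≫ t.lhsC = Pmap A.sq₁ (sqP₂ A.sq₁ A.sq₂) ≫ t.rhsC := by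
    have hc1 : (pullback.fst (pullback.snd ((D.obj PUnit.unit).hom ≫ g) g ≫ g) g ≫ tauMor g D) ≫
        (D.obj PUnit.unit).hom ≫ g = pullback.snd (pullback.snd ((D.obj PUnit.unit).hom ≫ g) g ≫ g) g ≫ g := by
      rw [Category.assoc, ← Category.assoc (tauMor g D), tauMor_hom]
      exact pullback.condition
    have hc2 : (pullback.fst (pullback.snd ((D.obj PUnit.unit).hom ≫ g) g ≫ g) g ≫
        pullback.fst ((D.obj PUnit.unit).hom ≫ g) g) ≫ (D.obj PUnit.unit).hom ≫ g =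
        pullback.snd (pullback.snd ((D.obj PUnit.unit).hom ≫ g) g ≫ g) g ≫ g := by
      rw [Category.assoc, pullback.condition (f := (D.obj PUnit.unit).hom ≫ g)]
      exact pullback.condition
    have el : Pmap A.sq₁ (sqP₂ A.sq₁ A.sq₂) ≫ t.lhsC =
        (pullback.lift _ _ hc1 ≫ tauMor g D) ≫ A.rX := by
      rw [ApxTau.lhsC, Category.assoc, t.compat, ← Category.assoc, ← Category.assoc]
      congr 1
      apply pullback.hom_ext
      · rw [Category.assoc, pullback.lift_fst, Pmap_fst_assoc, Category.assoc, Pmap_fst,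
          pullback.lift_fst_assoc, Category.assoc, t.compat]
      · rw [Category.assoc, pullback.lift_snd, Pmap_snd, Category.assoc, Pmap_snd,
          pullback.lift_snd_assoc]
    have er : Pmap A.sq₁ (sqP₂ A.sq₁ A.sq₂) ≫ t.rhsC =
        (pullback.lift _ _ hc2 ≫ tauMor g D) ≫ A.rX := by
      rw [ApxTau.rhsC, Category.assoc, t.compat, ← Category.assoc, ← Category.assoc]
      congr 1
      apply pullback.hom_ext
      · rw [Category.assoc, pullback.lift_fst, Pmap_fst_assoc, Category.assoc, Pmap_fst,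
          pullback.lift_fst_assoc, Category.assoc]
      · rw [Category.assoc, pullback.lift_snd, Pmap_snd, Category.assoc, Pmap_snd,
          pullback.lift_snd_assoc]
    rw [el, er]
    congr 1
    have h₁ : (pullback.fst (pullback.snd ((D.obj PUnit.unit).hom ≫ g) g ≫ g) g ≫
        pullback.fst ((D.obj PUnit.unit).hom ≫ g) g) ≫ (D.obj PUnit.unit).hom ≫ g =
        (pullback.fst (pullback.snd ((D.obj PUnit.unit).hom ≫ g) g ≫ g) g ≫
          pullback.snd ((D.obj PUnit.unit).hom ≫ g) g) ≫ g := by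
      rw [Category.assoc, pullback.condition (f := (D.obj PUnit.unit).hom ≫ g), Category.assoc]
    have eq1 : pullback.lift _ _ h₁ =
        pullback.fst (pullback.snd ((D.obj PUnit.unit).hom ≫ g) g ≫ g) g := by
      apply pullback.hom_ext
      · rw [pullback.lift_fst]
      · rw [pullback.lift_snd]
    have key := tauMor_coc g D _ _ (pullback.snd (pullback.snd ((D.obj PUnit.unit).hom ≫ g) g ≫ g) g)
      h₁ (by rw [eq1]; exact hc1) hc2
    refine Eq.trans ?_ key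
    congr 1
    apply pullback.hom_ext
    · rw [pullback.lift_fst, pullback.lift_fst, eq1]
    · rw [pullback.lift_snd, pullback.lift_snd]
  obtain ⟨k', ψ, H⟩ := exists_eq_of_isPullback Dg c hc k
    (pullback.snd (pullback.snd (A.ak ≫ A.gk) A.gk ≫ A.gk) A.gk ≫ A.gk) A.ak
    (pullback.snd (pullback.snd (A.ak ≫ A.gk) A.gk ≫ A.gk) A.gk)
    (Pmap A.sq₁ (sqP₂ A.sq₁ A.sq₂))
    (pullback.snd (pullback.snd ((D.obj PUnit.unit).hom ≫ g) g ≫ g) g ≫ g)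
    (sqP A.sq₁ (sqP₂ A.sq₁ A.sq₂)) t.lhsC t.rhsC
    (by rw [ApxTau.lhsC, Category.assoc, t.τk_hom, pullback.lift_snd])
    (by rw [ApxTau.rhsC, Category.assoc, t.τk_hom, pullback.lift_snd]) hab
  exact ⟨k', ψ, t.coc_bc ψ (H _ _ (sqP (A.stsq₁ ψ) (sqP₂ (A.stsq₁ ψ) (A.stsq₂ ψ))))⟩

end Coc

include hc in
/-- **Approximation of a descent datum**: an approximation of the schemes can be refined to an
approximation of the descent datum. -/
theorem exists_tauData (A : Apx Dg c g D Pg Pa k) :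
    ∃ (k' : I) (A' : Apx Dg c g D Pg Pa k') (T : TauData A'.gk A'.ak),
      tauMor g D ≫ A'.rX = Pmap A'.sq₁ A'.sq₂ ≫ T.τ := by
  obtain ⟨k₁, ψ₁, ⟨t₁⟩⟩ := exists_apxTau hc A
  obtain ⟨k₂, ψ₂, h₂⟩ := t₁.exists_self hc
  obtain ⟨k₃, ψ₃, h₃⟩ := (t₁.bc ψ₂).exists_coc hc
  have h₂' := h₂.bc ψ₃
  exact ⟨k₃, _, ⟨((t₁.bc ψ₂).bc ψ₃).τk, ((t₁.bc ψ₂).bc ψ₃).τk_hom, h₂', h₃⟩,
    ((t₁.bc ψ₂).bc ψ₃).compat⟩

omit [IsCofiltered I] [∀ (i j : I) (a : i ⟶ j), IsAffineHom (Dg.map a)]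
  [∀ i, CompactSpace (Dg.obj i)] [∀ i, QuasiSeparatedSpace (Dg.obj i)]
  [Pg.IsStableUnderBaseChange] [Pa.IsStableUnderBaseChange] in
/-- compatibility of the transports -/
lemma compat_tr (A : Apx Dg c g D Pg Pa k) (T : TauData A.gk A.ak)
    (h : tauMor g D ≫ A.rX = Pmap A.sq₁ A.sq₂ ≫ T.τ) {T₀ : Scheme.{u}} (y₀ y₁ : T₀ ⟶ S')
    (hy : y₀ ≫ g = y₁ ≫ g) (hy' : (y₀ ≫ A.r) ≫ A.gk = (y₁ ≫ A.r) ≫ A.gk)
    (v : T₀ ⟶ (D.obj PUnit.unit).left) (hv : v ≫ (D.obj PUnit.unit).hom = y₀)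
    (hv' : (v ≫ A.rX) ≫ A.ak = y₀ ≫ A.r) :
    tr g D y₀ y₁ hy v hv ≫ A.rX = tr A.gk (ddOfTau T) (y₀ ≫ A.r) (y₁ ≫ A.r) hy' (v ≫ A.rX) hv' := by
  rw [tr_eq_tp, tr_ddOfTau]
  change (pullback.lift v y₁ _ ≫ tauMor g D) ≫ A.rX = pullback.lift (v ≫ A.rX) (y₁ ≫ A.r) _ ≫ T.τ
  rw [Category.assoc, h, ← Category.assoc]
  congr 1
  exact lift_Pmap A.sq₁ A.sq₂ v y₁ _ _

end Steps

section Props

variable {I : Type u} [SmallCategory I] [IsCofiltered I] {Dg : I ⥤ Scheme.{u}} {c : Cone Dg}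
  (hc : IsLimit c) [∀ (i j : I) (a : i ⟶ j), IsAffineHom (Dg.map a)]
  [∀ i, CompactSpace (Dg.obj i)] [∀ i, QuasiSeparatedSpace (Dg.obj i)]
  {S' : Scheme.{u}} {g : S' ⟶ c.pt} {D : Desc.SchDDFam (fun _ : PUnit.{1} => g)}
  {Pg Pa : MorphismProperty Scheme.{u}} [Pg.IsStableUnderBaseChange] [Pa.IsStableUnderBaseChange]
  {k : I} (A : Apx Dg c g D Pg Pa k)

/-- change the recorded properties -/
def Apx.strengthen {Pg' Pa' : MorphismProperty Scheme.{u}} (hg : Pg' A.gk) (ha : Pa' A.ak) :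
    Apx Dg c g D Pg' Pa' k :=
  { A with gk_P := hg, ak_P := ha }

include hc in
/-- a property of `g` descends to a stage -/
theorem Apx.exists_gprop {P Φ : MorphismProperty Scheme.{u}} [IsZariskiLocalAtTarget P]
    [P.IsStableUnderBaseChange] [Φ.IsStableUnderBaseChange] (H : Lim.AffineSystemDescent P Φ)
    (hΦ : Φ A.gk) (hP : P g) : ∃ (k' : I) (ψ : k' ⟶ k), P (A.bc ψ).gk := by
  refine Lim.exists_bc_of_affineSystemDescent Dg c hc H k A.gk hΦ ?_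
  have e : g = A.sq₁.isoPullback.hom ≫ pullback.snd A.gk (c.π.app k) :=
    (A.sq₁.isoPullback_hom_snd).symm
  rw [e] at hP
  exact (P.cancel_left_of_respectsIso _ _).mp hP

include hc in
/-- a property of the object of the descent datum descends to a stage -/
theorem Apx.exists_aprop {P Φ : MorphismProperty Scheme.{u}} [IsZariskiLocalAtTarget P]
    [P.IsStableUnderBaseChange] [Φ.IsStableUnderBaseChange] (H : Lim.AffineSystemDescent P Φ)
    (hΦ : Φ A.ak) (hP : P (D.obj PUnit.unit).hom) : ∃ (k' : I) (ψ : k' ⟶ k), P (A.bc ψ).ak := by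
  haveI : CompactSpace A.Sk := QuasiCompact.compactSpace_of_compactSpace A.gk
  obtain ⟨k', hk'⟩ := Lim.exists_descend_core Dg c hc H k A.ak A.gk hΦ
    (Lim.descend_in (P := P) Dg c A.ak A.gk A.sq₁ A.sq₂ hP)
  exact ⟨k'.left, k'.hom, hk'⟩

include hc in
/-- separatedness of the object of the descent datum descends to a stage -/
theorem Apx.exists_asep [IsSeparated (D.obj PUnit.unit).hom] :
    ∃ (k' : I) (ψ : k' ⟶ k), IsSeparated (A.bc ψ).ak := by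
  haveI : CompactSpace A.Sk := QuasiCompact.compactSpace_of_compactSpace A.gk
  haveI : CompactSpace A.Xk := QuasiCompact.compactSpace_of_compactSpace A.ak
  haveI : CompactSpace ↥(pullback A.ak A.ak) :=
    QuasiCompact.compactSpace_of_compactSpace (pullback.fst A.ak A.ak)
  have hP : MorphismProperty.diagonal @IsClosedImmersion (D.obj PUnit.unit).hom := by
    change IsClosedImmersion (pullback.diagonal (D.obj PUnit.unit).hom)
    infer_instance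
  obtain ⟨k', hk'⟩ := Lim.exists_descend_core_diagonal (P := @IsClosedImmersion) Dg c hc
    Lim.affineSystemDescent_isClosedImmersion k A.ak A.gk
    ⟨inferInstance, inferInstance, inferInstance⟩
    (Lim.descend_in (P := MorphismProperty.diagonal @IsClosedImmersion) Dg c A.ak A.gk A.sq₁
      A.sq₂ hP)
  refine ⟨k'.left, k'.hom, ?_⟩
  have hk'' : IsClosedImmersion (pullback.diagonal (A.bc k'.hom).ak) := hk'
  exact ⟨hk''⟩

end Props

end Groth.Agent.H5.EtDesc
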