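import Mathlib
import Groth.Prelude.Def_Desc
import Groth.Prelude.Def_DescFam
import Groth.Prelude.Def_SGA1
import Groth.Agent.Lib.Helper5.Lim.Model11
import Groth.Agent.Lib.Helper5.Lim.FGSub2
import Groth.Agent.Lib.Helper5.Lim.DescendSurjective
import Groth.Agent.Lib.Helper5.EtDesc.EtZg
import Groth.Agent.Lib.Helper5.EtDesc.EtZe

/-!
# Effectivity of étale descent data along finite surjective morphisms of finite presentation
over an arbitrary base (S3687)
-/

set_option autoImplicit false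
set_option backward.isDefEq.respectTransparency false
set_option backward.isDefEq.respectTransparency.types false

universe u

open CategoryTheory CategoryTheory.Limits AlgebraicGeometry MorphismProperty

namespace Groth.Agent.H5.EtDesc

section Init

variable {I : Type u} [SmallCategory I] [IsCofiltered I] {Dg : I ⥤ Scheme.{u}} {c : Cone Dg}
  (hc : IsLimit c) [∀ (i j : I) (a : i ⟶ j), IsAffineHom (Dg.map a)]
  [∀ i, CompactSpace (Dg.obj i)] [∀ i, QuasiSeparatedSpace (Dg.obj i)]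
  {S' : Scheme.{u}} (g : S' ⟶ c.pt) (D : Desc.SchDDFam (fun _ : PUnit.{1} => g))

include hc in
/-- an initial approximation of the schemes -/
theorem exists_apx [LocallyOfFinitePresentation g] [QuasiCompact g] [QuasiSeparated g]
    [LocallyOfFinitePresentation (D.obj PUnit.unit).hom] [QuasiCompact (D.obj PUnit.unit).hom]
    [QuasiSeparated (D.obj PUnit.unit).hom] :
    ∃ k : I, Nonempty (Apx Dg c g D @LocallyOfFinitePresentation ⊤ k) := by
  have hDaff : ∀ {i j : I} (f : i ⟶ j), IsAffineHom (Dg.map f) := fun f => inferInstance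
  obtain ⟨j, ⟨M⟩⟩ := Lim.exists_model Dg c hc g
  haveI : CompactSpace M.Y := M.compactSpace_Y
  haveI : QuasiSeparatedSpace M.Y := M.quasiSeparatedSpace_Y
  haveI : ∀ (k k' : Over j) (φ : k ⟶ k'), IsAffineHom ((Lim.bcDiagram Dg M.p).map φ) :=
    fun k k' φ => Lim.isAffineHom_bcMap Dg M.p φ (hDaff _)
  haveI : ∀ k : Over j, CompactSpace ((Lim.bcDiagram Dg M.p).obj k) :=
    fun k => Lim.compactSpace_bcDiagram_obj Dg M.p k (hDaff _)
  haveI : ∀ k : Over j, QuasiSeparatedSpace ((Lim.bcDiagram Dg M.p).obj k) :=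
    fun k => Lim.quasiSeparatedSpace_bcDiagram_obj Dg M.p k (hDaff _)
  let e : S' ≅ pullback M.p (c.π.app j) := M.pb.isoPullback
  let a' : (D.obj PUnit.unit).left ⟶ (Lim.bcCone Dg c M.p).pt := (D.obj PUnit.unit).hom ≫ e.hom
  haveI : LocallyOfFinitePresentation a' :=
    inferInstanceAs (LocallyOfFinitePresentation ((D.obj PUnit.unit).hom ≫ e.hom))
  haveI : QuasiCompact a' := inferInstanceAs (QuasiCompact ((D.obj PUnit.unit).hom ≫ e.hom))
  haveI : QuasiSeparated a' := inferInstanceAs (QuasiSeparated ((D.obj PUnit.unit).hom ≫ e.hom))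
  obtain ⟨j', ⟨M'⟩⟩ := Lim.exists_model (Lim.bcDiagram Dg M.p) (Lim.bcCone Dg c M.p)
    (Lim.isLimitBcCone Dg c M.p hc) a'
  have sq₁ : IsPullback (e.hom ≫ Lim.bcProj Dg c M.p j') g (pullback.snd M.p (Dg.map j'.hom))
      (c.π.app j'.left) := by
    refine IsPullback.of_iso (Lim.isPullback_bcProj Dg c M.p j') e.symm (Iso.refl _) (Iso.refl _)
      (Iso.refl _) ?_ ?_ ?_ ?_
    · simp
    · simp only [Iso.refl_hom, Category.comp_id, Iso.symm_hom]
      exact (M.pb.isoPullback_inv_snd).symm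
    · simp
    · simp
  have sq₂ : IsPullback M'.g (D.obj PUnit.unit).hom M'.p (e.hom ≫ Lim.bcProj Dg c M.p j') := by
    refine IsPullback.of_iso M'.pb (Iso.refl _) (Iso.refl _) e.symm (Iso.refl _) ?_ ?_ ?_ ?_
    · simp
    · simp [a']
    · simp
    · simp only [Iso.refl_hom, Category.comp_id, Iso.symm_hom, Iso.inv_hom_id_assoc]
      rfl
  exact ⟨j'.left, ⟨{
    Sk := pullback M.p (Dg.map j'.hom)
    Xk := M'.Y
    gk := pullback.snd M.p (Dg.map j'.hom)
    ak := M'.p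
    r := e.hom ≫ Lim.bcProj Dg c M.p j'
    rX := M'.g
    sq₁ := sq₁
    sq₂ := sq₂
    gk_qc := inferInstance
    gk_qs := inferInstance
    ak_fp := M'.lfp
    ak_qc := M'.qc
    ak_qs := M'.qs
    gk_P := inferInstanceAs (LocallyOfFinitePresentation (pullback.snd M.p (Dg.map j'.hom)))
    ak_P := trivial }⟩⟩

end Init

section Main

/-- f.g. `ℤ`-algebras are noetherian -/
lemma isNoetherianRing_of_fg (A : Type u) [CommRing A] (A₀ : Subalgebra ℤ A) (h : A₀.FG) :
    IsNoetherianRing ↥A₀ := by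
  haveI : Algebra.FiniteType ℤ ↥A₀ := (Subalgebra.fg_iff_finiteType A₀).mp h
  exact Algebra.FiniteType.isNoetherianRing ℤ ↥A₀

/-- **S3687 over an affine base.** -/
theorem eff₀_of_finite_surjective_affine (A : Type u) [CommRing A] {S' : Scheme.{u}}
    (g : S' ⟶ Spec (CommRingCat.of A)) [IsFinite g] [Surjective g]
    [LocallyOfFinitePresentation g]
    (D : Desc.SchDDFam (fun _ : PUnit.{1} => g)) [Etale (D.obj PUnit.unit).hom]
    [IsSeparated (D.obj PUnit.unit).hom] [QuasiCompact (D.obj PUnit.unit).hom] : Eff₀ g D := by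
  let g' : S' ⟶ (Lim.fgzCone A).pt := g
  let D' : Desc.SchDDFam (fun _ : PUnit.{1} => g') := D
  haveI : IsFinite g' := ‹IsFinite g›
  haveI : Surjective g' := ‹Surjective g›
  haveI : LocallyOfFinitePresentation g' := ‹LocallyOfFinitePresentation g›
  haveI : Etale (D'.obj PUnit.unit).hom := ‹Etale (D.obj PUnit.unit).hom›
  haveI : IsSeparated (D'.obj PUnit.unit).hom := ‹IsSeparated (D.obj PUnit.unit).hom›
  haveI : QuasiCompact (D'.obj PUnit.unit).hom := ‹QuasiCompact (D.obj PUnit.unit).hom›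
  have hc := Lim.isLimitFgzCone A
  -- initial approximation
  obtain ⟨k₀, ⟨A₀⟩⟩ := exists_apx hc g' D'
  -- finiteness
  haveI : LocallyOfFinitePresentation A₀.gk := A₀.gk_P
  obtain ⟨k₁, ψ₁, h₁⟩ := A₀.exists_gprop hc Lim.affineSystemDescent_isFinite
    ⟨inferInstance, inferInstance, inferInstance⟩ (inferInstanceAs (IsFinite g'))
  let A₁ : Apx (Lim.fgzDiagram A) (Lim.fgzCone A) g' D'
      (@LocallyOfFinitePresentation ⊓ @IsFinite) ⊤ k₁ :=
    (A₀.bc ψ₁).strengthen ⟨(A₀.bc ψ₁).gk_P, h₁⟩ trivial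
  -- surjectivity
  haveI : LocallyOfFinitePresentation A₁.gk := A₁.gk_P.1
  obtain ⟨k₂, ψ₂, h₂⟩ := A₁.exists_gprop hc Lim.affineSystemDescent_surjective
    ⟨inferInstance, inferInstance, inferInstance⟩ (inferInstanceAs (Surjective g'))
  let A₂ : Apx (Lim.fgzDiagram A) (Lim.fgzCone A) g' D' (@IsFinite ⊓ @Surjective) ⊤ k₂ :=
    (A₁.bc ψ₂).strengthen ⟨(A₁.bc ψ₂).gk_P.2, h₂⟩ trivial
  -- étaleness
  obtain ⟨k₃, ψ₃, h₃⟩ := A₂.exists_aprop hc Lim.affineSystemDescent_etale
    ⟨inferInstance, inferInstance, inferInstance⟩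
    (inferInstanceAs (Etale (D'.obj PUnit.unit).hom))
  let A₃ : Apx (Lim.fgzDiagram A) (Lim.fgzCone A) g' D' (@IsFinite ⊓ @Surjective) @Etale k₃ :=
    (A₂.bc ψ₃).strengthen (A₂.bc ψ₃).gk_P h₃
  -- separatedness
  obtain ⟨k₄, ψ₄, h₄⟩ := A₃.exists_asep hc
  let A₄ : Apx (Lim.fgzDiagram A) (Lim.fgzCone A) g' D' (@IsFinite ⊓ @Surjective)
      (@Etale ⊓ @IsSeparated) k₄ :=
    (A₃.bc ψ₄).strengthen (A₃.bc ψ₄).gk_P ⟨(A₃.bc ψ₄).ak_P, h₄⟩
  -- the descent datum
  obtain ⟨k, A', T, hT⟩ := exists_tauData hc A₄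
  haveI : IsFinite A'.gk := A'.gk_P.1
  haveI : Surjective A'.gk := A'.gk_P.2
  haveI : Etale A'.ak := A'.ak_P.1
  haveI : IsSeparated A'.ak := A'.ak_P.2
  haveI : IsNoetherianRing ↥k.unop.1 := isNoetherianRing_of_fg A k.unop.1 k.unop.2
  haveI : IsLocallyNoetherian ((Lim.fgzDiagram A).obj k) :=
    inferInstanceAs (IsLocallyNoetherian (Spec (CommRingCat.of ↥k.unop.1)))
  haveI : Etale (((ddOfTau T).obj PUnit.unit).hom) := inferInstanceAs (Etale A'.ak)
  haveI : IsSeparated (((ddOfTau T).obj PUnit.unit).hom) := inferInstanceAs (IsSeparated A'.ak)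
  haveI : QuasiCompact (((ddOfTau T).obj PUnit.unit).hom) := inferInstanceAs (QuasiCompact A'.ak)
  have hsub : SGA1.UnivSubmersive A'.gk := univSubmersive_of_universallyClosed_of_surjective _
  obtain ⟨U₀, hU₀, ⟨d₀⟩⟩ := eff₀_iff_eff0Data.mp (eff₀_main A'.gk hsub (ddOfTau T))
  haveI := hU₀
  have sq₂' : IsPullback A'.rX (D'.obj PUnit.unit).hom
      ((ddOfTau T).obj PUnit.unit).hom A'.r := A'.sq₂
  let d : Eff0Data g' D' (Over.mk (pullback.snd U₀.hom ((Lim.fgzCone A).π.app k))) :=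
    Eff0Data.ofBaseChange A'.sq₁ sq₂'
      (fun y₀ y₁ h h' v hv hv' => compat_tr A' T hT y₀ y₁ h h' v hv hv') d₀
  haveI : Etale (Over.mk (pullback.snd U₀.hom ((Lim.fgzCone A).π.app k))).hom :=
    inferInstanceAs (Etale (pullback.snd U₀.hom ((Lim.fgzCone A).π.app k)))
  exact d.eff₀

/-- **S3687 in terms of `Eff₀`**: over an arbitrary base. -/
theorem eff₀_of_finite_surjective {S S' : Scheme.{u}} (g : S' ⟶ S) [IsFinite g] [Surjective g]
    [LocallyOfFinitePresentation g]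
    (D : Desc.SchDDFam (fun _ : PUnit.{1} => g)) [Etale (D.obj PUnit.unit).hom]
    [IsSeparated (D.obj PUnit.unit).hom] [QuasiCompact (D.obj PUnit.unit).hom] : Eff₀ g D := by
  have hg : SGA1.UnivSubmersive g := univSubmersive_of_universallyClosed_of_surjective g
  rw [eff₀_iff_stalk hg]
  intro a
  change Eff₀ (pullback.snd g (S.fromSpecStalk a)) (pullD g D (S.fromSpecStalk a))
  exact eff₀_of_finite_surjective_affine (S.presheaf.stalk a)
    (pullback.snd g (S.fromSpecStalk a)) (pullD g D (S.fromSpecStalk a))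

/-- **S3687**. -/
theorem main_S3687 {S S' : Scheme.{u}} (g : S' ⟶ S) [IsFinite g] [Surjective g]
    [LocallyOfFinitePresentation g]
    (D : Desc.SchDD g) [QuasiCompact D.obj.hom] [IsSeparated D.obj.hom] [Etale D.obj.hom] :
    ∃ U : Over S, QuasiCompact U.hom ∧ IsSeparated U.hom ∧ Etale U.hom ∧
      Nonempty ((Desc.toDD g).obj U ≅ D) := by
  have hg : SGA1.UnivSubmersive g := univSubmersive_of_universallyClosed_of_surjective g
  let D' : Desc.SchDDFam (fun _ : PUnit.{1} => g) := (Desc.SchDDFam.ofSchDD.{0} g).obj D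
  haveI : Etale (D'.obj PUnit.unit).hom := ‹Etale D.obj.hom›
  haveI : IsSeparated (D'.obj PUnit.unit).hom := ‹IsSeparated D.obj.hom›
  haveI : QuasiCompact (D'.obj PUnit.unit).hom := ‹QuasiCompact D.obj.hom›
  obtain ⟨U, hU, ⟨Θ⟩⟩ := eff₀_of_finite_surjective g D'
  let d : EffData g D' (𝟙 S) U := EffData.ofIso₀ Θ
  refine ⟨U, d.quasiCompact hg, d.isSeparated hg, hU, ⟨?_⟩⟩
  exact (Desc.SchDDFam.toSchDD.{0} g).mapIso Θ

end Main

end Groth.Agent.H5.EtDesc
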