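import Mathlib

/-!
# Fibre products of limit cones

For functors `F G H : J ⥤ C` with natural transformations `f : F ⟶ H`, `g : G ⟶ H` and limit cones
over each of them, the pullbacks `F k ×_{H k} G k` form a functor whose limit is the pullback of the
limits.
-/

set_option autoImplicit false

universe v u v' u'

open CategoryTheory CategoryTheory.Limits

namespace Groth.Agent.H5.EtDesc

section FibLim

variable {J : Type u'} [Category.{v'} J] {C : Type u} [Category.{v} C] [HasPullbacks C]
  {F G H : J ⥤ C} (f : F ⟶ H) (g : G ⟶ H)

/-- the functor `k ↦ F k ×_{H k} G k` -/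
noncomputable abbrev pbFunctor : J ⥤ C where
  obj k := pullback (f.app k) (g.app k)
  map {k l} φ := pullback.map (f.app k) (g.app k) (f.app l) (g.app l) (F.map φ) (G.map φ) (H.map φ)
    (f.naturality φ).symm (g.naturality φ).symm
  map_id k := by
    apply pullback.hom_ext
    · rw [pullback.lift_fst, Category.id_comp, F.map_id, Category.comp_id]
    · rw [pullback.lift_snd, Category.id_comp, G.map_id, Category.comp_id]
  map_comp φ ψ := by
    apply pullback.hom_ext
    · rw [pullback.lift_fst, Category.assoc, pullback.lift_fst, pullback.lift_fst_assoc,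
        F.map_comp, Category.assoc]
    · rw [pullback.lift_snd, Category.assoc, pullback.lift_snd, pullback.lift_snd_assoc,
        G.map_comp, Category.assoc]

@[reassoc]
lemma pbFunctor_map_fst {k l : J} (φ : k ⟶ l) :
    (pbFunctor f g).map φ ≫ pullback.fst (f.app l) (g.app l) =
      pullback.fst (f.app k) (g.app k) ≫ F.map φ := pullback.lift_fst _ _ _

@[reassoc]
lemma pbFunctor_map_snd {k l : J} (φ : k ⟶ l) :
    (pbFunctor f g).map φ ≫ pullback.snd (f.app l) (g.app l) =
      pullback.snd (f.app k) (g.app k) ≫ G.map φ := pullback.lift_snd _ _ _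

/-- the first projection, as a natural transformation -/
noncomputable def pbFst : pbFunctor f g ⟶ F where
  app k := pullback.fst (f.app k) (g.app k)
  naturality _ _ φ := pbFunctor_map_fst f g φ

/-- the second projection, as a natural transformation -/
noncomputable def pbSnd : pbFunctor f g ⟶ G where
  app k := pullback.snd (f.app k) (g.app k)
  naturality _ _ φ := pbFunctor_map_snd f g φ

variable {f g} {cF : Cone F} {cG : Cone G} {cH : Cone H} {fc : cF.pt ⟶ cH.pt} {gc : cG.pt ⟶ cH.pt}
  (hf : ∀ k, cF.π.app k ≫ f.app k = fc ≫ cH.π.app k)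
  (hg : ∀ k, cG.π.app k ≫ g.app k = gc ≫ cH.π.app k)

/-- the projection from the pullback of the limits -/
noncomputable def pbProj (k : J) : pullback fc gc ⟶ pullback (f.app k) (g.app k) :=
  pullback.map fc gc (f.app k) (g.app k) (cF.π.app k) (cG.π.app k) (cH.π.app k)
    (hf k).symm (hg k).symm

@[reassoc]
lemma pbProj_fst (k : J) : pbProj hf hg k ≫ pullback.fst (f.app k) (g.app k) =
    pullback.fst fc gc ≫ cF.π.app k := pullback.lift_fst _ _ _

@[reassoc]
lemma pbProj_snd (k : J) : pbProj hf hg k ≫ pullback.snd (f.app k) (g.app k) =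
    pullback.snd fc gc ≫ cG.π.app k := pullback.lift_snd _ _ _

/-- the cone on the pullback of the limits -/
noncomputable abbrev pbCone : Cone (pbFunctor f g) where
  pt := pullback fc gc
  π :=
    { app := fun k => pbProj hf hg k
      naturality := fun k l φ => by
        apply pullback.hom_ext
        · simp only [Functor.const_obj_obj, Functor.const_obj_map, Category.id_comp,
            Category.assoc]
          rw [pbFunctor_map_fst, pbProj_fst, pbProj_fst_assoc, cF.w]
        · simp only [Functor.const_obj_obj, Functor.const_obj_map, Category.id_comp,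
            Category.assoc]
          rw [pbFunctor_map_snd, pbProj_snd, pbProj_snd_assoc, cG.w] }

lemma pbCone_π_app (k : J) : (pbCone hf hg).π.app k = pbProj hf hg k := rfl

/-- **the pullback of the limits is the limit of the pullbacks** -/
noncomputable def isLimitPbCone [Nonempty J] (hF : IsLimit cF) (hG : IsLimit cG) (hH : IsLimit cH) :
    IsLimit (pbCone hf hg) where
  lift s := pullback.lift
    (hF.lift ⟨s.pt, s.π ≫ pbFst f g⟩) (hG.lift ⟨s.pt, s.π ≫ pbSnd f g⟩) (by
      apply hH.hom_ext
      intro k
      rw [Category.assoc, ← hf k, Category.assoc, ← hg k, ← Category.assoc, ← Category.assoc,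
        hF.fac, hG.fac]
      change (s.π.app k ≫ pullback.fst (f.app k) (g.app k)) ≫ f.app k =
        (s.π.app k ≫ pullback.snd (f.app k) (g.app k)) ≫ g.app k
      rw [Category.assoc, Category.assoc, pullback.condition])
  fac s k := by
    change pullback.lift _ _ _ ≫ pbProj hf hg k = s.π.app k
    apply pullback.hom_ext
    · rw [Category.assoc, pbProj_fst, pullback.lift_fst_assoc, hF.fac]
      rfl
    · rw [Category.assoc, pbProj_snd, pullback.lift_snd_assoc, hG.fac]
      rfl
  uniq s m hm := by
    have hm' : ∀ k, m ≫ pbProj hf hg k = s.π.app k := hm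
    apply pullback.hom_ext
    · rw [pullback.lift_fst]
      apply hF.hom_ext
      intro k
      rw [hF.fac]
      change (m ≫ pullback.fst fc gc) ≫ cF.π.app k = s.π.app k ≫ pullback.fst (f.app k) (g.app k)
      rw [Category.assoc, ← pbProj_fst hf hg k, ← Category.assoc, hm']
    · rw [pullback.lift_snd]
      apply hG.hom_ext
      intro k
      rw [hG.fac]
      change (m ≫ pullback.snd fc gc) ≫ cG.π.app k = s.π.app k ≫ pullback.snd (f.app k) (g.app k)
      rw [Category.assoc, ← pbProj_snd hf hg k, ← Category.assoc, hm']

end FibLim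

section Sch

open AlgebraicGeometry

universe w

variable {J : Type w} [Category.{w} J] {F G H : J ⥤ Scheme.{w}} (f : F ⟶ H) (g : G ⟶ H)
  [∀ k, IsAffineHom (g.app k)]

lemma isAffineHom_pbFunctor_map [∀ {k l : J} (φ : k ⟶ l), IsAffineHom (F.map φ)] {k l : J}
    (φ : k ⟶ l) : IsAffineHom ((pbFunctor f g).map φ) := by
  haveI : IsAffineHom ((pbFunctor f g).map φ ≫ pullback.fst (f.app l) (g.app l)) := by
    rw [pbFunctor_map_fst]
    haveI : IsAffineHom (F.map φ) := inferInstance
    haveI : IsAffineHom (pullback.fst (f.app k) (g.app k)) :=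
      MorphismProperty.pullback_fst _ _ inferInstance
    exact MorphismProperty.comp_mem _ _ _ inferInstance inferInstance
  haveI : IsAffineHom (pullback.fst (f.app l) (g.app l)) :=
    MorphismProperty.pullback_fst _ _ inferInstance
  exact IsAffineHom.of_comp _ (pullback.fst (f.app l) (g.app l))

lemma compactSpace_pbFunctor_obj [∀ k, CompactSpace (F.obj k)] (k : J) :
    CompactSpace ((pbFunctor f g).obj k) :=
  haveI : IsAffineHom (pullback.fst (f.app k) (g.app k)) :=
    MorphismProperty.pullback_fst _ _ inferInstance
  QuasiCompact.compactSpace_of_compactSpace (pullback.fst (f.app k) (g.app k))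

lemma quasiSeparatedSpace_pbFunctor_obj [∀ k, QuasiSeparatedSpace (F.obj k)] (k : J) :
    QuasiSeparatedSpace ((pbFunctor f g).obj k) :=
  haveI : IsAffineHom (pullback.fst (f.app k) (g.app k)) :=
    MorphismProperty.pullback_fst _ _ inferInstance
  quasiSeparatedSpace_of_quasiSeparated (pullback.fst (f.app k) (g.app k))

end Sch

end Groth.Agent.H5.EtDesc
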