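import Mathlib
import Groth.Prelude.Def_Desc
import Groth.Prelude.Def_DescFam
import Groth.Prelude.Def_SGA1
import Groth.Agent.Lib.Helper5.EtDesc.EtZf
import Groth.Agent.Lib.Helper5.EtDesc.EtZi

/-!
# Approximation of descent data along a limit of (non-cartesian) morphisms (towards S783)
-/

set_option autoImplicit false
set_option backward.isDefEq.respectTransparency false
set_option backward.isDefEq.respectTransparency.types false

universe u

open CategoryTheory CategoryTheory.Limits AlgebraicGeometry MorphismProperty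

namespace Groth.Agent.H5.EtDesc

section Univ

variable {S S' X : Scheme.{u}} (g : S' ⟶ S) (a : X ⟶ S') (τ : pullback (a ≫ g) g ⟶ X)
  (hτ : τ ≫ a = pullback.snd (a ≫ g) g)

include hτ in
lemma lhsU_cond : (pullback.fst (pullback.snd (a ≫ g) g ≫ g) g ≫ τ) ≫ a ≫ g =
    pullback.snd (pullback.snd (a ≫ g) g ≫ g) g ≫ g := by
  rw [Category.assoc, ← Category.assoc τ, hτ]
  exact pullback.condition

lemma rhsU_cond : (pullback.fst (pullback.snd (a ≫ g) g ≫ g) g ≫ pullback.fst (a ≫ g) g) ≫ a ≫ g =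
    pullback.snd (pullback.snd (a ≫ g) g ≫ g) g ≫ g := by
  rw [Category.assoc, pullback.condition (f := a ≫ g)]
  exact pullback.condition

/-- left side of the cocycle condition on the universal triple -/
noncomputable def lhsU : pullback (pullback.snd (a ≫ g) g ≫ g) g ⟶ X :=
  pullback.lift (pullback.fst (pullback.snd (a ≫ g) g ≫ g) g ≫ τ)
    (pullback.snd (pullback.snd (a ≫ g) g ≫ g) g) (lhsU_cond g a τ hτ) ≫ τ

/-- right side of the cocycle condition on the universal triple -/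
noncomputable def rhsU : pullback (pullback.snd (a ≫ g) g ≫ g) g ⟶ X :=
  pullback.lift (pullback.fst (pullback.snd (a ≫ g) g ≫ g) g ≫ pullback.fst (a ≫ g) g)
    (pullback.snd (pullback.snd (a ≫ g) g ≫ g) g) (rhsU_cond g a) ≫ τ

include hτ in
lemma lhsU_hom : lhsU g a τ hτ ≫ a = pullback.snd (pullback.snd (a ≫ g) g ≫ g) g := by
  rw [lhsU, Category.assoc, hτ, pullback.lift_snd]

include hτ in
lemma rhsU_hom : rhsU g a τ ≫ a = pullback.snd (pullback.snd (a ≫ g) g ≫ g) g := by
  rw [rhsU, Category.assoc, hτ, pullback.lift_snd]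

lemma coc_of_eq (h : lhsU g a τ hτ = rhsU g a τ) {T : Scheme.{u}} (v : T ⟶ X) (y₁ y₂ : T ⟶ S')
    (h₁ : v ≫ a ≫ g = y₁ ≫ g) (h₂ : (pullback.lift v y₁ h₁ ≫ τ) ≫ a ≫ g = y₂ ≫ g)
    (h₃ : v ≫ a ≫ g = y₂ ≫ g) :
    pullback.lift (pullback.lift v y₁ h₁ ≫ τ) y₂ h₂ ≫ τ = pullback.lift v y₂ h₃ ≫ τ := by
  have hy : y₁ ≫ g = y₂ ≫ g := by
    rw [← h₂, Category.assoc, ← Category.assoc τ, hτ, ← Category.assoc, pullback.lift_snd]
  let ω : T ⟶ pullback (pullback.snd (a ≫ g) g ≫ g) g :=
    pullback.lift (pullback.lift v y₁ h₁) y₂ (by rw [← Category.assoc, pullback.lift_snd, hy])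
  have e1 : ω ≫ lhsU g a τ hτ = pullback.lift (pullback.lift v y₁ h₁ ≫ τ) y₂ h₂ ≫ τ := by
    rw [lhsU, ← Category.assoc]
    congr 1
    apply pullback.hom_ext
    · rw [Category.assoc, pullback.lift_fst, pullback.lift_fst, pullback.lift_fst_assoc]
    · rw [Category.assoc, pullback.lift_snd, pullback.lift_snd, pullback.lift_snd]
  have e2 : ω ≫ rhsU g a τ = pullback.lift v y₂ h₃ ≫ τ := by
    rw [rhsU, ← Category.assoc]
    congr 1
    apply pullback.hom_ext
    · rw [Category.assoc, pullback.lift_fst, pullback.lift_fst, pullback.lift_fst_assoc,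
        pullback.lift_fst]
    · rw [Category.assoc, pullback.lift_snd, pullback.lift_snd, pullback.lift_snd]
  rw [← e1, ← e2, h]

lemma TauData.lhsU_eq_rhsU (t : TauData g a) : lhsU g a t.τ t.τ_hom = rhsU g a t.τ := by
  have h₁ : (pullback.fst (pullback.snd (a ≫ g) g ≫ g) g ≫ pullback.fst (a ≫ g) g) ≫ a ≫ g =
      (pullback.fst (pullback.snd (a ≫ g) g ≫ g) g ≫ pullback.snd (a ≫ g) g) ≫ g := by
    rw [Category.assoc, pullback.condition (f := a ≫ g), Category.assoc]
  have eq1 : pullback.lift _ _ h₁ = pullback.fst (pullback.snd (a ≫ g) g ≫ g) g := by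
    apply pullback.hom_ext
    · rw [pullback.lift_fst]
    · rw [pullback.lift_snd]
  have key := t.coc _ _ (pullback.snd (pullback.snd (a ≫ g) g ≫ g) g) h₁
    (by rw [eq1]; exact lhsU_cond g a t.τ t.τ_hom) (rhsU_cond g a)
  rw [lhsU, rhsU]
  refine Eq.trans ?_ key
  congr 1
  apply pullback.hom_ext
  · rw [pullback.lift_fst, pullback.lift_fst, eq1]
  · rw [pullback.lift_snd, pullback.lift_snd]

end Univ

section LL

variable {J : Type u} [SmallCategory J] {j₀ : J} (hj₀ : IsTerminal j₀)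
  {BS E XE : J ⥤ Scheme.{u}} (gE : E ⟶ BS) (aE : XE ⟶ E)
  {cB : Cone BS} {cE : Cone E} {cX : Cone XE}
  {g : cE.pt ⟶ cB.pt} {a : cX.pt ⟶ cE.pt}
  (hg : ∀ k, cE.π.app k ≫ gE.app k = g ≫ cB.π.app k)
  (ha : ∀ k, cX.π.app k ≫ aE.app k = a ≫ cE.π.app k)
  (hcart : ∀ {k l : J} (φ : k ⟶ l), IsPullback (XE.map φ) (aE.app k) (aE.app l) (E.map φ))

/-- the composite `XE ⟶ BS` with reducible components -/
abbrev agE : XE ⟶ BS where
  app k := aE.app k ≫ gE.app k
  naturality k l φ := by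
    rw [← Category.assoc, aE.naturality, Category.assoc, gE.naturality, Category.assoc]

include hg ha in
lemma hag (k : J) : cX.π.app k ≫ (agE gE aE).app k = (a ≫ g) ≫ cB.π.app k := by
  change cX.π.app k ≫ aE.app k ≫ gE.app k = _
  rw [← Category.assoc, ha, Category.assoc, hg, Category.assoc]

/-- the system `X_k ×_{S_k} S'_k` -/
noncomputable abbrev QF : J ⥤ Scheme.{u} := pbFunctor (agE gE aE) gE

/-- the cone on `X ×_S S'` -/
noncomputable abbrev Qcone : Cone (QF gE aE) :=
  pbCone (f := agE gE aE) (g := gE) (cF := cX) (cG := cE) (cH := cB) (fc := a ≫ g) (gc := g)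
    (hag gE aE hg ha) hg

/-- the structure morphism of `Q_k` through the second projection -/
noncomputable abbrev sgE : QF gE aE ⟶ BS where
  app k := pullback.snd (aE.app k ≫ gE.app k) (gE.app k) ≫ gE.app k
  naturality k l φ := by
    rw [← Category.assoc, pbFunctor_map_snd, Category.assoc, gE.naturality, Category.assoc]

include hg ha in
lemma hsg (k : J) : (Qcone gE aE hg ha).π.app k ≫ (sgE gE aE).app k =
    (pullback.snd (a ≫ g) g ≫ g) ≫ cB.π.app k := by
  change pbProj (hag gE aE hg ha) hg k ≫ pullback.snd (aE.app k ≫ gE.app k) (gE.app k) ≫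
    gE.app k = _
  rw [← Category.assoc, pbProj_snd, Category.assoc, hg, Category.assoc]

/-- the system of triple products -/
noncomputable abbrev RF : J ⥤ Scheme.{u} := pbFunctor (sgE gE aE) gE

/-- the cone on the triple product -/
noncomputable abbrev Rcone : Cone (RF gE aE) :=
  pbCone (f := sgE gE aE) (g := gE) (cF := Qcone gE aE hg ha) (cG := cE) (cH := cB)
    (fc := pullback.snd (a ≫ g) g ≫ g) (gc := g) (hsg gE aE hg ha) hg

end LL

section Apx

variable {J : Type u} [SmallCategory J] {j₀ : J} (hj₀ : IsTerminal j₀)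
  {BS E XE : J ⥤ Scheme.{u}} (gE : E ⟶ BS) (aE : XE ⟶ E)
  {cB : Cone BS} {cE : Cone E} {cX : Cone XE}
  {g : cE.pt ⟶ cB.pt} {a : cX.pt ⟶ cE.pt}
  (hg : ∀ k, cE.π.app k ≫ gE.app k = g ≫ cB.π.app k)
  (ha : ∀ k, cX.π.app k ≫ aE.app k = a ≫ cE.π.app k)
  (hcart : ∀ {k l : J} (φ : k ⟶ l), IsPullback (XE.map φ) (aE.app k) (aE.app l) (E.map φ))
  (t : TauData g a)

/-- an approximation of the transport morphism at the stage `k`, with values in `X_{j₀}` -/
structure TauApx (k : J) where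
  σ : (QF gE aE).obj k ⟶ XE.obj j₀
  σ_hom : σ ≫ aE.app j₀ = pullback.snd (aE.app k ≫ gE.app k) (gE.app k) ≫ E.map (hj₀.from k)
  compat : (Qcone gE aE hg ha).π.app k ≫ σ = t.τ ≫ cX.π.app j₀

namespace TauApx

variable {hj₀ gE aE hg ha t} {k : J} (s : TauApx hj₀ gE aE hg ha t k)

/-- restriction to a further stage -/
noncomputable def res {k' : J} (φ : k' ⟶ k) : TauApx hj₀ gE aE hg ha t k' where
  σ := (QF gE aE).map φ ≫ s.σ
  σ_hom := by
    rw [Category.assoc, s.σ_hom, ← Category.assoc, pbFunctor_map_snd, Category.assoc,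
      ← E.map_comp, hj₀.hom_ext (φ ≫ hj₀.from k) (hj₀.from k')]
  compat := by
    rw [← Category.assoc, (Qcone gE aE hg ha).w, s.compat]

lemma res_σ {k' : J} (φ : k' ⟶ k) : (s.res φ).σ = (QF gE aE).map φ ≫ s.σ := rfl

include hcart in
/-- the transport morphism at the stage -/
noncomputable def tau : pullback (aE.app k ≫ gE.app k) (gE.app k) ⟶ XE.obj k :=
  (hcart (hj₀.from k)).lift s.σ (pullback.snd (aE.app k ≫ gE.app k) (gE.app k)) s.σ_hom

@[reassoc]
lemma tau_map : s.tau hcart ≫ XE.map (hj₀.from k) = s.σ := (hcart (hj₀.from k)).lift_fst _ _ _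

@[reassoc]
lemma tau_hom : s.tau hcart ≫ aE.app k = pullback.snd (aE.app k ≫ gE.app k) (gE.app k) :=
  (hcart (hj₀.from k)).lift_snd _ _ _

/-- compatibility between the stages -/
@[reassoc]
lemma res_tau {k' : J} (φ : k' ⟶ k) :
    (s.res φ).tau hcart ≫ XE.map φ = (QF gE aE).map φ ≫ s.tau hcart := by
  apply (hcart (hj₀.from k)).hom_ext
  · rw [Category.assoc, ← XE.map_comp, hj₀.hom_ext (φ ≫ hj₀.from k) (hj₀.from k'), tau_map,
      Category.assoc, tau_map, res_σ]
  · rw [Category.assoc, aE.naturality, tau_hom_assoc, Category.assoc, tau_hom,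
      pbFunctor_map_snd]

/-- compatibility with the limit -/
lemma tau_compat : t.τ ≫ cX.π.app k = pbProj (hag gE aE hg ha) hg k ≫ s.tau hcart := by
  apply (hcart (hj₀.from k)).hom_ext
  · rw [Category.assoc, cX.w, Category.assoc, tau_map]
    exact s.compat.symm
  · rw [Category.assoc, ha, ← Category.assoc, t.τ_hom, Category.assoc, tau_hom, pbProj_snd]

end TauApx

end Apx

section Steps

variable {J : Type u} [SmallCategory J] [IsCofiltered J] {j₀ : J} (hj₀ : IsTerminal j₀)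
  {BS E XE : J ⥤ Scheme.{u}} (gE : E ⟶ BS) (aE : XE ⟶ E)
  {cB : Cone BS} {cE : Cone E} {cX : Cone XE}
  (hcB : IsLimit cB) (hcE : IsLimit cE) (hcX : IsLimit cX)
  {g : cE.pt ⟶ cB.pt} {a : cX.pt ⟶ cE.pt}
  (hg : ∀ k, cE.π.app k ≫ gE.app k = g ≫ cB.π.app k)
  (ha : ∀ k, cX.π.app k ≫ aE.app k = a ≫ cE.π.app k)
  (hcart : ∀ {k l : J} (φ : k ⟶ l), IsPullback (XE.map φ) (aE.app k) (aE.app l) (E.map φ))
  [∀ k, IsAffineHom (gE.app k)] [∀ {k l : J} (φ : k ⟶ l), IsAffineHom (XE.map φ)]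
  [∀ k, CompactSpace (XE.obj k)] [∀ k, QuasiSeparatedSpace (XE.obj k)]
  [LocallyOfFinitePresentation (aE.app j₀)]
  (t : TauData g a)

/-- `X ×_S S'` is the limit of the `X_k ×_{S_k} S'_k` -/
noncomputable def isLimitQcone : IsLimit (Qcone gE aE hg ha) :=
  haveI : Nonempty J := IsCofiltered.nonempty
  isLimitPbCone _ _ hcX hcE hcB

/-- the triple product is the limit of the triple products -/
noncomputable def isLimitRcone : IsLimit (Rcone gE aE hg ha) :=
  haveI : Nonempty J := IsCofiltered.nonempty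
  isLimitPbCone _ _ (isLimitQcone gE aE hcB hcE hcX hg ha) hcE hcB

include hcB hcE hcX in
/-- **Step A**: the transport morphism descends to a stage. -/
theorem exists_tauApx : ∃ k : J, Nonempty (TauApx hj₀ gE aE hg ha t k) := by
  haveI : ∀ {k l : J} (φ : k ⟶ l), IsAffineHom ((QF gE aE).map φ) :=
    fun φ => isAffineHom_pbFunctor_map _ _ φ
  haveI : ∀ k, CompactSpace ((QF gE aE).obj k) := fun k => compactSpace_pbFunctor_obj _ _ k
  haveI : ∀ k, QuasiSeparatedSpace ((QF gE aE).obj k) :=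
    fun k => quasiSeparatedSpace_pbFunctor_obj _ _ k
  let tQ : QF gE aE ⟶ (Functor.const J).obj (E.obj j₀) :=
    { app := fun k => pullback.snd (aE.app k ≫ gE.app k) (gE.app k) ≫ E.map (hj₀.from k)
      naturality := fun k l φ => by
        rw [← Category.assoc, pbFunctor_map_snd, Category.assoc, ← E.map_comp,
          hj₀.hom_ext (φ ≫ hj₀.from l) (hj₀.from k)]
        simp }
  obtain ⟨k, σ, h1, h2⟩ := Scheme.exists_π_app_comp_eq_of_locallyOfFinitePresentation
    (QF gE aE) tQ (aE.app j₀) (Qcone gE aE hg ha) (isLimitQcone gE aE hcB hcE hcX hg ha)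
    (t.τ ≫ cX.π.app j₀) (by
      ext k : 2
      change pbProj (hag gE aE hg ha) hg k ≫
        pullback.snd (aE.app k ≫ gE.app k) (gE.app k) ≫ E.map (hj₀.from k) =
        (t.τ ≫ cX.π.app j₀) ≫ aE.app j₀
      rw [← Category.assoc, pbProj_snd, Category.assoc, cE.w, Category.assoc, ha,
        ← Category.assoc, t.τ_hom])
  exact ⟨k, ⟨σ, h2, h1⟩⟩

namespace TauApx

variable {hj₀ gE aE hg ha t} {k : J} (s : TauApx hj₀ gE aE hg ha t k)

/-- the identity condition, with values in `X_{j₀}` -/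
def SelfC : Prop :=
  pullback.lift (𝟙 (XE.obj k)) (aE.app k) (by rw [Category.id_comp]) ≫ s.σ = XE.map (hj₀.from k)

omit [IsCofiltered J] [∀ k, IsAffineHom (gE.app k)]
  [∀ {k l : J} (φ : k ⟶ l), IsAffineHom (XE.map φ)]
  [∀ k, CompactSpace (XE.obj k)] [∀ k, QuasiSeparatedSpace (XE.obj k)]
  [LocallyOfFinitePresentation (aE.app j₀)] in
lemma diag_natural {k' : J} (φ : k' ⟶ k) :
    XE.map φ ≫ pullback.lift (𝟙 (XE.obj k)) (aE.app k) (by rw [Category.id_comp]) =
      pullback.lift (𝟙 (XE.obj k')) (aE.app k') (by rw [Category.id_comp]) ≫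
        (QF gE aE).map φ := by
  apply pullback.hom_ext
  · rw [Category.assoc, pullback.lift_fst, Category.assoc, pbFunctor_map_fst,
      pullback.lift_fst_assoc, Category.comp_id, Category.id_comp]
  · rw [Category.assoc, pullback.lift_snd, Category.assoc, pbFunctor_map_snd,
      pullback.lift_snd_assoc, aE.naturality]

omit [IsCofiltered J] [∀ k, IsAffineHom (gE.app k)]
  [∀ {k l : J} (φ : k ⟶ l), IsAffineHom (XE.map φ)]
  [∀ k, CompactSpace (XE.obj k)] [∀ k, QuasiSeparatedSpace (XE.obj k)]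
  [LocallyOfFinitePresentation (aE.app j₀)] in
lemma self_of_selfC (h : s.SelfC) :
    pullback.lift (𝟙 (XE.obj k)) (aE.app k) (by rw [Category.id_comp]) ≫ s.tau hcart = 𝟙 _ := by
  apply (hcart (hj₀.from k)).hom_ext
  · rw [Category.assoc, tau_map]
    exact h.trans (Category.id_comp _).symm
  · rw [Category.assoc, tau_hom, pullback.lift_snd]
    exact (Category.id_comp _).symm

omit [IsCofiltered J] [∀ k, IsAffineHom (gE.app k)]
  [∀ {k l : J} (φ : k ⟶ l), IsAffineHom (XE.map φ)]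
  [∀ k, CompactSpace (XE.obj k)] [∀ k, QuasiSeparatedSpace (XE.obj k)]
  [LocallyOfFinitePresentation (aE.app j₀)] in
lemma selfC_res_of_eq {k' : J} (φ : k' ⟶ k)
    (h : XE.map φ ≫ (pullback.lift (𝟙 (XE.obj k)) (aE.app k) (by rw [Category.id_comp]) ≫ s.σ) =
      XE.map φ ≫ XE.map (hj₀.from k)) : (s.res φ).SelfC := by
  change pullback.lift (𝟙 (XE.obj k')) (aE.app k') _ ≫ (QF gE aE).map φ ≫ s.σ = _
  rw [← Category.assoc, ← diag_natural, Category.assoc, h, ← XE.map_comp,
    hj₀.hom_ext (φ ≫ hj₀.from k) (hj₀.from k')]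

omit [IsCofiltered J] [∀ k, IsAffineHom (gE.app k)]
  [∀ {k l : J} (φ : k ⟶ l), IsAffineHom (XE.map φ)]
  [∀ k, CompactSpace (XE.obj k)] [∀ k, QuasiSeparatedSpace (XE.obj k)]
  [LocallyOfFinitePresentation (aE.app j₀)] in
lemma SelfC.res (h : s.SelfC) {k' : J} (φ : k' ⟶ k) : (s.res φ).SelfC :=
  s.selfC_res_of_eq φ (by rw [show _ ≫ s.σ = XE.map (hj₀.from k) from h])

include hcX in
/-- **Step B**: the identity condition holds at a further stage. -/
theorem exists_selfC : ∃ (k' : J) (φ : k' ⟶ k), (s.res φ).SelfC := by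
  let tX : XE ⟶ (Functor.const J).obj (E.obj j₀) :=
    { app := fun k => aE.app k ≫ E.map (hj₀.from k)
      naturality := fun k l φ => by
        rw [← Category.assoc, aE.naturality, Category.assoc, ← E.map_comp,
          hj₀.hom_ext (φ ≫ hj₀.from l) (hj₀.from k)]
        simp }
  obtain ⟨k', φ, h⟩ := Scheme.exists_hom_comp_eq_comp_of_locallyOfFiniteType XE tX (aE.app j₀)
    cX hcX (i := k)
    (pullback.lift (𝟙 (XE.obj k)) (aE.app k) (by rw [Category.id_comp]) ≫ s.σ)
    (XE.map (hj₀.from k))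
    (by
      change aE.app k ≫ E.map (hj₀.from k) = _
      rw [Category.assoc, s.σ_hom, pullback.lift_snd_assoc])
    (by
      change aE.app k ≫ E.map (hj₀.from k) = _
      rw [aE.naturality])
    (by
      have e : cX.π.app k ≫ pullback.lift (𝟙 (XE.obj k)) (aE.app k) (by rw [Category.id_comp]) =
          pullback.lift (𝟙 cX.pt) a (by rw [Category.id_comp]) ≫
            pbProj (hag gE aE hg ha) hg k := by
        apply pullback.hom_ext
        · rw [Category.assoc, pullback.lift_fst, Category.assoc, pbProj_fst,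
            pullback.lift_fst_assoc, Category.comp_id]
          exact (Category.id_comp _).symm
        · rw [Category.assoc, pullback.lift_snd, Category.assoc, pbProj_snd,
            pullback.lift_snd_assoc, ha]
      rw [← Category.assoc, e, Category.assoc, cX.w]
      have e2 : pbProj (hag gE aE hg ha) hg k ≫ s.σ = t.τ ≫ cX.π.app j₀ := s.compat
      rw [e2, ← Category.assoc, t.self]
      exact Category.id_comp _)
  exact ⟨k', φ, s.selfC_res_of_eq φ h⟩

/-- the cocycle condition, with values in `X_{j₀}` -/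
def CocC : Prop :=
  lhsU (gE.app k) (aE.app k) (s.tau hcart) (s.tau_hom hcart) ≫ XE.map (hj₀.from k) =
    rhsU (gE.app k) (aE.app k) (s.tau hcart) ≫ XE.map (hj₀.from k)

omit [IsCofiltered J] [∀ k, IsAffineHom (gE.app k)]
  [∀ {k l : J} (φ : k ⟶ l), IsAffineHom (XE.map φ)]
  [∀ k, CompactSpace (XE.obj k)] [∀ k, QuasiSeparatedSpace (XE.obj k)]
  [LocallyOfFinitePresentation (aE.app j₀)] in
lemma lhsU_eq_of_cocC (h : s.CocC hcart) :
    lhsU (gE.app k) (aE.app k) (s.tau hcart) (s.tau_hom hcart) =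
      rhsU (gE.app k) (aE.app k) (s.tau hcart) := by
  apply (hcart (hj₀.from k)).hom_ext
  · exact h
  · rw [lhsU_hom, rhsU_hom _ _ _ (s.tau_hom hcart)]

omit [IsCofiltered J] [∀ k, IsAffineHom (gE.app k)]
  [∀ {k l : J} (φ : k ⟶ l), IsAffineHom (XE.map φ)]
  [∀ k, CompactSpace (XE.obj k)] [∀ k, QuasiSeparatedSpace (XE.obj k)]
  [LocallyOfFinitePresentation (aE.app j₀)] in
lemma lhsU_res {k' : J} (φ : k' ⟶ k) :
    lhsU (gE.app k') (aE.app k') ((s.res φ).tau hcart) ((s.res φ).tau_hom hcart) ≫ XE.map φ =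
      (RF gE aE).map φ ≫ lhsU (gE.app k) (aE.app k) (s.tau hcart) (s.tau_hom hcart) := by
  rw [lhsU, lhsU, Category.assoc, res_tau, ← Category.assoc, ← Category.assoc]
  congr 1
  apply pullback.hom_ext
  · rw [Category.assoc, pbFunctor_map_fst, pullback.lift_fst_assoc, Category.assoc, res_tau,
      Category.assoc, pullback.lift_fst, pbFunctor_map_fst_assoc]
  · rw [Category.assoc, pbFunctor_map_snd, pullback.lift_snd_assoc, Category.assoc,
      pullback.lift_snd, pbFunctor_map_snd]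

omit [IsCofiltered J] [∀ k, IsAffineHom (gE.app k)]
  [∀ {k l : J} (φ : k ⟶ l), IsAffineHom (XE.map φ)]
  [∀ k, CompactSpace (XE.obj k)] [∀ k, QuasiSeparatedSpace (XE.obj k)]
  [LocallyOfFinitePresentation (aE.app j₀)] in
lemma rhsU_res {k' : J} (φ : k' ⟶ k) :
    rhsU (gE.app k') (aE.app k') ((s.res φ).tau hcart) ≫ XE.map φ =
      (RF gE aE).map φ ≫ rhsU (gE.app k) (aE.app k) (s.tau hcart) := by
  rw [rhsU, rhsU, Category.assoc, res_tau, ← Category.assoc, ← Category.assoc]
  congr 1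
  apply pullback.hom_ext
  · rw [Category.assoc, Category.assoc, pbFunctor_map_fst, pullback.lift_fst_assoc,
      pullback.lift_fst, pbFunctor_map_fst_assoc, pbFunctor_map_fst, Category.assoc]
  · rw [Category.assoc, pbFunctor_map_snd, pullback.lift_snd_assoc, Category.assoc,
      pullback.lift_snd, pbFunctor_map_snd]

omit [IsCofiltered J] [∀ k, IsAffineHom (gE.app k)]
  [∀ {k l : J} (φ : k ⟶ l), IsAffineHom (XE.map φ)]
  [∀ k, CompactSpace (XE.obj k)] [∀ k, QuasiSeparatedSpace (XE.obj k)]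
  [LocallyOfFinitePresentation (aE.app j₀)] in
lemma cocC_res_of_eq {k' : J} (φ : k' ⟶ k)
    (h : (RF gE aE).map φ ≫ (lhsU (gE.app k) (aE.app k) (s.tau hcart) (s.tau_hom hcart) ≫
        XE.map (hj₀.from k)) =
      (RF gE aE).map φ ≫ (rhsU (gE.app k) (aE.app k) (s.tau hcart) ≫ XE.map (hj₀.from k))) :
    (s.res φ).CocC hcart := by
  change _ ≫ XE.map (hj₀.from k') = _ ≫ XE.map (hj₀.from k')
  rw [← hj₀.hom_ext (φ ≫ hj₀.from k) (hj₀.from k'), XE.map_comp, ← Category.assoc,
    ← Category.assoc, lhsU_res, rhsU_res, Category.assoc, Category.assoc]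
  exact h

omit [IsCofiltered J] [∀ k, IsAffineHom (gE.app k)]
  [∀ {k l : J} (φ : k ⟶ l), IsAffineHom (XE.map φ)]
  [∀ k, CompactSpace (XE.obj k)] [∀ k, QuasiSeparatedSpace (XE.obj k)]
  [LocallyOfFinitePresentation (aE.app j₀)] in
/-- compatibility of the left side with the limit -/
lemma lhsU_compat : (Rcone gE aE hg ha).π.app k ≫
      lhsU (gE.app k) (aE.app k) (s.tau hcart) (s.tau_hom hcart) =
    lhsU g a t.τ t.τ_hom ≫ cX.π.app k := by
  change pbProj (hsg gE aE hg ha) hg k ≫ _ = _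
  rw [lhsU, lhsU, Category.assoc, s.tau_compat hcart, ← Category.assoc, ← Category.assoc]
  congr 1
  apply pullback.hom_ext
  · rw [Category.assoc, pullback.lift_fst, pbProj_fst_assoc, Category.assoc, pbProj_fst,
      pullback.lift_fst_assoc, Category.assoc, s.tau_compat hcart]
  · rw [Category.assoc, pullback.lift_snd, pbProj_snd, Category.assoc, pbProj_snd,
      pullback.lift_snd_assoc]

omit [IsCofiltered J] [∀ k, IsAffineHom (gE.app k)]
  [∀ {k l : J} (φ : k ⟶ l), IsAffineHom (XE.map φ)]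
  [∀ k, CompactSpace (XE.obj k)] [∀ k, QuasiSeparatedSpace (XE.obj k)]
  [LocallyOfFinitePresentation (aE.app j₀)] in
/-- compatibility of the right side with the limit -/
lemma rhsU_compat : (Rcone gE aE hg ha).π.app k ≫
      rhsU (gE.app k) (aE.app k) (s.tau hcart) =
    rhsU g a t.τ ≫ cX.π.app k := by
  change pbProj (hsg gE aE hg ha) hg k ≫ _ = _
  rw [rhsU, rhsU, Category.assoc, s.tau_compat hcart, ← Category.assoc, ← Category.assoc]
  congr 1
  apply pullback.hom_ext
  · rw [Category.assoc, pullback.lift_fst, pbProj_fst_assoc, Category.assoc, pbProj_fst,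
      pullback.lift_fst_assoc, Category.assoc]
  · rw [Category.assoc, pullback.lift_snd, pbProj_snd, Category.assoc, pbProj_snd,
      pullback.lift_snd_assoc]

include hcB hcE hcX in
/-- **Step C**: the cocycle condition holds at a further stage. -/
theorem exists_cocC : ∃ (k' : J) (φ : k' ⟶ k), (s.res φ).CocC hcart := by
  haveI : ∀ {k l : J} (φ : k ⟶ l), IsAffineHom ((QF gE aE).map φ) :=
    fun φ => isAffineHom_pbFunctor_map _ _ φ
  haveI : ∀ k, CompactSpace ((QF gE aE).obj k) := fun k => compactSpace_pbFunctor_obj _ _ k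
  haveI : ∀ k, QuasiSeparatedSpace ((QF gE aE).obj k) :=
    fun k => quasiSeparatedSpace_pbFunctor_obj _ _ k
  haveI : ∀ {k l : J} (φ : k ⟶ l), IsAffineHom ((RF gE aE).map φ) :=
    fun φ => isAffineHom_pbFunctor_map _ _ φ
  haveI : ∀ k, CompactSpace ((RF gE aE).obj k) := fun k => compactSpace_pbFunctor_obj _ _ k
  let tR : RF gE aE ⟶ (Functor.const J).obj (E.obj j₀) :=
    { app := fun k => pullback.snd (pullback.snd (aE.app k ≫ gE.app k) (gE.app k) ≫ gE.app k)
          (gE.app k) ≫ E.map (hj₀.from k)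
      naturality := fun k l φ => by
        rw [← Category.assoc, pbFunctor_map_snd, Category.assoc, ← E.map_comp,
          hj₀.hom_ext (φ ≫ hj₀.from l) (hj₀.from k)]
        simp }
  obtain ⟨k', φ, h⟩ := Scheme.exists_hom_comp_eq_comp_of_locallyOfFiniteType (RF gE aE) tR
    (aE.app j₀) (Rcone gE aE hg ha) (isLimitRcone gE aE hcB hcE hcX hg ha) (i := k)
    (lhsU (gE.app k) (aE.app k) (s.tau hcart) (s.tau_hom hcart) ≫ XE.map (hj₀.from k))
    (rhsU (gE.app k) (aE.app k) (s.tau hcart) ≫ XE.map (hj₀.from k))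
    (by
      change pullback.snd _ _ ≫ E.map (hj₀.from k) = _
      rw [Category.assoc, aE.naturality, ← Category.assoc, lhsU_hom])
    (by
      change pullback.snd _ _ ≫ E.map (hj₀.from k) = _
      rw [Category.assoc, aE.naturality, ← Category.assoc, rhsU_hom _ _ _ (s.tau_hom hcart)])
    (by
      rw [← Category.assoc, ← Category.assoc, s.lhsU_compat hcart, s.rhsU_compat hcart,
        t.lhsU_eq_rhsU])
  exact ⟨k', φ, s.cocC_res_of_eq hcart φ h⟩

omit [IsCofiltered J] [∀ k, IsAffineHom (gE.app k)]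
  [∀ {k l : J} (φ : k ⟶ l), IsAffineHom (XE.map φ)]
  [∀ k, CompactSpace (XE.obj k)] [∀ k, QuasiSeparatedSpace (XE.obj k)]
  [LocallyOfFinitePresentation (aE.app j₀)] in
/-- the descent datum at a stage where the conditions hold -/
noncomputable def tauData (h₁ : s.SelfC) (h₂ : s.CocC hcart) :
    TauData (gE.app k) (aE.app k) where
  τ := s.tau hcart
  τ_hom := s.tau_hom hcart
  self := s.self_of_selfC hcart h₁
  coc := fun v y₁ y₂ h₁ h₂' h₃ =>
    coc_of_eq (gE.app k) (aE.app k) (s.tau hcart) (s.tau_hom hcart) (s.lhsU_eq_of_cocC hcart h₂)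
      v y₁ y₂ h₁ h₂' h₃


end TauApx

end Steps

section Final

variable {J : Type u} [SmallCategory J] [IsCofiltered J] {j₀ : J} (hj₀ : IsTerminal j₀)
  {BS E XE : J ⥤ Scheme.{u}} (gE : E ⟶ BS) (aE : XE ⟶ E)
  {cB : Cone BS} {cE : Cone E} {cX : Cone XE}
  (hcB : IsLimit cB) (hcE : IsLimit cE) (hcX : IsLimit cX)
  {g : cE.pt ⟶ cB.pt} {a : cX.pt ⟶ cE.pt}
  (hg : ∀ k, cE.π.app k ≫ gE.app k = g ≫ cB.π.app k)
  (ha : ∀ k, cX.π.app k ≫ aE.app k = a ≫ cE.π.app k)
  (hcart : ∀ {k l : J} (φ : k ⟶ l), IsPullback (XE.map φ) (aE.app k) (aE.app l) (E.map φ))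
  [∀ k, IsAffineHom (gE.app k)] [∀ {k l : J} (φ : k ⟶ l), IsAffineHom (XE.map φ)]
  [∀ k, CompactSpace (XE.obj k)] [∀ k, QuasiSeparatedSpace (XE.obj k)]
  [LocallyOfFinitePresentation (aE.app j₀)]
  (t : TauData g a)

include hj₀ hcB hcE hcX hcart in
/-- **Approximation of a descent datum along a limit of morphisms.** -/
theorem exists_tauData_stage : ∃ (k : J) (T : TauData (gE.app k) (aE.app k)),
    t.τ ≫ cX.π.app k = pbProj (hag gE aE hg ha) hg k ≫ T.τ := by
  obtain ⟨k₁, ⟨s₁⟩⟩ := exists_tauApx hj₀ gE aE hcB hcE hcX hg ha t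
  obtain ⟨k₂, φ₂, h₂⟩ := s₁.exists_selfC hcX
  obtain ⟨k₃, φ₃, h₃⟩ := (s₁.res φ₂).exists_cocC hcB hcE hcX hcart
  exact ⟨k₃, ((s₁.res φ₂).res φ₃).tauData hcart (TauApx.SelfC.res _ h₂ φ₃) h₃,
    ((s₁.res φ₂).res φ₃).tau_compat hcart⟩

end Final

end Groth.Agent.H5.EtDesc
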