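import Mathlib
import Groth.Prelude.Def_Desc
import Groth.Prelude.Def_DescFam
import Groth.Prelude.Def_SGA1
import Groth.Agent.Lib.Helper5.EtDesc.EtZj

/-!
# Effectivity passes to limits of morphisms (towards S783)
-/

set_option autoImplicit false
set_option backward.isDefEq.respectTransparency false
set_option backward.isDefEq.respectTransparency.types false

universe u

open CategoryTheory CategoryTheory.Limits AlgebraicGeometry MorphismProperty

namespace Groth.Agent.H5.EtDesc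

section Transfer

variable {S S' S₀ S'₀ : Scheme.{u}} {g : S' ⟶ S} {D : Desc.SchDDFam (fun _ : PUnit.{1} => g)}
  {g₀ : S'₀ ⟶ S₀} {D₀ : Desc.SchDDFam (fun _ : PUnit.{1} => g₀)}
  {q : S ⟶ S₀} {r : S' ⟶ S'₀} (w₁ : r ≫ g₀ = g ≫ q)
  {rX : (D.obj PUnit.unit).left ⟶ (D₀.obj PUnit.unit).left}
  (sq₂ : IsPullback rX (D.obj PUnit.unit).hom (D₀.obj PUnit.unit).hom r)
  (compat : ∀ {T : Scheme.{u}} (y₀ y₁ : T ⟶ S') (h : y₀ ≫ g = y₁ ≫ g)
    (h' : (y₀ ≫ r) ≫ g₀ = (y₁ ≫ r) ≫ g₀)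
    (v : T ⟶ (D.obj PUnit.unit).left) (hv : v ≫ (D.obj PUnit.unit).hom = y₀)
    (hv' : (v ≫ rX) ≫ (D₀.obj PUnit.unit).hom = y₀ ≫ r),
    tr g D y₀ y₁ h v hv ≫ rX = tr g₀ D₀ (y₀ ≫ r) (y₁ ≫ r) h' (v ≫ rX) hv')
  {U₀ : Over S₀} (d₀ : Eff0Data g₀ D₀ U₀)

include w₁ in
lemma transfer_cond' {T : Scheme.{u}} (y : T ⟶ S') (u : T ⟶ pullback U₀.hom q)
    (h : y ≫ g = u ≫ pullback.snd U₀.hom q) :
    (y ≫ r) ≫ g₀ = (u ≫ pullback.fst U₀.hom q) ≫ U₀.hom := by
  rw [Category.assoc, w₁, reassoc_of% h, Category.assoc, pullback.condition]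

/-- the evaluation morphism of the base-changed realisation -/
noncomputable def transferEv' :
    pullback g (pullback.snd U₀.hom q) ⟶ (D.obj PUnit.unit).left :=
  sq₂.lift (d₀.pt (pullback.fst g (pullback.snd U₀.hom q) ≫ r)
      (pullback.snd g (pullback.snd U₀.hom q) ≫ pullback.fst U₀.hom q)
      (transfer_cond' w₁ _ _ pullback.condition))
    (pullback.fst g (pullback.snd U₀.hom q))
    (d₀.pt_hom _ _ _)

lemma transferEv'_rX : transferEv' w₁ sq₂ d₀ ≫ rX =
    d₀.pt (pullback.fst g (pullback.snd U₀.hom q) ≫ r)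
      (pullback.snd g (pullback.snd U₀.hom q) ≫ pullback.fst U₀.hom q)
      (transfer_cond' w₁ _ _ pullback.condition) := sq₂.lift_fst _ _ _

lemma transferEv'_hom : transferEv' w₁ sq₂ d₀ ≫ (D.obj PUnit.unit).hom =
    pullback.fst g (pullback.snd U₀.hom q) := sq₂.lift_snd _ _ _

lemma lift_transferEv'_rX {T : Scheme.{u}} (y : T ⟶ S') (u : T ⟶ pullback U₀.hom q)
    (h : y ≫ g = u ≫ pullback.snd U₀.hom q) :
    (pullback.lift y u h ≫ transferEv' w₁ sq₂ d₀) ≫ rX =
      d₀.pt (y ≫ r) (u ≫ pullback.fst U₀.hom q) (transfer_cond' w₁ y u h) := by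
  rw [Category.assoc, transferEv'_rX, d₀.pt_natural]
  exact d₀.pt_congr _ (by rw [← Category.assoc, pullback.lift_fst])
    (by rw [← Category.assoc, pullback.lift_snd])

include w₁ sq₂ in
lemma transfer_unpt_cond' :
    d₀.unpt rX ≫ U₀.hom = ((D.obj PUnit.unit).hom ≫ g) ≫ q := by
  rw [← d₀.unpt_hom (rX ≫ (D₀.obj PUnit.unit).hom) rX rfl, sq₂.w, Category.assoc, w₁,
    Category.assoc]

/-- the inverse of the evaluation morphism -/
noncomputable def transferInv' :
    (D.obj PUnit.unit).left ⟶ pullback g (pullback.snd U₀.hom q) :=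
  pullback.lift (D.obj PUnit.unit).hom
    (pullback.lift (d₀.unpt rX) ((D.obj PUnit.unit).hom ≫ g) (transfer_unpt_cond' w₁ sq₂ d₀))
    (by rw [pullback.lift_snd])

lemma transferInv'_ev : transferInv' w₁ sq₂ d₀ ≫ transferEv' w₁ sq₂ d₀ = 𝟙 _ := by
  apply sq₂.hom_ext
  · rw [Category.assoc, transferEv'_rX, d₀.pt_natural, Category.id_comp]
    refine (d₀.pt_congr (x' := rX ≫ (D₀.obj PUnit.unit).hom) (u' := d₀.unpt rX) _ ?_ ?_).trans
      (d₀.pt_unpt _ rX rfl)
    · rw [transferInv', ← Category.assoc, pullback.lift_fst, sq₂.w]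
    · rw [transferInv', ← Category.assoc, pullback.lift_snd, pullback.lift_fst]
  · rw [Category.assoc, transferEv'_hom, transferInv', pullback.lift_fst, Category.id_comp]

lemma transferEv'_inv : transferEv' w₁ sq₂ d₀ ≫ transferInv' w₁ sq₂ d₀ = 𝟙 _ := by
  apply pullback.hom_ext
  · rw [Category.assoc, transferInv', pullback.lift_fst, transferEv'_hom, Category.id_comp]
  · rw [Category.assoc, transferInv', pullback.lift_snd, Category.id_comp]
    apply pullback.hom_ext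
    · rw [Category.assoc, pullback.lift_fst, d₀.unpt_natural, transferEv'_rX, d₀.unpt_pt]
    · rw [Category.assoc, pullback.lift_snd, ← Category.assoc, transferEv'_hom,
        pullback.condition]

include compat in
/-- **Transfer of effectivity data along a commutative square** (base change and refinement at
once). -/
noncomputable def Eff0Data.ofCommSq : Eff0Data g D (Over.mk (pullback.snd U₀.hom q)) where
  ev := transferEv' w₁ sq₂ d₀
  ev_hom := transferEv'_hom w₁ sq₂ d₀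
  isIso := ⟨transferInv' w₁ sq₂ d₀, transferEv'_inv w₁ sq₂ d₀, transferInv'_ev w₁ sq₂ d₀⟩
  comm := by
    intro T x₀ x₁ u h₀ h₁
    have h₀' : x₀ ≫ g = u ≫ pullback.snd U₀.hom q := h₀
    have h₁' : x₁ ≫ g = u ≫ pullback.snd U₀.hom q := h₁
    have hev : (pullback.lift x₀ u h₀' ≫ transferEv' w₁ sq₂ d₀) ≫ (D.obj PUnit.unit).hom = x₀ := by
      rw [Category.assoc, transferEv'_hom, pullback.lift_fst]
    change tr g D x₀ x₁ (h₀'.trans h₁'.symm) (pullback.lift x₀ u h₀' ≫ transferEv' w₁ sq₂ d₀) hev =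
      pullback.lift x₁ u h₁' ≫ transferEv' w₁ sq₂ d₀
    apply sq₂.hom_ext
    · have hv' : ((pullback.lift x₀ u h₀' ≫ transferEv' w₁ sq₂ d₀) ≫ rX) ≫
          (D₀.obj PUnit.unit).hom = x₀ ≫ r := by
        rw [lift_transferEv'_rX, d₀.pt_hom]
      have hh' : (x₀ ≫ r) ≫ g₀ = (x₁ ≫ r) ≫ g₀ := by
        rw [transfer_cond' w₁ x₀ u h₀', transfer_cond' w₁ x₁ u h₁']
      rw [compat x₀ x₁ (h₀'.trans h₁'.symm) hh' _ hev hv', lift_transferEv'_rX w₁ sq₂ d₀ x₁ u h₁']
      refine (tr_congr g₀ D₀ _ _ rfl rfl (lift_transferEv'_rX w₁ sq₂ d₀ x₀ u h₀')).trans ?_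
      exact d₀.pt_comm (x₀ ≫ r) (x₁ ≫ r) (u ≫ pullback.fst U₀.hom q)
        (transfer_cond' w₁ x₀ u h₀') (transfer_cond' w₁ x₁ u h₁')
    · rw [tr_hom, Category.assoc, transferEv'_hom]
      exact (pullback.lift_fst _ _ _).symm

end Transfer

section LLThm

variable {J : Type u} [SmallCategory J] [IsCofiltered J] {j₀ : J} (hj₀ : IsTerminal j₀)
  {BS E XE : J ⥤ Scheme.{u}} (gE : E ⟶ BS) (aE : XE ⟶ E)
  {cB : Cone BS} {cE : Cone E}
  (hcB : IsLimit cB) (hcE : IsLimit cE)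
  {g : cE.pt ⟶ cB.pt} (D : Desc.SchDDFam (fun _ : PUnit.{1} => g))
  (πX : (Functor.const J).obj (D.obj PUnit.unit).left ⟶ XE)
  (hcX : IsLimit (Cone.mk (D.obj PUnit.unit).left πX))
  (hg : ∀ k, cE.π.app k ≫ gE.app k = g ≫ cB.π.app k)
  (ha : ∀ k, πX.app k ≫ aE.app k = (D.obj PUnit.unit).hom ≫ cE.π.app k)
  (hcart : ∀ {k l : J} (φ : k ⟶ l), IsPullback (XE.map φ) (aE.app k) (aE.app l) (E.map φ))
  (hcartc : ∀ k, IsPullback (πX.app k) (D.obj PUnit.unit).hom (aE.app k) (cE.π.app k))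
  [∀ k, IsAffineHom (gE.app k)] [∀ {k l : J} (φ : k ⟶ l), IsAffineHom (XE.map φ)]
  [∀ k, CompactSpace (XE.obj k)] [∀ k, QuasiSeparatedSpace (XE.obj k)]
  [LocallyOfFinitePresentation (aE.app j₀)]

include hj₀ hcB hcE hcX hg ha hcart hcartc in
/-- **Effectivity passes to limits of morphisms**: if `g = lim g_k` (not necessarily cartesian) and
`D` is a descent datum on a scheme which is a base change of schemes of finite presentation over the
`S'_k`, and all descent data on these relative to the `g_k` are effective, then `D` is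
effective. -/
theorem eff₀_of_limit
    (H : ∀ (k : J) (T : TauData (gE.app k) (aE.app k)), Eff₀ (gE.app k) (ddOfTau T)) :
    Eff₀ g D := by
  obtain ⟨k, T, hT⟩ := exists_tauData_stage hj₀ gE aE hcB hcE hcX hg ha hcart (tauOf g D)
  have hT' : tauMor g D ≫ πX.app k =
      pbProj (hag (cX := Cone.mk (D.obj PUnit.unit).left πX) gE aE hg ha) hg k ≫ T.τ := hT
  obtain ⟨U₀, hU₀, ⟨d₀⟩⟩ := eff₀_iff_eff0Data.mp (H k T)
  haveI := hU₀
  have sq₂ : IsPullback (πX.app k) (D.obj PUnit.unit).hom ((ddOfTau T).obj PUnit.unit).hom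
      (cE.π.app k) := hcartc k
  let d : Eff0Data g D (Over.mk (pullback.snd U₀.hom (cB.π.app k))) :=
    Eff0Data.ofCommSq (hg k) sq₂ (fun {T₀} y₀ y₁ h h' v hv hv' => by
      rw [tr_eq_tp, tr_ddOfTau]
      change (pullback.lift v y₁ _ ≫ tauMor g D) ≫ πX.app k =
        pullback.lift (v ≫ πX.app k) (y₁ ≫ cE.π.app k) _ ≫ T.τ
      rw [Category.assoc, hT', ← Category.assoc]
      congr 1
      apply pullback.hom_ext
      · rw [Category.assoc, pbProj_fst, pullback.lift_fst_assoc, pullback.lift_fst]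
      · rw [Category.assoc, pbProj_snd, pullback.lift_snd_assoc, pullback.lift_snd]) d₀
  haveI : Etale (Over.mk (pullback.snd U₀.hom (cB.π.app k))).hom :=
    inferInstanceAs (Etale (pullback.snd U₀.hom (cB.π.app k)))
  exact d.eff₀

end LLThm

end Groth.Agent.H5.EtDesc
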