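import Mathlib
import Groth.Prelude.Def_Desc
import Groth.Prelude.Def_DescFam
import Groth.Prelude.Def_SGA1
import Groth.Agent.Lib.Helper5.Lim.Model11
import Groth.Agent.Lib.Helper5.Lim.FGSub
import Groth.Agent.Lib.Helper5.Lim.DescendDiagonal
import Groth.Agent.Lib.Helper5.Lim.DescendProps
import Groth.Agent.Lib.Helper5.EtDesc.EtZk

/-!
# Effectivity passes to limits of morphisms: the version for systems (towards S783)
-/

set_option autoImplicit false
set_option backward.isDefEq.respectTransparency false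
set_option backward.isDefEq.respectTransparency.types false

universe u

open CategoryTheory CategoryTheory.Limits AlgebraicGeometry MorphismProperty

namespace Groth.Agent.H5.EtDesc

section ModelSep

variable {I : Type u} [SmallCategory I] [IsCofiltered I] {D : I ⥤ Scheme.{u}} {c : Cone D}
  [∀ (i j : I) (f : i ⟶ j), IsAffineHom (D.map f)]

/-- Separatedness of `h` descends to a base change of a model. -/
theorem _root_.Groth.Agent.H5.Lim.Model.exists_isSeparated (hc : IsLimit c) {T : Scheme.{u}}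
    {h : T ⟶ c.pt} {i : I} (M : Lim.Model D c h i) [CompactSpace (D.obj i)] [IsSeparated h] :
    ∃ (j : I) (φ : j ⟶ i), IsSeparated (M.bc φ).p := by
  haveI : CompactSpace M.Y := M.compactSpace_Y
  haveI : CompactSpace ↥(pullback M.p M.p) :=
    QuasiCompact.compactSpace_of_compactSpace (pullback.fst M.p M.p)
  have hY : IsPullback (c.π.app i) (𝟙 c.pt) (𝟙 (D.obj i)) (c.π.app i) :=
    haveI : IsIso (𝟙 c.pt) := inferInstance
    haveI : IsIso (𝟙 (D.obj i)) := inferInstance
    IsPullback.of_vert_isIso ⟨by simp⟩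
  have hP : MorphismProperty.diagonal @IsClosedImmersion h := by
    change IsClosedImmersion (pullback.diagonal h)
    infer_instance
  have h1 := Lim.descend_in (P := MorphismProperty.diagonal @IsClosedImmersion) D c M.p
    (𝟙 (D.obj i)) hY M.pb hP
  obtain ⟨k, hk⟩ := Lim.exists_descend_core_diagonal (P := @IsClosedImmersion) D c hc
    Lim.affineSystemDescent_isClosedImmersion i M.p (𝟙 _)
    ⟨inferInstance, inferInstance, inferInstance⟩ h1
  refine ⟨k.left, k.hom, ?_⟩
  have e : pullback.fst (𝟙 (D.obj i)) (D.map k.hom) =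
      pullback.snd (𝟙 (D.obj i)) (D.map k.hom) ≫ D.map k.hom := by
    rw [← pullback.condition, Category.comp_id]
  rw [Lim.bc_congr (P := MorphismProperty.diagonal @IsClosedImmersion) M.p e] at hk
  have hk' := (Lim.bc_iso_iff (P := MorphismProperty.diagonal @IsClosedImmersion) M.p
    (D.map k.hom) (pullback.snd (𝟙 (D.obj i)) (D.map k.hom))).mp hk
  have hk'' : IsClosedImmersion (pullback.diagonal (M.bc k.hom).p) := hk'
  exact ⟨hk''⟩

end ModelSep

section System

variable {J : Type u} [SmallCategory J] [IsCofiltered J] {BS E : J ⥤ Scheme.{u}} (gE : E ⟶ BS)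
  {cB : Cone BS} {cE : Cone E} (hcB : IsLimit cB) (hcE : IsLimit cE)
  [∀ (i j : J) (f : i ⟶ j), IsAffineHom (E.map f)]
  [∀ i, CompactSpace (E.obj i)] [∀ i, QuasiSeparatedSpace (E.obj i)]
  [∀ k, IsAffineHom (gE.app k)]
  {g : cE.pt ⟶ cB.pt} (hg : ∀ k, cE.π.app k ≫ gE.app k = g ≫ cB.π.app k)
  (D : Desc.SchDDFam (fun _ : PUnit.{1} => g)) [Etale (D.obj PUnit.unit).hom]
  [IsSeparated (D.obj PUnit.unit).hom] [QuasiCompact (D.obj PUnit.unit).hom]

include hcB hcE hg in
/-- **Effectivity of étale, separated, quasi-compact descent data passes to limits of morphisms**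
(the squares `g_k`/`g` need not be cartesian). -/
theorem eff₀_of_limit_system
    (H : ∀ (k : J) (Dk : Desc.SchDDFam (fun _ : PUnit.{1} => gE.app k))
      [Etale (Dk.obj PUnit.unit).hom] [IsSeparated (Dk.obj PUnit.unit).hom]
      [QuasiCompact (Dk.obj PUnit.unit).hom], Eff₀ (gE.app k) Dk) : Eff₀ g D := by
  have hEaff : ∀ {i j : J} (f : i ⟶ j), IsAffineHom (E.map f) := fun f => inferInstance
  -- a model of the object of the descent datum
  obtain ⟨j, ⟨M⟩⟩ := Lim.exists_model E cE hcE (D.obj PUnit.unit).hom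
  obtain ⟨j₁, φ₁, h₁⟩ := M.exists_property hcE Lim.affineSystemDescent_etale
    ⟨inferInstance, inferInstance, inferInstance⟩
    (inferInstanceAs (Etale (D.obj PUnit.unit).hom))
  obtain ⟨j₀, φ₂, h₂⟩ := (M.bc φ₁).exists_isSeparated hcE
  let M₀ := (M.bc φ₁).bc φ₂
  haveI : Etale M₀.p := by
    haveI : Etale (M.bc φ₁).p := h₁
    exact inferInstanceAs (Etale (pullback.snd (M.bc φ₁).p (E.map φ₂)))
  haveI : IsSeparated M₀.p := h₂
  haveI : CompactSpace M₀.Y := M₀.compactSpace_Y
  haveI : QuasiSeparatedSpace M₀.Y := M₀.quasiSeparatedSpace_Y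
  -- the systems over `j₀`
  let F : Over j₀ ⥤ J := Over.forget j₀
  let gE' : F ⋙ E ⟶ F ⋙ BS := Functor.whiskerLeft F gE
  let aE' : Lim.bcDiagram E M₀.p ⟶ F ⋙ E := Lim.bcDiagramι E M₀.p
  let πX : (Functor.const (Over j₀)).obj (D.obj PUnit.unit).left ⟶ Lim.bcDiagram E M₀.p :=
    { app := fun k => (M₀.bc k.hom).g
      naturality := fun k l φ => by
        change 𝟙 _ ≫ (M₀.bc l.hom).g = (M₀.bc k.hom).g ≫ Lim.bcMap E M₀.p φ
        rw [Category.id_comp]
        apply pullback.hom_ext
        · rw [Category.assoc, Lim.bcMap_fst]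
          exact (pullback.lift_fst _ _ _).trans (pullback.lift_fst _ _ _).symm
        · rw [Category.assoc, Lim.bcMap_snd]
          refine (pullback.lift_snd _ _ _).trans ?_
          rw [← Category.assoc]
          refine Eq.trans ?_ (congrArg (· ≫ E.map φ.left) (pullback.lift_snd _ _ _).symm)
          rw [Category.assoc]
          exact congrArg ((D.obj PUnit.unit).hom ≫ ·) (cE.w φ.left).symm }
  have hcX : IsLimit (Cone.mk (D.obj PUnit.unit).left πX) := by
    refine IsLimit.ofIsoLimit (Lim.isLimitBcCone E cE M₀.p hcE)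
      (Cones.ext M₀.pb.isoPullback.symm (fun k => ?_))
    change Lim.bcProj E cE M₀.p k = M₀.pb.isoPullback.inv ≫ (M₀.bc k.hom).g
    apply pullback.hom_ext
    · rw [Lim.bcProj_fst, Category.assoc]
      refine Eq.trans ?_ (congrArg (M₀.pb.isoPullback.inv ≫ ·) (pullback.lift_fst _ _ _).symm)
      exact (M₀.pb.isoPullback_inv_fst).symm
    · rw [Lim.bcProj_snd, Category.assoc]
      refine Eq.trans ?_ (congrArg (M₀.pb.isoPullback.inv ≫ ·) (pullback.lift_snd _ _ _).symm)
      rw [← Category.assoc, M₀.pb.isoPullback_inv_snd]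
  have hcB' : IsLimit (cB.whisker F) := (Functor.Initial.isLimitWhiskerEquiv F cB).symm hcB
  have hcE' : IsLimit (cE.whisker F) := (Functor.Initial.isLimitWhiskerEquiv F cE).symm hcE
  haveI : ∀ k : Over j₀, IsAffineHom (gE'.app k) := fun k =>
    inferInstanceAs (IsAffineHom (gE.app k.left))
  haveI : ∀ {k l : Over j₀} (φ : k ⟶ l), IsAffineHom ((Lim.bcDiagram E M₀.p).map φ) :=
    fun φ => Lim.isAffineHom_bcMap E M₀.p φ (hEaff _)
  haveI : ∀ k : Over j₀, CompactSpace ((Lim.bcDiagram E M₀.p).obj k) :=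
    fun k => Lim.compactSpace_bcDiagram_obj E M₀.p k (hEaff _)
  haveI : ∀ k : Over j₀, QuasiSeparatedSpace ((Lim.bcDiagram E M₀.p).obj k) :=
    fun k => Lim.quasiSeparatedSpace_bcDiagram_obj E M₀.p k (hEaff _)
  haveI : LocallyOfFinitePresentation (aE'.app (Over.mk (𝟙 j₀))) :=
    inferInstanceAs (LocallyOfFinitePresentation (pullback.snd M₀.p (E.map (𝟙 j₀))))
  refine eff₀_of_limit (j₀ := Over.mk (𝟙 j₀)) Over.mkIdTerminal gE' aE' hcB' hcE' D πX hcX
    (fun k => hg k.left) (fun k => (M₀.bc k.hom).pb.w)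
    (fun φ => Lim.isPullback_bcMap E M₀.p φ) (fun k => (M₀.bc k.hom).pb) ?_
  intro k T
  haveI : Etale ((ddOfTau T).obj PUnit.unit).hom :=
    inferInstanceAs (Etale (pullback.snd M₀.p (E.map k.hom)))
  haveI : IsSeparated ((ddOfTau T).obj PUnit.unit).hom :=
    inferInstanceAs (IsSeparated (pullback.snd M₀.p (E.map k.hom)))
  haveI : QuasiCompact ((ddOfTau T).obj PUnit.unit).hom :=
    inferInstanceAs (QuasiCompact (pullback.snd M₀.p (E.map k.hom)))
  exact H k.left (ddOfTau T)

end System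

end Groth.Agent.H5.EtDesc
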