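import Mathlib

/-!
# An integral ring map as a filtered colimit of finite maps of f.g. `ℤ`-algebras (towards S783)
-/

set_option autoImplicit false

universe u

open CategoryTheory CategoryTheory.Limits AlgebraicGeometry Opposite

namespace Groth.Agent.H5.EtDesc

section IntCl

variable {R B : Type u} [CommRing R] [CommRing B] (f : R →+* B)

/-- the elements integral over `R` via `f`, as a `ℤ`-subalgebra -/
def intCl : Subalgebra ℤ B where
  carrier := {b | f.IsIntegralElem b}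
  mul_mem' ha hb := RingHom.IsIntegralElem.mul f ha hb
  one_mem' := by
    have := f.isIntegralElem_map (x := 1)
    rwa [map_one] at this
  add_mem' ha hb := RingHom.IsIntegralElem.add f ha hb
  zero_mem' := by
    have := f.isIntegralElem_map (x := 0)
    rwa [map_zero] at this
  algebraMap_mem' n := by
    have := f.isIntegralElem_map (x := (n : R))
    rwa [map_intCast] at this

lemma mem_intCl {b : B} : b ∈ intCl f ↔ f.IsIntegralElem b := Iff.rfl

end IntCl

section IPair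

variable {A B : Type u} [CommRing A] [CommRing B] (φ : A →+* B)

/-- pairs of f.g. `ℤ`-subalgebras `A₀ ⊆ A`, `B₀ ⊆ B` with `φ A₀ ⊆ B₀` and `B₀` integral over
`A₀` -/
structure IPair where
  A₀ : Subalgebra ℤ A
  B₀ : Subalgebra ℤ B
  hA : A₀.FG
  hB : B₀.FG
  hle : ∀ a ∈ A₀, φ a ∈ B₀
  hint : ∀ b ∈ B₀, (φ.comp (algebraMap ↥A₀ A)).IsIntegralElem b

variable {φ}

instance : Preorder (IPair φ) where
  le P Q := P.A₀ ≤ Q.A₀ ∧ P.B₀ ≤ Q.B₀
  le_refl P := ⟨le_rfl, le_rfl⟩
  le_trans P Q R h h' := ⟨h.1.trans h'.1, h.2.trans h'.2⟩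

lemma IPair.le_def {P Q : IPair φ} : P ≤ Q ↔ P.A₀ ≤ Q.A₀ ∧ P.B₀ ≤ Q.B₀ := Iff.rfl

lemma isIntegralElem_mono {A₀ A₁ : Subalgebra ℤ A} (h : A₀ ≤ A₁) {b : B}
    (hb : (φ.comp (algebraMap ↥A₀ A)).IsIntegralElem b) :
    (φ.comp (algebraMap ↥A₁ A)).IsIntegralElem b := by
  have e : φ.comp (algebraMap ↥A₀ A) =
      (φ.comp (algebraMap ↥A₁ A)).comp (Subalgebra.inclusion h).toRingHom := by
    ext x; rfl
  rw [e] at hb
  exact hb.of_comp

variable (φ) in
lemma map_le_of_hle {A₀ : Subalgebra ℤ A} {B₀ : Subalgebra ℤ B} (h : ∀ a ∈ A₀, φ a ∈ B₀) :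
    A₀.map φ.toIntAlgHom ≤ B₀ := by
  rintro _ ⟨a, ha, rfl⟩
  exact h a ha

/-- the supremum of two pairs -/
def IPair.sup (P Q : IPair φ) : IPair φ where
  A₀ := P.A₀ ⊔ Q.A₀
  B₀ := P.B₀ ⊔ Q.B₀
  hA := P.hA.sup Q.hA
  hB := P.hB.sup Q.hB
  hle a ha := by
    have h1 : (P.A₀ ⊔ Q.A₀).map φ.toIntAlgHom ≤ P.B₀ ⊔ Q.B₀ := by
      rw [Algebra.map_sup]
      exact sup_le_sup (map_le_of_hle φ P.hle) (map_le_of_hle φ Q.hle)
    exact h1 ⟨a, ha, rfl⟩
  hint b hb := by
    have h1 : P.B₀ ⊔ Q.B₀ ≤ intCl (φ.comp (algebraMap ↥(P.A₀ ⊔ Q.A₀) A)) :=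
      sup_le (fun b hb => isIntegralElem_mono le_sup_left (P.hint b hb))
        (fun b hb => isIntegralElem_mono le_sup_right (Q.hint b hb))
    exact h1 hb

variable (φ) in
/-- the pair generated by a f.g. subalgebra of `A` -/
def IPair.ofFG (A₀ : Subalgebra ℤ A) (h : A₀.FG) : IPair φ where
  A₀ := A₀
  B₀ := A₀.map φ.toIntAlgHom
  hA := h
  hB := h.map _
  hle a ha := ⟨a, ha, rfl⟩
  hint := by
    rintro _ ⟨a, ha, rfl⟩
    exact (φ.comp (algebraMap ↥A₀ A)).isIntegralElem_map (x := ⟨a, ha⟩)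

instance : Nonempty (IPair φ) := ⟨IPair.ofFG φ ⊥ Subalgebra.fg_bot⟩

instance : IsDirected (IPair φ) (· ≤ ·) :=
  ⟨fun P Q => ⟨P.sup Q, ⟨le_sup_left, le_sup_left⟩, ⟨le_sup_right, le_sup_right⟩⟩⟩

variable (φ) in
lemma exists_pair_mem_A (a : A) : ∃ P : IPair φ, a ∈ P.A₀ := by
  have hfg : (Algebra.adjoin ℤ ({a} : Set A)).FG := by
    have := Subalgebra.fg_adjoin_finset (R := ℤ) ({a} : Finset A)
    simpa using this
  exact ⟨IPair.ofFG φ _ hfg, Algebra.subset_adjoin (Set.mem_singleton a)⟩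

variable (φ) in
lemma exists_pair_mem_B (hφ : φ.IsIntegral) (b : B) : ∃ P : IPair φ, b ∈ P.B₀ := by
  obtain ⟨p, hp, hpb⟩ := hφ b
  have hA : (Algebra.adjoin ℤ ((p.coeffs : Finset A) : Set A)).FG :=
    Subalgebra.fg_adjoin_finset _
  have hb : (Algebra.adjoin ℤ ({b} : Set B)).FG := by
    have := Subalgebra.fg_adjoin_finset (R := ℤ) ({b} : Finset B)
    simpa using this
  let A₀ : Subalgebra ℤ A := Algebra.adjoin ℤ ((p.coeffs : Finset A) : Set A)
  have hlift : p ∈ Polynomial.lifts (algebraMap ↥A₀ A) := by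
    rw [Polynomial.lifts_iff_coeff_lifts]
    intro n
    by_cases h0 : p.coeff n = 0
    · rw [h0]; exact ⟨0, map_zero _⟩
    · have : p.coeff n ∈ A₀ :=
        Algebra.subset_adjoin (Polynomial.coeff_mem_coeffs h0)
      exact ⟨⟨p.coeff n, this⟩, rfl⟩
  obtain ⟨q, hq, -, hqm⟩ := Polynomial.lifts_and_natDegree_eq_and_monic hlift hp
  have hbint : (φ.comp (algebraMap ↥A₀ A)).IsIntegralElem b := by
    refine ⟨q, hqm, ?_⟩
    rw [← Polynomial.eval₂_map, hq]
    exact hpb
  refine ⟨{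
    A₀ := A₀
    B₀ := A₀.map φ.toIntAlgHom ⊔ Algebra.adjoin ℤ ({b} : Set B)
    hA := hA
    hB := (hA.map _).sup hb
    hle := fun a ha => (le_sup_left : A₀.map φ.toIntAlgHom ≤ _) ⟨a, ha, rfl⟩
    hint := fun b' hb' => by
      have h1 : A₀.map φ.toIntAlgHom ⊔ Algebra.adjoin ℤ ({b} : Set B) ≤
          intCl (φ.comp (algebraMap ↥A₀ A)) := by
        refine sup_le ?_ (Algebra.adjoin_le ?_)
        · rintro _ ⟨a, ha, rfl⟩
          exact (φ.comp (algebraMap ↥A₀ A)).isIntegralElem_map (x := ⟨a, ha⟩)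
        · intro x hx
          rw [Set.mem_singleton_iff] at hx
          subst hx
          exact hbint
      exact h1 hb' }, ?_⟩
  exact (le_sup_right : Algebra.adjoin ℤ ({b} : Set B) ≤ _)
    (Algebra.subset_adjoin (Set.mem_singleton b))

end IPair

section Functors

variable {A B : Type u} [CommRing A] [CommRing B] (φ : A →+* B)

/-- the system of the `A₀` -/
noncomputable def ipA : IPair φ ⥤ CommRingCat.{u} where
  obj P := CommRingCat.of ↥P.A₀
  map {P Q} h := CommRingCat.ofHom (Subalgebra.inclusion (leOfHom h).1).toRingHom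
  map_id P := by ext; rfl
  map_comp h h' := by ext; rfl

/-- the system of the `B₀` -/
noncomputable def ipB : IPair φ ⥤ CommRingCat.{u} where
  obj P := CommRingCat.of ↥P.B₀
  map {P Q} h := CommRingCat.ofHom (Subalgebra.inclusion (leOfHom h).2).toRingHom
  map_id P := by ext; rfl
  map_comp h h' := by ext; rfl

variable {φ} in
/-- the restriction of `φ` to a pair -/
def IPair.hom (P : IPair φ) : ↥P.A₀ →+* ↥P.B₀ :=
  (φ.comp (algebraMap ↥P.A₀ A)).codRestrict P.B₀ (fun x => P.hle x x.2)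

variable {φ} in
lemma IPair.hom_apply (P : IPair φ) (x : ↥P.A₀) : ((P.hom x : ↥P.B₀) : B) = φ (x : A) := rfl

/-- the restrictions of `φ`, as a natural transformation -/
noncomputable def ipHom : ipA φ ⟶ ipB φ where
  app P := CommRingCat.ofHom P.hom
  naturality P Q h := by ext x; rfl

/-- the cocone of inclusions into `A` -/
noncomputable def ipACocone : Cocone (ipA φ) where
  pt := CommRingCat.of A
  ι :=
    { app := fun P => CommRingCat.ofHom (algebraMap (↥P.A₀) A)
      naturality := fun P Q h => by ext; rfl }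

/-- the cocone of inclusions into `B` -/
noncomputable def ipBCocone : Cocone (ipB φ) where
  pt := CommRingCat.of B
  ι :=
    { app := fun P => CommRingCat.ofHom (algebraMap (↥P.B₀) B)
      naturality := fun P Q h => by ext; rfl }

lemma ipCocone_comm (P : IPair φ) :
    (ipACocone φ).ι.app P ≫ CommRingCat.ofHom φ = (ipHom φ).app P ≫ (ipBCocone φ).ι.app P := by
  ext x; rfl

noncomputable def isColimitIpACocone : IsColimit (ipACocone φ) := by
  haveI : PreservesColimitsOfShape (IPair φ) (forget CommRingCat.{u}) :=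
    PreservesFilteredColimitsOfSize.preserves_filtered_colimits (IPair φ)
  haveI : ReflectsColimit (ipA φ) (forget CommRingCat) :=
    reflectsColimit_of_reflectsIsomorphisms _ _
  apply isColimitOfReflects (forget CommRingCat)
  refine Types.FilteredColimit.isColimitOf' _ _ ?_ ?_
  · intro (x : A)
    obtain ⟨P, hP⟩ := exists_pair_mem_A φ x
    exact ⟨P, ⟨x, hP⟩, rfl⟩
  · intro j x y hxy
    exact ⟨j, 𝟙 j, by
      have : x = y := Subtype.ext hxy
      rw [this]⟩

noncomputable def isColimitIpBCocone (hφ : φ.IsIntegral) : IsColimit (ipBCocone φ) := by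
  haveI : PreservesColimitsOfShape (IPair φ) (forget CommRingCat.{u}) :=
    PreservesFilteredColimitsOfSize.preserves_filtered_colimits (IPair φ)
  haveI : ReflectsColimit (ipB φ) (forget CommRingCat) :=
    reflectsColimit_of_reflectsIsomorphisms _ _
  apply isColimitOfReflects (forget CommRingCat)
  refine Types.FilteredColimit.isColimitOf' _ _ ?_ ?_
  · intro (x : B)
    obtain ⟨P, hP⟩ := exists_pair_mem_B φ hφ x
    exact ⟨P, ⟨x, hP⟩, rfl⟩
  · intro j x y hxy
    exact ⟨j, 𝟙 j, by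
      have : x = y := Subtype.ext hxy
      rw [this]⟩

end Functors

section Stage

variable {A B : Type u} [CommRing A] [CommRing B] {φ : A →+* B} (P : IPair φ)

lemma IPair.hom_isIntegral : P.hom.IsIntegral := by
  intro y
  obtain ⟨q, hq, hq0⟩ := P.hint y.1 y.2
  refine ⟨q, hq, ?_⟩
  apply Subtype.ext
  have e : (P.B₀.subtype : ↥P.B₀ →+* B).comp P.hom = φ.comp (algebraMap ↥P.A₀ A) := by
    ext x; rfl
  have h1 := Polynomial.hom_eval₂ q P.hom (P.B₀.subtype : ↥P.B₀ →+* B) y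
  rw [e] at h1
  change (P.B₀.subtype : ↥P.B₀ →+* B) (Polynomial.eval₂ P.hom y q) = (0 : B)
  rw [h1]
  exact hq0

lemma IPair.hom_finiteType : P.hom.FiniteType := by
  haveI : Algebra.FiniteType ℤ ↥P.B₀ := (Subalgebra.fg_iff_finiteType P.B₀).mp P.hB
  have h1 : (algebraMap ℤ ↥P.B₀).FiniteType := by
    rw [RingHom.finiteType_algebraMap]
    infer_instance
  have e : algebraMap ℤ ↥P.B₀ = P.hom.comp (algebraMap ℤ ↥P.A₀) := RingHom.ext_int _ _
  rw [e] at h1
  exact RingHom.FiniteType.of_comp_finiteType h1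

lemma IPair.hom_finite : P.hom.Finite :=
  RingHom.IsIntegral.to_finite P.hom_isIntegral P.hom_finiteType

lemma IPair.isNoetherianRing_A : IsNoetherianRing ↥P.A₀ := by
  haveI : Algebra.FiniteType ℤ ↥P.A₀ := (Subalgebra.fg_iff_finiteType P.A₀).mp P.hA
  exact Algebra.FiniteType.isNoetherianRing ℤ ↥P.A₀

/-- an integral ring map with nil kernel is surjective on spectra -/
lemma comap_surjective_of_isIntegral_of_nil {R S : Type u} [CommRing R] [CommRing S]
    (f : R →+* S) (hf : f.IsIntegral) (hker : ∀ x, f x = 0 → IsNilpotent x) :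
    Function.Surjective (PrimeSpectrum.comap f) := by
  intro ⟨p, hp⟩
  algebraize [f]
  haveI : Algebra.IsIntegral R S := ⟨hf⟩
  have hle : (⊥ : Ideal S).comap (algebraMap R S) ≤ p := by
    intro x hx
    have hx0 : f x = 0 := by
      have h2 : algebraMap R S x = 0 := by simpa using hx
      exact h2
    obtain ⟨n, hn⟩ := hker x hx0
    exact hp.mem_of_pow_mem n (hn ▸ p.zero_mem)
  obtain ⟨Q, -, hQ, hQp⟩ := Ideal.exists_ideal_over_prime_of_isIntegral p (⊥ : Ideal S) hle
  exact ⟨⟨Q, hQ⟩, PrimeSpectrum.ext hQp⟩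

lemma IPair.comap_surjective (hker : ∀ a, φ a = 0 → IsNilpotent a) :
    Function.Surjective (PrimeSpectrum.comap P.hom) := by
  refine comap_surjective_of_isIntegral_of_nil P.hom P.hom_isIntegral ?_
  intro x hx
  have h0 : φ (x : A) = 0 := by
    have h2 : ((P.hom x : ↥P.B₀) : B) = ((0 : ↥P.B₀) : B) := congrArg Subtype.val hx
    rw [P.hom_apply] at h2
    exact h2
  obtain ⟨n, hn⟩ := hker _ h0
  exact ⟨n, Subtype.ext (by simpa using hn)⟩

end Stage

end Groth.Agent.H5.EtDesc
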