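import Mathlib
import Groth.Prelude.Def_Desc
import Groth.Prelude.Def_DescFam
import Groth.Prelude.Def_SGA1
import Groth.Agent.Lib.Helper5.EtDesc.EtZl
import Groth.Agent.Lib.Helper5.EtDesc.EtZm
import Groth.Agent.Lib.Helper5.EtDesc.EtZd
import Groth.Agent.Lib.Helper5.EtDesc.EtZe

/-!
# Effectivity of étale descent data along integral surjective morphisms (S783)
-/

set_option autoImplicit false
set_option backward.isDefEq.respectTransparency false
set_option backward.isDefEq.respectTransparency.types false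

universe u

open CategoryTheory CategoryTheory.Limits AlgebraicGeometry MorphismProperty Opposite

namespace Groth.Agent.H5.EtDesc

section Sys

variable {A B : Type u} [CommRing A] [CommRing B] (φ : A →+* B)

/-- the system `Spec A₀` -/
noncomputable def ipBS : (IPair φ)ᵒᵖ ⥤ Scheme.{u} := (ipA φ).op ⋙ Scheme.Spec

/-- the system `Spec B₀` -/
noncomputable def ipE : (IPair φ)ᵒᵖ ⥤ Scheme.{u} := (ipB φ).op ⋙ Scheme.Spec

/-- the morphisms `Spec B₀ ⟶ Spec A₀` -/
noncomputable def ipgE : ipE φ ⟶ ipBS φ :=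
  Functor.whiskerRight (NatTrans.op (ipHom φ)) Scheme.Spec

lemma ipgE_app (k : (IPair φ)ᵒᵖ) :
    (ipgE φ).app k = Spec.map (CommRingCat.ofHom k.unop.hom) := rfl

/-- the cone with vertex `Spec A` -/
noncomputable def ipBSCone : Cone (ipBS φ) := Scheme.Spec.mapCone (ipACocone φ).op

/-- the cone with vertex `Spec B` -/
noncomputable def ipECone : Cone (ipE φ) := Scheme.Spec.mapCone (ipBCocone φ).op

noncomputable def isLimitIpBSCone : IsLimit (ipBSCone φ) :=
  isLimitOfPreserves Scheme.Spec (isColimitIpACocone φ).op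

noncomputable def isLimitIpECone (hφ : φ.IsIntegral) : IsLimit (ipECone φ) :=
  isLimitOfPreserves Scheme.Spec (isColimitIpBCocone φ hφ).op

lemma ipBSCone_π_app (k : (IPair φ)ᵒᵖ) :
    (ipBSCone φ).π.app k = Spec.map (CommRingCat.ofHom (algebraMap (↥k.unop.A₀) A)) := rfl

lemma ipECone_π_app (k : (IPair φ)ᵒᵖ) :
    (ipECone φ).π.app k = Spec.map (CommRingCat.ofHom (algebraMap (↥k.unop.B₀) B)) := rfl

instance (S T : (IPair φ)ᵒᵖ) (f : S ⟶ T) : IsAffineHom ((ipE φ).map f) :=
  inferInstanceAs (IsAffineHom (Spec.map _))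

instance (S : (IPair φ)ᵒᵖ) : CompactSpace ((ipE φ).obj S) :=
  inferInstanceAs (CompactSpace (Spec _))

instance (S : (IPair φ)ᵒᵖ) : QuasiSeparatedSpace ((ipE φ).obj S) :=
  inferInstanceAs (QuasiSeparatedSpace (Spec _))

instance (k : (IPair φ)ᵒᵖ) : IsAffineHom ((ipgE φ).app k) :=
  inferInstanceAs (IsAffineHom (Spec.map _))

lemma ip_hg (k : (IPair φ)ᵒᵖ) :
    (ipECone φ).π.app k ≫ (ipgE φ).app k =
      Spec.map (CommRingCat.ofHom φ) ≫ (ipBSCone φ).π.app k := by
  rw [ipECone_π_app, ipBSCone_π_app, ipgE_app, ← Spec.map_comp, ← Spec.map_comp]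
  exact congrArg Spec.map (ipCocone_comm φ k.unop).symm

end Sys

section Affine

variable {A B : Type u} [CommRing A] [CommRing B] (φ : A →+* B)

lemma nil_of_surjective (h : Surjective (Spec.map (CommRingCat.ofHom φ))) (a : A)
    (ha : φ a = 0) : IsNilpotent a := by
  rw [← mem_nilradical, nilradical_eq_sInf, Ideal.mem_sInf]
  intro p hp
  obtain ⟨q, hq⟩ := h.surj ⟨p, hp⟩
  have hq' : PrimeSpectrum.comap φ q = ⟨p, hp⟩ := hq
  have h1 : a ∈ (PrimeSpectrum.comap φ q).asIdeal := by
    change φ a ∈ q.asIdeal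
    rw [ha]
    exact q.asIdeal.zero_mem
  rw [hq'] at h1
  exact h1

/-- **S783 over an affine base.** -/
theorem eff₀_of_integral_surjective_affine (hφ : φ.IsIntegral)
    [Surjective (Spec.map (CommRingCat.ofHom φ))]
    (D : Desc.SchDDFam (fun _ : PUnit.{1} => Spec.map (CommRingCat.ofHom φ)))
    [Etale (D.obj PUnit.unit).hom] [IsSeparated (D.obj PUnit.unit).hom]
    [QuasiCompact (D.obj PUnit.unit).hom] : Eff₀ (Spec.map (CommRingCat.ofHom φ)) D := by
  have hker := nil_of_surjective φ inferInstance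
  let g' : (ipECone φ).pt ⟶ (ipBSCone φ).pt := Spec.map (CommRingCat.ofHom φ)
  let D' : Desc.SchDDFam (fun _ : PUnit.{1} => g') := D
  haveI : Etale (D'.obj PUnit.unit).hom := ‹Etale (D.obj PUnit.unit).hom›
  haveI : IsSeparated (D'.obj PUnit.unit).hom := ‹IsSeparated (D.obj PUnit.unit).hom›
  haveI : QuasiCompact (D'.obj PUnit.unit).hom := ‹QuasiCompact (D.obj PUnit.unit).hom›
  refine eff₀_of_limit_system (ipgE φ) (isLimitIpBSCone φ) (isLimitIpECone φ hφ) (g := g')
    (ip_hg φ) D' ?_
  intro k Dk _ _ _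
  haveI : IsNoetherianRing ↥k.unop.A₀ := k.unop.isNoetherianRing_A
  haveI : IsLocallyNoetherian ((ipBS φ).obj k) :=
    inferInstanceAs (IsLocallyNoetherian (Spec (CommRingCat.of ↥k.unop.A₀)))
  haveI : IsFinite ((ipgE φ).app k) := by
    rw [ipgE_app, IsFinite.SpecMap_iff]
    exact k.unop.hom_finite
  haveI : Surjective ((ipgE φ).app k) := by
    rw [ipgE_app]
    exact ⟨k.unop.comap_surjective hker⟩
  exact eff₀_main ((ipgE φ).app k) (univSubmersive_of_universallyClosed_of_surjective _) Dk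

end Affine

section General

/-- **S783 for morphisms of affine spectra.** -/
theorem eff₀_of_integral_surjective_spec {R' B' : CommRingCat.{u}} (g : Spec B' ⟶ Spec R')
    [IsIntegralHom g] [Surjective g] (D : Desc.SchDDFam (fun _ : PUnit.{1} => g))
    [Etale (D.obj PUnit.unit).hom] [IsSeparated (D.obj PUnit.unit).hom]
    [QuasiCompact (D.obj PUnit.unit).hom] : Eff₀ g D := by
  obtain ⟨ψ, rfl⟩ := Spec.map_surjective g
  have hψ : ψ.hom.IsIntegral := IsIntegralHom.SpecMap_iff.mp inferInstance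
  haveI : Surjective (Spec.map (CommRingCat.ofHom ψ.hom)) := ‹Surjective (Spec.map ψ)›
  exact eff₀_of_integral_surjective_affine ψ.hom hψ D

/-- **S783 in terms of `Eff₀`.** -/
theorem eff₀_of_integral_surjective {S X : Scheme.{u}} (p : X ⟶ S) [Surjective p]
    [IsIntegralHom p] (D : Desc.SchDDFam (fun _ : PUnit.{1} => p))
    [Etale (D.obj PUnit.unit).hom] [IsSeparated (D.obj PUnit.unit).hom]
    [QuasiCompact (D.obj PUnit.unit).hom] : Eff₀ p D := by
  have hp : SGA1.UnivSubmersive p := univSubmersive_of_universallyClosed_of_surjective p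
  rw [eff₀_iff_stalk hp]
  intro a
  change Eff₀ (pullback.snd p (S.fromSpecStalk a)) (pullD p D (S.fromSpecStalk a))
  haveI : IsAffine (pullback p (S.fromSpecStalk a)) :=
    isAffine_of_isAffineHom (pullback.snd p (S.fromSpecStalk a))
  let h := (pullback p (S.fromSpecStalk a)).isoSpec.inv
  have hsub : SGA1.UnivSubmersive (h ≫ pullback.snd p (S.fromSpecStalk a)) :=
    univSubmersive_of_universallyClosed_of_surjective _
  refine eff₀_of_refine (pullback.snd p (S.fromSpecStalk a)) h
    (pullD p D (S.fromSpecStalk a)) hsub ?_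
  haveI : Etale ((refD (pullback.snd p (S.fromSpecStalk a)) h
      (pullD p D (S.fromSpecStalk a))).obj PUnit.unit).hom := by
    change Etale (pullback.snd ((pullD p D (S.fromSpecStalk a)).obj PUnit.unit).hom h)
    infer_instance
  haveI : IsSeparated ((refD (pullback.snd p (S.fromSpecStalk a)) h
      (pullD p D (S.fromSpecStalk a))).obj PUnit.unit).hom := by
    change IsSeparated (pullback.snd ((pullD p D (S.fromSpecStalk a)).obj PUnit.unit).hom h)
    infer_instance
  haveI : QuasiCompact ((refD (pullback.snd p (S.fromSpecStalk a)) h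
      (pullD p D (S.fromSpecStalk a))).obj PUnit.unit).hom := by
    change QuasiCompact (pullback.snd ((pullD p D (S.fromSpecStalk a)).obj PUnit.unit).hom h)
    infer_instance
  exact eff₀_of_integral_surjective_spec _ _

/-- **S783**. -/
theorem main_S783 {X S : Scheme.{u}} (p : X ⟶ S) [Surjective p] [IsIntegralHom p]
    (D : Desc.SchDD p) [QuasiCompact D.obj.hom] [IsSeparated D.obj.hom] [Etale D.obj.hom] :
    ∃ U : Over S, QuasiCompact U.hom ∧ IsSeparated U.hom ∧ Etale U.hom ∧
      Nonempty ((Desc.toDD p).obj U ≅ D) := by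
  have hp : SGA1.UnivSubmersive p := univSubmersive_of_universallyClosed_of_surjective p
  let D' : Desc.SchDDFam (fun _ : PUnit.{1} => p) := (Desc.SchDDFam.ofSchDD.{0} p).obj D
  haveI : Etale (D'.obj PUnit.unit).hom := ‹Etale D.obj.hom›
  haveI : IsSeparated (D'.obj PUnit.unit).hom := ‹IsSeparated D.obj.hom›
  haveI : QuasiCompact (D'.obj PUnit.unit).hom := ‹QuasiCompact D.obj.hom›
  obtain ⟨U, hU, ⟨Θ⟩⟩ := eff₀_of_integral_surjective p D'
  let d : EffData p D' (𝟙 S) U := EffData.ofIso₀ Θ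
  refine ⟨U, d.quasiCompact hp, d.isSeparated hp, hU, ⟨?_⟩⟩
  exact (Desc.SchDDFam.toSchDD.{0} p).mapIso Θ

end General

end Groth.Agent.H5.EtDesc
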