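import Mathlib
import Groth.Agent.S5057
import Groth.Agent.Lib.Helper1.EtSections
import Groth.Agent.Lib.Helper5.NApprox.ZmtB

/-!
# Henselian pairs: lifting of clopen subsets for finite schemes gives lifting of sections of
étale separated schemes (S5036)
-/

set_option autoImplicit false

universe u

open CategoryTheory CategoryTheory.Limits AlgebraicGeometry MorphismProperty

namespace Groth.Agent.H5.EtDesc

/-- Unramified morphisms locally of finite type are locally quasi-finite. -/
lemma lqf_of_unramified {X Y : Scheme.{u}} (f : X ⟶ Y) [LocallyOfFiniteType f]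
    [FormallyUnramified f] : LocallyQuasiFinite f := by
  rw [HasRingHomProperty.iff_appLE (P := @LocallyQuasiFinite)]
  intro U V e
  have h1 := HasRingHomProperty.appLE (P := @LocallyOfFiniteType) f inferInstance U V e
  have h2 := HasRingHomProperty.appLE (P := @FormallyUnramified) f inferInstance U V e
  algebraize [(f.appLE U.1 V.1 e).hom]
  have : Algebra.EssFiniteType Γ(Y, U.1) Γ(X, V.1) := inferInstance
  exact inferInstanceAs (Algebra.QuasiFinite _ _)

/-- a compact subset of a scheme lies in a quasi-compact open. -/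
lemma exists_isCompact_opens_superset {X : Scheme.{u}} (K : Set X) (hK : IsCompact K) :
    ∃ W : X.Opens, IsCompact (W : Set X) ∧ K ⊆ W := by
  have hex : ∀ x : X, ∃ U : X.Opens, IsAffineOpen U ∧ x ∈ U := by
    intro x
    obtain ⟨U, hU, hxU, -⟩ := (X.isBasis_affineOpens).exists_subset_of_mem_open
      (Set.mem_univ x) isOpen_univ
    obtain ⟨V, hV, rfl⟩ := hU
    exact ⟨V, hV, hxU⟩
  choose U hUa hxU using hex
  obtain ⟨t, -, ht⟩ := hK.elim_nhds_subcover (fun x => (U x : Set X))
    (fun x _ => (U x).isOpen.mem_nhds (hxU x))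
  refine ⟨⨆ x ∈ t, U x, ?_, ?_⟩
  · have : ((⨆ x ∈ t, U x : X.Opens) : Set X) = ⋃ x ∈ t, (U x : Set X) := by
      simp
    rw [this]
    exact t.isCompact_biUnion (fun x _ => (hUa x).isCompact)
  · intro x hx
    have := ht hx
    simpa using this

section

variable {S S₀ : Scheme.{u}} (i : S₀ ⟶ S) [IsClosedImmersion i]
  (ha : ∀ (S' : Scheme.{u}) (g : S' ⟶ S), IsFinite g →
    ∀ V : Set ↥(pullback g i), IsClopen V →
      ∃! U : Set ↥S', IsClopen U ∧ (pullback.fst g i).base ⁻¹' U = V)

include ha in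
lemma univ_of_open {S' : Scheme.{u}} (g : S' ⟶ S) [IsFinite g] (U : Set ↥S') (hU : IsOpen U)
    (hU₀ : Set.range (pullback.fst g i).base ⊆ U) : U = Set.univ :=
  Groth.Agent.S5057.result i ha g U hU hU₀

include ha in
lemma univ_of_open_id (U : Set ↥S) (hU : IsOpen U) (hU₀ : Set.range i.base ⊆ U) :
    U = Set.univ := by
  refine univ_of_open i ha (𝟙 S) U hU ?_
  rintro _ ⟨z, rfl⟩
  apply hU₀
  have h : pullback.fst (𝟙 S) i = pullback.snd (𝟙 S) i ≫ i := by
    have := pullback.condition (f := 𝟙 S) (g := i)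
    rwa [Category.comp_id] at this
  refine ⟨(pullback.snd (𝟙 S) i).base z, ?_⟩
  rw [h]
  rfl

include ha in
/-- uniqueness of sections with given restriction to `S₀`. -/
theorem section_unique {S' : Scheme.{u}} (g : S' ⟶ S) [FormallyUnramified g]
    [LocallyOfFiniteType g] (u u' : S ⟶ S') (hu : u ≫ g = 𝟙 S) (hu' : u' ≫ g = 𝟙 S)
    (h : i ≫ u = i ≫ u') : u = u' := by
  let l : S ⟶ pullback g g := pullback.lift u u' (hu.trans hu'.symm)
  let Δ := pullback.diagonal g
  have hopen : IsOpen (l.base ⁻¹' Set.range Δ.base) :=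
    Δ.isOpenEmbedding.isOpen_range.preimage l.continuous
  have hsub : Set.range i.base ⊆ l.base ⁻¹' Set.range Δ.base := by
    rintro _ ⟨x, rfl⟩
    have h2 : i ≫ l = (i ≫ u) ≫ Δ := by
      apply pullback.hom_ext
      · rw [Category.assoc, Category.assoc, pullback.diagonal_fst, Category.comp_id]
        congr 1
        exact pullback.lift_fst _ _ _
      · rw [Category.assoc, Category.assoc, pullback.diagonal_snd, Category.comp_id, h]
        congr 1
        exact pullback.lift_snd _ _ _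
    show l.base (i.base x) ∈ Set.range Δ.base
    have h3 : l.base (i.base x) = Δ.base ((i ≫ u).base x) := by
      rw [← Scheme.Hom.comp_apply, h2, Scheme.Hom.comp_apply]
    rw [h3]
    exact ⟨_, rfl⟩
  have huniv := univ_of_open_id i ha _ hopen hsub
  have hrange : Set.range l ⊆ Set.range Δ := by
    rintro _ ⟨t, rfl⟩
    have : t ∈ l.base ⁻¹' Set.range Δ.base := by rw [huniv]; trivial
    exact this
  let m := IsOpenImmersion.lift Δ l hrange
  have hm : m ≫ Δ = l := IsOpenImmersion.lift_fac _ _ _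
  have e1 : u = m := by
    have : l ≫ pullback.fst g g = u := pullback.lift_fst _ _ _
    rw [← this, ← hm, Category.assoc, pullback.diagonal_fst, Category.comp_id]
  have e2 : u' = m := by
    have : l ≫ pullback.snd g g = u' := pullback.lift_snd _ _ _
    rw [← this, ← hm, Category.assoc, pullback.diagonal_snd, Category.comp_id]
  rw [e1, e2]

include ha in
/-- key step: a clopen piece `Z` of a finite `S`-scheme `T`, étale over `S`, whose restriction to
`S₀` is the image of a section, is isomorphic to `S`. -/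
theorem isIso_of_clopen {T : Scheme.{u}} (π : T ⟶ S) [IsFinite π] (Zo : T.Opens)
    (hZc : IsClosed (Zo : Set T)) [Etale (Zo.ι ≫ π)]
    (s₀ : S₀ ⟶ pullback π i) [IsOpenImmersion s₀] (hs₀ : s₀ ≫ pullback.snd π i = 𝟙 S₀)
    (hV : (pullback.fst π i).base ⁻¹' (Zo : Set T) = Set.range s₀.base) :
    IsIso (Zo.ι ≫ π) := by
  haveI : IsClosedImmersion Zo.ι :=
    IsClosedImmersion.of_isPreimmersion _ (by rw [Scheme.Opens.range_ι]; exact hZc)
  haveI : IsFinite (Zo.ι ≫ π) := inferInstance
  let κ : pullback (pullback.fst π i) Zo.ι ⟶ pullback π i := pullback.fst _ _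
  let pZ : pullback (pullback.fst π i) Zo.ι ⟶ S₀ := κ ≫ pullback.snd π i
  have hpb : IsPullback (pullback.snd (pullback.fst π i) Zo.ι) pZ (Zo.ι ≫ π) i :=
    (IsPullback.of_hasPullback (pullback.fst π i) Zo.ι).flip.paste_vert
      (IsPullback.of_hasPullback π i)
  have hrange : Set.range κ = Set.range s₀ := by
    have h1 := IsOpenImmersion.range_pullbackFst Zo.ι (pullback.fst π i)
    rw [Scheme.Opens.opensRange_ι] at h1
    exact h1.trans hV
  let e := IsOpenImmersion.isoOfRangeEq κ s₀ hrange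
  have he : e.hom ≫ s₀ = κ := IsOpenImmersion.isoOfRangeEq_hom_fac _ _ _
  have hpZ : pZ = e.hom := by
    show κ ≫ pullback.snd π i = e.hom
    rw [← he, Category.assoc, hs₀, Category.comp_id]
  haveI : IsIso pZ := by rw [hpZ]; infer_instance
  -- surjectivity
  haveI : Surjective (Zo.ι ≫ π) := by
    have hopen : IsOpen (Set.range (Zo.ι ≫ π).base) := (Zo.ι ≫ π).isOpenMap.isOpen_range
    have hsub : Set.range i.base ⊆ Set.range (Zo.ι ≫ π).base := by
      rintro _ ⟨x, rfl⟩
      refine ⟨(pullback.snd (pullback.fst π i) Zo.ι).base ((inv pZ).base x), ?_⟩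
      rw [← Scheme.Hom.comp_apply, ← Scheme.Hom.comp_apply, hpb.w, ← Category.assoc,
        IsIso.inv_hom_id, Category.id_comp]
    have huniv := univ_of_open_id i ha _ hopen hsub
    exact ⟨Set.range_eq_univ.mp huniv⟩
  -- the diagonal is surjective
  haveI : Surjective (pullback.diagonal (Zo.ι ≫ π)) := by
    let fP : pullback (Zo.ι ≫ π) (Zo.ι ≫ π) ⟶ S := pullback.fst _ _ ≫ (Zo.ι ≫ π)
    haveI : IsFinite fP := inferInstance
    let q : pullback fP i ⟶ pullback (Zo.ι ≫ π) (Zo.ι ≫ π) := pullback.fst fP i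
    have hc1 : (q ≫ pullback.fst _ _) ≫ (Zo.ι ≫ π) = pullback.snd fP i ≫ i := by
      rw [Category.assoc]
      exact pullback.condition
    have hc2 : (q ≫ pullback.snd _ _) ≫ (Zo.ι ≫ π) = pullback.snd fP i ≫ i := by
      rw [Category.assoc, ← pullback.condition]
      exact pullback.condition
    have hr : hpb.lift _ _ hc1 = hpb.lift _ _ hc2 := by
      rw [← cancel_mono pZ, hpb.lift_snd, hpb.lift_snd]
    have hq : q ≫ pullback.fst _ _ = q ≫ pullback.snd _ _ := by
      rw [← hpb.lift_fst _ _ hc1, hr, hpb.lift_fst]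
    have hqΔ : q = (q ≫ pullback.fst _ _) ≫ pullback.diagonal (Zo.ι ≫ π) := by
      apply pullback.hom_ext
      · rw [Category.assoc, pullback.diagonal_fst, Category.comp_id]
      · rw [Category.assoc, pullback.diagonal_snd, Category.comp_id, hq]
    have hopen : IsOpen (Set.range (pullback.diagonal (Zo.ι ≫ π)).base) :=
      (pullback.diagonal (Zo.ι ≫ π)).isOpenEmbedding.isOpen_range
    have hsub : Set.range (pullback.fst fP i).base ⊆
        Set.range (pullback.diagonal (Zo.ι ≫ π)).base := by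
      rintro _ ⟨z, rfl⟩
      refine ⟨(q ≫ pullback.fst _ _).base z, ?_⟩
      rw [← Scheme.Hom.comp_apply, ← hqΔ]
    have huniv := univ_of_open i ha fP _ hopen hsub
    exact ⟨Set.range_eq_univ.mp huniv⟩
  haveI : UniversallyInjective (Zo.ι ≫ π) :=
    (UniversallyInjective.iff_diagonal _).mpr inferInstance
  exact H1.EtSections.isIso_of_etale_of_universallyInjective_of_surjective _

include ha in
/-- existence of a section with prescribed restriction to `S₀`. -/
theorem exists_section [CompactSpace ↥S] [QuasiSeparatedSpace ↥S] {S' : Scheme.{u}} (g : S' ⟶ S)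
    [Etale g] [IsSeparated g] (v₀ : S₀ ⟶ S') (hv₀ : v₀ ≫ g = i) :
    ∃ u : S ⟶ S', u ≫ g = 𝟙 S ∧ i ≫ u = v₀ := by
  haveI : CompactSpace ↥S₀ := QuasiCompact.compactSpace_of_compactSpace i
  obtain ⟨W, hWc, hW⟩ := exists_isCompact_opens_superset (Set.range v₀.base)
    (isCompact_range v₀.continuous)
  haveI : CompactSpace ↥(W.toScheme) := isCompact_iff_compactSpace.mp hWc
  haveI : Etale (W.ι ≫ g) := inferInstance
  haveI : IsSeparated (W.ι ≫ g) := inferInstance
  haveI : QuasiCompact (W.ι ≫ g) := quasiCompact_of_compactSpace _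
  haveI : LocallyQuasiFinite (W.ι ≫ g) := lqf_of_unramified _
  obtain ⟨T, j, π, hj, -, hπ, -, hjπ⟩ := NApprox.exists_openImmersion_finite_fp (W.ι ≫ g)
  let w₀ : S₀ ⟶ W := IsOpenImmersion.lift W.ι v₀ (by rw [Scheme.Opens.range_ι]; exact hW)
  have hw₀ : w₀ ≫ W.ι = v₀ := IsOpenImmersion.lift_fac _ _ _
  let t₀ : S₀ ⟶ T := w₀ ≫ j
  have ht₀ : t₀ ≫ π = i := by
    rw [Category.assoc, hjπ, ← Category.assoc, hw₀, hv₀]
  let s₀ : S₀ ⟶ pullback π i := pullback.lift t₀ (𝟙 S₀) (by rw [ht₀, Category.id_comp])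
  have hs₀ : s₀ ≫ pullback.snd π i = 𝟙 S₀ := pullback.lift_snd _ _ _
  have hs₀f : s₀ ≫ pullback.fst π i = t₀ := pullback.lift_fst _ _ _
  haveI : Etale (j ≫ π) := by rw [hjπ]; infer_instance
  haveI : IsOpenImmersion s₀ := by
    let σ : S₀ ⟶ pullback (pullback.fst π i) j := pullback.lift s₀ w₀ (by rw [hs₀f])
    have hpbP : IsPullback (pullback.snd (pullback.fst π i) j)
        (pullback.fst (pullback.fst π i) j ≫ pullback.snd π i) (j ≫ π) i :=
      (IsPullback.of_hasPullback (pullback.fst π i) j).flip.paste_vert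
        (IsPullback.of_hasPullback π i)
    haveI : Etale (pullback.fst (pullback.fst π i) j ≫ pullback.snd π i) :=
      MorphismProperty.of_isPullback (P := @Etale) hpbP inferInstance
    have hσ : σ ≫ (pullback.fst (pullback.fst π i) j ≫ pullback.snd π i) = 𝟙 S₀ := by
      rw [← Category.assoc, pullback.lift_fst, hs₀]
    haveI : IsOpenImmersion σ := H1.EtSections.isOpenImmersion_section _ σ hσ
    have : s₀ = σ ≫ pullback.fst (pullback.fst π i) j := (pullback.lift_fst _ _ _).symm
    rw [this]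
    infer_instance
  haveI : IsClosedImmersion s₀ := by
    haveI : IsClosedImmersion (s₀ ≫ pullback.snd π i) := by rw [hs₀]; infer_instance
    exact IsClosedImmersion.of_comp s₀ (pullback.snd π i)
  have hVclopen : IsClopen (Set.range s₀.base) :=
    ⟨s₀.isClosedEmbedding.isClosed_range, s₀.isOpenEmbedding.isOpen_range⟩
  obtain ⟨Z, ⟨hZ, hZV⟩, -⟩ := ha T π hπ _ hVclopen
  have hfst : ∀ x, (pullback.fst π i).base (s₀.base x) = j.base (w₀.base x) := by
    intro x
    rw [← Scheme.Hom.comp_apply, ← Scheme.Hom.comp_apply, hs₀f]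
  have hZj : Z ⊆ Set.range j.base := by
    have hU : IsOpen (Zᶜ ∪ Set.range j.base) :=
      hZ.isClosed.isOpen_compl.union j.isOpenEmbedding.isOpen_range
    have huniv := univ_of_open i ha π _ hU (by
      rintro _ ⟨z, rfl⟩
      by_cases hz : (pullback.fst π i).base z ∈ Z
      · right
        have hz' : z ∈ Set.range s₀.base := by rw [← hZV]; exact hz
        obtain ⟨x, rfl⟩ := hz'
        exact ⟨w₀.base x, (hfst x).symm⟩
      · left; exact hz)
    intro z hz
    have h2 : z ∈ Zᶜ ∪ Set.range j.base := by rw [huniv]; trivial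
    rcases h2 with h2 | h2
    · exact absurd hz h2
    · exact h2
  let Zo : T.Opens := ⟨Z, hZ.isOpen⟩
  let m : (Zo : Scheme) ⟶ W := IsOpenImmersion.lift j Zo.ι
    (by rw [Scheme.Opens.range_ι]; exact hZj)
  have hm : m ≫ j = Zo.ι := IsOpenImmersion.lift_fac _ _ _
  haveI : IsOpenImmersion m := by
    haveI : IsOpenImmersion (m ≫ j) := by rw [hm]; infer_instance
    exact IsOpenImmersion.of_comp m j
  have hπZ : Zo.ι ≫ π = m ≫ (W.ι ≫ g) := by rw [← hm, Category.assoc, hjπ]
  haveI : Etale (Zo.ι ≫ π) := by rw [hπZ]; infer_instance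
  haveI : IsIso (Zo.ι ≫ π) := isIso_of_clopen i ha π Zo hZ.isClosed s₀ hs₀ hZV
  have ht₀Z : Set.range t₀.base ⊆ Z := by
    rintro _ ⟨x, rfl⟩
    have h1 : s₀.base x ∈ (pullback.fst π i).base ⁻¹' Z := by rw [hZV]; exact ⟨x, rfl⟩
    have h2 : (pullback.fst π i).base (s₀.base x) = t₀.base x := by
      rw [← Scheme.Hom.comp_apply, hs₀f]
    rw [← h2]
    exact h1
  let z₀ : S₀ ⟶ Zo := IsOpenImmersion.lift Zo.ι t₀ (by rw [Scheme.Opens.range_ι]; exact ht₀Z)
  have hz₀ : z₀ ≫ Zo.ι = t₀ := IsOpenImmersion.lift_fac _ _ _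
  refine ⟨inv (Zo.ι ≫ π) ≫ m ≫ W.ι, ?_, ?_⟩
  · rw [Category.assoc, Category.assoc, ← hπZ, IsIso.inv_hom_id]
  · have h1 : i ≫ inv (Zo.ι ≫ π) = z₀ := by
      rw [IsIso.comp_inv_eq, ← Category.assoc, hz₀, ht₀]
    have h2 : z₀ ≫ m = w₀ := by
      rw [← cancel_mono j, Category.assoc, hm, hz₀]
    rw [← Category.assoc, h1, ← Category.assoc, h2, hw₀]

include ha in
/-- **S5036** -/
theorem main_S5036 [CompactSpace ↥S] [QuasiSeparatedSpace ↥S] {S' : Scheme.{u}} (g : S' ⟶ S)
    [Etale g] [IsSeparated g] (u₀ : S₀ ⟶ pullback g i) (hu₀ : u₀ ≫ pullback.snd g i = 𝟙 S₀) :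
    ∃! u : S ⟶ S', u ≫ g = 𝟙 S ∧ i ≫ u = u₀ ≫ pullback.fst g i := by
  have hv₀ : (u₀ ≫ pullback.fst g i) ≫ g = i := by
    rw [Category.assoc, pullback.condition, ← Category.assoc, hu₀, Category.id_comp]
  obtain ⟨u, hu1, hu2⟩ := exists_section i ha g _ hv₀
  refine ⟨u, ⟨hu1, hu2⟩, fun u' hu' => ?_⟩
  exact section_unique i ha g u' u hu'.1 hu1 (hu'.2.trans hu2.symm)

end

end Groth.Agent.H5.EtDesc
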