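import Mathlib
import Groth.Prelude.Def_DescFam
import Groth.Prelude.Def_SGA1
import Groth.Agent.Lib.Helper6.HC2
import Groth.Agent.Lib.Helper5.EtDesc.EtZo
import Groth.Agent.Lib.Helper5.EtDesc.EtZd

/-!
# Compatible sections of an étale separated descent datum over a proper scheme over a henselian
local noetherian base (S14773)
-/

set_option autoImplicit false
set_option backward.isDefEq.respectTransparency false
set_option backward.isDefEq.respectTransparency.types false

universe u

open CategoryTheory CategoryTheory.Limits AlgebraicGeometry MorphismProperty IsLocalRing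

namespace Groth.Agent.H5.EtDesc

section ClosedFibre

variable (B : Type u) [CommRing B] [IsLocalRing B]

/-- the closed point of a local scheme, as a morphism -/
noncomputable abbrev cpt : Spec (CommRingCat.of (ResidueField B)) ⟶ Spec (CommRingCat.of B) :=
  Spec.map (CommRingCat.ofHom (residue B))

instance : IsClosedImmersion (cpt B) :=
  IsClosedImmersion.spec_of_surjective _ (residue_surjective (R := B))

variable {B} {S' : Scheme.{u}} (g : S' ⟶ Spec (CommRingCat.of B))

/-- the inclusion of the closed fibre -/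
noncomputable abbrev cfι : pullback g (cpt B) ⟶ S' := pullback.fst g (cpt B)

instance : IsClosedImmersion (cfι g) :=
  MorphismProperty.pullback_fst (P := @IsClosedImmersion) _ _ inferInstance

/-- field-valued points over the closed point factor through the closed fibre -/
lemma exists_fac_cf (K : Type u) [Field K] (y : Spec (CommRingCat.of K) ⟶ S')
    (hy : (y ≫ g) (closedPoint K) = closedPoint B) :
    ∃ a : Spec (CommRingCat.of K) ⟶ pullback g (cpt B), a ≫ cfι g = y := by
  obtain ⟨c, hc⟩ := exists_fac_residue B K (y ≫ g) hy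
  exact ⟨pullback.lift y c hc, pullback.lift_fst _ _ _⟩

end ClosedFibre

section Compat

variable {B : Type u} [CommRing B] [IsLocalRing B] [IsNoetherianRing B]
  [HenselianRing B (maximalIdeal B)]
  {S' : Scheme.{u}} (g : S' ⟶ Spec (CommRingCat.of B)) [IsProper g]
  (D : Desc.SchDDFam (fun _ : PUnit.{1} => g))

/-- **Existence of compatible sections**, proper case: through a rational point over a rational
point of the closed fibre there is a section of the datum compatible with the gluing bijections. -/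
theorem exists_compat_section_proper [Etale (D.obj PUnit.unit).hom]
    [IsSeparated (D.obj PUnit.unit).hom]
    (y₀ : Spec (CommRingCat.of (ResidueField B)) ⟶ S') (hy₀ : y₀ ≫ g = cpt B)
    (x₀ : Spec (CommRingCat.of (ResidueField B)) ⟶ (D.obj PUnit.unit).left)
    (hx₀ : x₀ ≫ (D.obj PUnit.unit).hom = y₀) :
    ∃ (σ : S' ⟶ (D.obj PUnit.unit).left) (hσ : σ ≫ (D.obj PUnit.unit).hom = 𝟙 _),
      (∀ {T₀ : Scheme.{u}} (a b : T₀ ⟶ S') (h : a ≫ g = b ≫ g),
        tr g D a b h (a ≫ σ) (by rw [Category.assoc, hσ, Category.comp_id]) = b ≫ σ) ∧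
      y₀ ≫ σ = x₀ := by
  haveI : CompactSpace ↥S' := QuasiCompact.compactSpace_of_compactSpace g
  haveI : QuasiSeparatedSpace ↥S' := quasiSeparatedSpace_of_quasiSeparated g
  haveI hmono : Mono (y₀ ≫ g) := by rw [hy₀]; infer_instance
  let θ : pullback g (cpt B) ⟶ Spec (CommRingCat.of (ResidueField B)) := pullback.snd g (cpt B)
  have hθ : (θ ≫ y₀) ≫ g = cfι g ≫ g := by
    rw [Category.assoc, hy₀]
    exact pullback.condition.symm
  let σ₀ : pullback g (cpt B) ⟶ (D.obj PUnit.unit).left :=
    tr g D (θ ≫ y₀) (cfι g) hθ (θ ≫ x₀) (by rw [Category.assoc, hx₀])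
  have hσ₀ : σ₀ ≫ (D.obj PUnit.unit).hom = cfι g := tr_hom _ _ _ _ _ _ _
  have ha := Groth.Agent.H6.HC.s17961 B (maximalIdeal B) g
  obtain ⟨σ, hσ, hiσ⟩ := exists_section (cfι g) ha (D.obj PUnit.unit).hom σ₀ hσ₀
  refine ⟨σ, hσ, ?_, ?_⟩
  · intro T₀ y y' h
    let p₀ : pullback g g ⟶ S' := pullback.fst _ _
    let p₁ : pullback g g ⟶ S' := pullback.snd _ _
    have hp : p₀ ≫ g = p₁ ≫ g := pullback.condition
    have hp₀σ : (p₀ ≫ σ) ≫ (D.obj PUnit.unit).hom = p₀ := by
      rw [Category.assoc, hσ, Category.comp_id]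
    have main : tr g D p₀ p₁ hp (p₀ ≫ σ) hp₀σ = p₁ ≫ σ := by
      refine eq_of_forall_specializes (D.obj PUnit.unit).hom _ _ ?_ ?_
      · rw [tr_hom, Category.assoc, hσ, Category.comp_id]
      · intro z
        obtain ⟨z₀, hz, hz₀⟩ := Groth.Agent.H1.HensFin.exists_specializes_closedPoint B
          (p₀ ≫ g) (p₀ ≫ g).isClosedMap z
        refine ⟨z₀, hz, ?_⟩
        set ζ := (pullback g g).fromSpecResidueField z₀ with hζ
        have hcl : ∀ s, ζ s = z₀ := fun s => Scheme.fromSpecResidueField_apply z₀ s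
        have h0 : ((ζ ≫ p₀) ≫ g) (closedPoint _) = closedPoint B := by
          rw [Category.assoc, Scheme.Hom.comp_apply, hcl]
          exact hz₀
        have h1 : ((ζ ≫ p₁) ≫ g) (closedPoint _) = closedPoint B := by
          rw [Category.assoc, ← hp, Scheme.Hom.comp_apply, hcl]
          exact hz₀
        obtain ⟨a, ha⟩ := exists_fac_cf g _ (ζ ≫ p₀) h0
        obtain ⟨a', ha'⟩ := exists_fac_cf g _ (ζ ≫ p₁) h1
        rw [tr_natural]
        have hh : (a ≫ cfι g) ≫ g = (a' ≫ cfι g) ≫ g := by
          rw [ha, ha', Category.assoc, Category.assoc, hp]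
        have key := compat_transport (g := g) (D := D) y₀ x₀ hx₀
          (fun _ : PUnit.{u + 1} => pullback g (cpt B)) (fun _ => cfι g) (fun _ => θ)
          (fun _ => hθ) PUnit.unit PUnit.unit a a' hh
        have e1 : ζ ≫ p₀ ≫ σ = a ≫ σ₀ := by
          rw [← Category.assoc, ← ha, Category.assoc, hiσ]
        have e2 : a' ≫ σ₀ = ζ ≫ p₁ ≫ σ := by
          rw [← hiσ, ← Category.assoc, ha', Category.assoc]
        exact (tr_congr g D _ _ ha.symm ha'.symm e1).trans (key.trans e2)
    have e0 : pullback.lift y y' h ≫ p₀ = y := pullback.lift_fst _ _ _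
    have e1 : pullback.lift y y' h ≫ p₁ = y' := pullback.lift_snd _ _ _
    have h2 : pullback.lift y y' h ≫ tr g D p₀ p₁ hp (p₀ ≫ σ) hp₀σ =
        pullback.lift y y' h ≫ p₁ ≫ σ := by rw [main]
    rw [tr_natural] at h2
    refine (tr_congr g D _ _ e0.symm e1.symm ?_).trans (h2.trans ?_)
    · rw [← Category.assoc, e0]
    · rw [← Category.assoc, e1]
  · let b : Spec (CommRingCat.of (ResidueField B)) ⟶ pullback g (cpt B) :=
      pullback.lift y₀ (𝟙 _) (by rw [hy₀, Category.id_comp])
    have hb1 : b ≫ cfι g = y₀ := pullback.lift_fst _ _ _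
    have hb2 : b ≫ θ = 𝟙 _ := pullback.lift_snd _ _ _
    have e1 : y₀ ≫ σ = b ≫ σ₀ := by rw [← hiσ, ← Category.assoc, hb1]
    rw [e1, tr_natural]
    refine (tr_congr g D _ _ ?_ hb1 ?_).trans (tr_self g D y₀ x₀ hx₀)
    · rw [← Category.assoc, hb2, Category.id_comp]
    · rw [← Category.assoc, hb2, Category.id_comp]

end Compat

section Step

variable {S S' : Scheme.{u}} {g : S' ⟶ S} (D : Desc.SchDDFam (fun _ : PUnit.{1} => g))

/-- **Splitting off a compatible section**: if the datum has a section compatible with the gluing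
bijections and the complementary datum is effective, the datum is effective. -/
theorem eff₀_of_compat_section [Etale (D.obj PUnit.unit).hom]
    [IsSeparated (D.obj PUnit.unit).hom] [QuasiCompact (D.obj PUnit.unit).hom]
    (σ : S' ⟶ (D.obj PUnit.unit).left) (hσ : σ ≫ (D.obj PUnit.unit).hom = 𝟙 _)
    (hcompat : ∀ {T₀ : Scheme.{u}} (a b : T₀ ⟶ S') (h : a ≫ g = b ≫ g),
      tr g D a b h (a ≫ σ) (by rw [Category.assoc, hσ, Category.comp_id]) = b ≫ σ)
    (IH : ∀ (W' : (D.obj PUnit.unit).left.Opens) (hW' : StableOpen g D W'),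
      (W' : Set (D.obj PUnit.unit).left) = (Set.range σ)ᶜ → Eff₀ g (subD g D W' hW')) :
    Eff₀ g D := by
  haveI : IsOpenImmersion σ :=
    Groth.Agent.H1.EtSections.isOpenImmersion_section (D.obj PUnit.unit).hom σ hσ
  haveI : IsClosedImmersion σ := by
    haveI : IsClosedImmersion (σ ≫ (D.obj PUnit.unit).hom) := by rw [hσ]; infer_instance
    exact IsClosedImmersion.of_comp σ (D.obj PUnit.unit).hom
  let W : (D.obj PUnit.unit).left.Opens := σ.opensRange
  have hWr : (W : Set (D.obj PUnit.unit).left) = Set.range σ := rfl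
  have hWc : IsClosed (W : Set (D.obj PUnit.unit).left) := by
    rw [hWr]; exact σ.isClosedEmbedding.isClosed_range
  let W' : (D.obj PUnit.unit).left.Opens := ⟨(W : Set (D.obj PUnit.unit).left)ᶜ, hWc.isOpen_compl⟩
  have hW : StableOpen g D W := by
    intro K _ y₀ y₁ h v hv hvW
    have hvW' : Set.range v ⊆ Set.range σ := hvW
    have hb : IsOpenImmersion.lift σ v hvW' ≫ σ = v := IsOpenImmersion.lift_fac _ _ _
    have hb' : IsOpenImmersion.lift σ v hvW' = y₀ := by
      have := congrArg (fun m => m ≫ (D.obj PUnit.unit).hom) hb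
      simp only [Category.assoc, hσ, Category.comp_id] at this
      rw [this, hv]
    have e : v = y₀ ≫ σ := by rw [← hb', hb]
    have key := hcompat y₀ y₁ h
    have : tr g D y₀ y₁ h v hv = y₁ ≫ σ :=
      (tr_congr g D _ _ rfl rfl e).trans key
    rw [this, hWr]
    rintro _ ⟨s, rfl⟩
    rw [Scheme.Hom.comp_apply]
    exact ⟨_, rfl⟩
  have hW' : StableOpen g D W' := hW.compl rfl
  haveI hiso : IsIso ((subD g D W hW).obj PUnit.unit).hom := by
    change IsIso (W.ι ≫ (D.obj PUnit.unit).hom)
    have hτr : Set.range W.ι ⊆ Set.range σ := by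
      rw [Scheme.Opens.range_ι]
      exact hWr.le
    let τ : W.toScheme ⟶ S' := IsOpenImmersion.lift σ W.ι hτr
    have hτ : τ ≫ σ = W.ι := IsOpenImmersion.lift_fac _ _ _
    have hσr : Set.range σ ⊆ (W : Set (D.obj PUnit.unit).left) := by rw [hWr]
    let σ' : S' ⟶ W.toScheme := liftW W σ hσr
    have hσ' : σ' ≫ W.ι = σ := liftW_ι _ _ _
    refine ⟨σ', ?_, ?_⟩
    · rw [← cancel_mono W.ι, Category.assoc, Category.assoc, hσ', Category.id_comp, ← hτ,
        Category.assoc, reassoc_of% hσ]
    · rw [reassoc_of% hσ', hσ]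
  let d₁ : Eff0Data g (subD g D W hW) (Over.mk (𝟙 _)) := Eff0Data.ofIsIso
  haveI : Etale (Over.mk (𝟙 S)).hom := by
    change Etale (𝟙 _)
    infer_instance
  obtain ⟨U₂, hU₂, ⟨d₂⟩⟩ := eff₀_iff_eff0Data.mp (IH W' hW' rfl)
  haveI := hU₂
  obtain ⟨U, hU, ⟨d⟩⟩ := Eff0Data.nonempty_of_decomp W W' hW hW'
    (fun x' => by
      by_cases h : x' ∈ (W : Set (D.obj PUnit.unit).left)
      · exact Or.inl h
      · exact Or.inr h)
    (fun x' h1 h2 => h2 h1) d₁ d₂
  exact eff₀_iff_eff0Data.mpr ⟨U, hU, ⟨d⟩⟩

end Step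

section Induction

variable {B : Type u} [CommRing B] [IsLocalRing B] [IsNoetherianRing B]
  [HenselianRing B (maximalIdeal B)] [IsAlgClosed (ResidueField B)]
  {S' : Scheme.{u}} (g : S' ⟶ Spec (CommRingCat.of B)) [IsProper g]

/-- a rational point of the closed fibre -/
lemma exists_rational_cf [Surjective g] :
    ∃ y₀ : Spec (CommRingCat.of (ResidueField B)) ⟶ S', y₀ ≫ g = cpt B := by
  obtain ⟨s', hs'⟩ := g.surjective (closedPoint B)
  have hc : (cpt B) (closedPoint (ResidueField B)) = closedPoint B :=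
    IsLocalRing.comap_closedPoint (residue B)
  obtain ⟨z, -, -⟩ := Scheme.Pullback.exists_preimage_pullback (f := g) (g := cpt B) s'
    (closedPoint (ResidueField B)) (hs'.trans hc.symm)
  obtain ⟨p, hp⟩ := exists_rational_point (pullback.snd g (cpt B)) z
  refine ⟨p ≫ cfι g, ?_⟩
  rw [Category.assoc, pullback.condition, reassoc_of% hp]

/-- the fibre of the datum over a point of `S'` -/
def fib (D : Desc.SchDDFam (fun _ : PUnit.{1} => g)) (s' : S') : Set (D.obj PUnit.unit).left :=
  (D.obj PUnit.unit).hom ⁻¹' {s'}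

lemma finite_fib (D : Desc.SchDDFam (fun _ : PUnit.{1} => g)) [Etale (D.obj PUnit.unit).hom]
    [QuasiCompact (D.obj PUnit.unit).hom] (s' : S') : (fib g D s').Finite := by
  haveI : LocallyQuasiFinite (D.obj PUnit.unit).hom := locallyQuasiFinite_of_unramified' _
  exact (D.obj PUnit.unit).hom.finite_preimage_singleton s'

/-- **Effectivity over a henselian local base, proper case**, assuming effectivity over the
punctured spectrum. -/
theorem eff₀_of_proper_henselian [Surjective g]
    (HV : ∀ (D : Desc.SchDDFam (fun _ : PUnit.{1} => g)) [Etale (D.obj PUnit.unit).hom]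
      [IsSeparated (D.obj PUnit.unit).hom] [QuasiCompact (D.obj PUnit.unit).hom],
      Eff g D (punct B).ι)
    (D : Desc.SchDDFam (fun _ : PUnit.{1} => g)) [Etale (D.obj PUnit.unit).hom]
    [IsSeparated (D.obj PUnit.unit).hom] [QuasiCompact (D.obj PUnit.unit).hom] :
    Eff₀ g D := by
  obtain ⟨y₀, hy₀⟩ := exists_rational_cf g
  set s' : S' := y₀ (closedPoint (ResidueField B)) with hs'
  have hpt : ∀ t : Spec (CommRingCat.of (ResidueField B)), y₀ t = s' := by
    intro t
    rw [hs']
    congr 1
    exact Subsingleton.elim _ _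
  suffices H : ∀ (n : ℕ) (D : Desc.SchDDFam (fun _ : PUnit.{1} => g))
      [Etale (D.obj PUnit.unit).hom] [IsSeparated (D.obj PUnit.unit).hom]
      [QuasiCompact (D.obj PUnit.unit).hom], (fib g D s').ncard = n → Eff₀ g D from
    H _ D rfl
  intro n
  induction n using Nat.strong_induction_on with
  | _ n ih =>
    intro D _ _ _ hn
    by_cases hne : (fib g D s').Nonempty
    · obtain ⟨x, hx⟩ := hne
      have hx' : (D.obj PUnit.unit).hom x = y₀ (closedPoint (ResidueField B)) := hx
      obtain ⟨z, -, -⟩ := Scheme.Pullback.exists_preimage_pullback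
        (f := (D.obj PUnit.unit).hom) (g := y₀) x (closedPoint (ResidueField B)) hx'
      obtain ⟨p, hp⟩ := exists_rational_point (pullback.snd (D.obj PUnit.unit).hom y₀) z
      have hx₀ : (p ≫ pullback.fst (D.obj PUnit.unit).hom y₀) ≫ (D.obj PUnit.unit).hom = y₀ := by
        rw [Category.assoc, pullback.condition, reassoc_of% hp]
      obtain ⟨σ, hσ, hcompat, hyσ⟩ := exists_compat_section_proper g D y₀ hy₀ _ hx₀
      refine eff₀_of_compat_section D σ hσ hcompat ?_
      intro W' hW' hWc
      have hW'c : IsClosed (W' : Set (D.obj PUnit.unit).left) := by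
        rw [hWc, isClosed_compl_iff]
        haveI : IsOpenImmersion σ :=
          Groth.Agent.H1.EtSections.isOpenImmersion_section (D.obj PUnit.unit).hom σ hσ
        exact σ.isOpenEmbedding.isOpen_range
      haveI : QuasiCompact ((subD g D W' hW').obj PUnit.unit).hom :=
        subD_quasiCompact W' hW' hW'c
      have hlt : (fib g (subD g D W' hW') s').ncard < (fib g D s').ncard := by
        have hfin := finite_fib g D s'
        set q : (D.obj PUnit.unit).left := σ s' with hq
        have hqfib : q ∈ fib g D s' := by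
          change (D.obj PUnit.unit).hom (σ s') = s'
          rw [← Scheme.Hom.comp_apply, hσ]
          rfl
        have hsub : W'.ι '' fib g (subD g D W' hW') s' ⊆ fib g D s' \ {q} := by
          rintro _ ⟨y, hy, rfl⟩
          refine ⟨?_, ?_⟩
          · change (D.obj PUnit.unit).hom (W'.ι y) = s'
            rw [← Scheme.Hom.comp_apply]
            exact hy
          · intro hyq
            have h1 : W'.ι y ∈ (W' : Set (D.obj PUnit.unit).left) := y.2
            have h2 : W'.ι y = q := hyq
            rw [h2, hWc] at h1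
            exact h1 ⟨s', rfl⟩
        have hinj : Function.Injective W'.ι := W'.ι.isOpenEmbedding.injective
        calc (fib g (subD g D W' hW') s').ncard
            = (W'.ι '' fib g (subD g D W' hW') s').ncard :=
              (Set.ncard_image_of_injective _ hinj).symm
          _ ≤ (fib g D s' \ {q}).ncard :=
              Set.ncard_le_ncard hsub (hfin.subset Set.sdiff_subset)
          _ < (fib g D s').ncard := Set.ncard_sdiff_singleton_lt_of_mem hqfib hfin
      exact ih _ (hn ▸ hlt) (subD g D W' hW') rfl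
    · rw [Set.not_nonempty_iff_eq_empty] at hne
      refine eff₀_of_range_subset (punct B) ?_ (HV D)
      rintro _ ⟨x₁, rfl⟩
      intro hx₁
      have hx₁' : ((D.obj PUnit.unit).hom ≫ g) x₁ = closedPoint B := hx₁
      set ξ := (D.obj PUnit.unit).left.fromSpecResidueField x₁ with hξ
      have h0 : ((ξ ≫ (D.obj PUnit.unit).hom) ≫ g) (closedPoint _) = closedPoint B := by
        rw [Category.assoc, Scheme.Hom.comp_apply]
        have : ξ (closedPoint _) = x₁ := Scheme.fromSpecResidueField_apply x₁ _
        rw [this]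
        exact hx₁'
      obtain ⟨c, hc⟩ := exists_fac_residue B _ ((ξ ≫ (D.obj PUnit.unit).hom) ≫ g) h0
      have hh : (ξ ≫ (D.obj PUnit.unit).hom) ≫ g = (c ≫ y₀) ≫ g := by
        rw [hc, Category.assoc, hy₀]
      have hv := tr_hom g D (ξ ≫ (D.obj PUnit.unit).hom) (c ≫ y₀) hh ξ rfl
      have hmem : (tr g D (ξ ≫ (D.obj PUnit.unit).hom) (c ≫ y₀) hh ξ rfl) (closedPoint _) ∈
          fib g D s' := by
        change (D.obj PUnit.unit).hom _ = s'
        rw [← Scheme.Hom.comp_apply, hv, Scheme.Hom.comp_apply]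
        exact hpt _
      rw [hne] at hmem
      exact hmem

end Induction

end Groth.Agent.H5.EtDesc
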