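import Mathlib
import Groth.Prelude.Def_Desc
import Groth.Prelude.Def_DescFam
import Groth.Prelude.Def_SGA1
import Groth.Agent.Lib.Helper5.EtDesc.EtZp

/-!
# Effectivity of étale separated quasi-compact descent data along proper surjective morphisms
over locally noetherian bases (S14773)
-/

set_option autoImplicit false
set_option backward.isDefEq.respectTransparency false
set_option backward.isDefEq.respectTransparency.types false

universe u

open CategoryTheory CategoryTheory.Limits AlgebraicGeometry MorphismProperty IsLocalRing

namespace Groth.Agent.H5.EtDesc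

/-- **Effectivity over complete local rings with algebraically closed residue field, proper
case**, by induction on the dimension. -/
theorem eff₀_proper_complete : ∀ (n : ℕ) (B : Type u) [CommRing B] [IsNoetherianRing B]
    [IsLocalRing B] [IsAdicComplete (maximalIdeal B) B] [IsAlgClosed (ResidueField B)],
    ringKrullDim B ≤ n → ∀ {S' : Scheme.{u}} (g : S' ⟶ Spec (CommRingCat.of B))
    [IsProper g] [Surjective g]
    (D : Desc.SchDDFam (fun _ : PUnit.{1} => g)) [Etale (D.obj PUnit.unit).hom]
    [IsSeparated (D.obj PUnit.unit).hom] [QuasiCompact (D.obj PUnit.unit).hom], Eff₀ g D := by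
  intro n
  induction n using Nat.strong_induction_on with
  | _ n ih =>
    intro B _ _ _ _ _ hdim S' g _ _ D _ _ _
    haveI : HenselianRing B (maximalIdeal B) := inferInstance
    refine eff₀_of_proper_henselian g ?_ D
    intro D'' _ _ _
    change Eff₀ (pullback.snd g (punct B).ι) (pullD g D'' (punct B).ι)
    have hg : SGA1.UnivSubmersive g := univSubmersive_of_universallyClosed_of_surjective g
    have hγ := univSubmersive_snd g (punct B).ι hg
    haveI : IsLocallyNoetherian (punct B).toScheme :=
      isLocallyNoetherian_of_isOpenImmersion (punct B).ι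
    refine eff₀_of_forall_stalk_complete hγ ?_
    intro a B₁ _ _ _ _ _ hdim₁ q
    have hlt : ringKrullDim B₁ < n :=
      lt_of_lt_of_le (lt_of_le_of_lt hdim₁ (ringKrullDim_stalk_punct_lt B a)) hdim
    obtain ⟨m, hmn, hm⟩ := exists_nat_of_lt ringKrullDim_nonneg_of_nontrivial hlt
    change Eff₀ (pullback.snd (pullback.snd g (punct B).ι) q)
      (pullD (pullback.snd g (punct B).ι) (pullD g D'' (punct B).ι) q)
    exact ih m hmn B₁ hm.le (pullback.snd (pullback.snd g (punct B).ι) q) _

/-- **Main theorem, noetherian case**: étale separated quasi-compact descent data along a proper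
surjective morphism to a locally noetherian scheme are effective. -/
theorem eff₀_proper_main {S S' : Scheme.{u}} [IsLocallyNoetherian S] (g : S' ⟶ S)
    [IsProper g] [Surjective g]
    (D : Desc.SchDDFam (fun _ : PUnit.{1} => g)) [Etale (D.obj PUnit.unit).hom]
    [IsSeparated (D.obj PUnit.unit).hom] [QuasiCompact (D.obj PUnit.unit).hom] : Eff₀ g D := by
  have hg : SGA1.UnivSubmersive g := univSubmersive_of_universallyClosed_of_surjective g
  rw [eff₀_iff_complete_algClosed hg]
  intro B _ _ _ _ _ q
  change Eff₀ (pullback.snd g q) (pullD g D q)
  obtain ⟨n, hn⟩ := exists_nat_ge (ringKrullDim B) ringKrullDim_lt_top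
  exact eff₀_proper_complete n B hn (pullback.snd g q) (pullD g D q)

end Groth.Agent.H5.EtDesc
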