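import Mathlib
import Groth.Prelude.Def_Desc
import Groth.Prelude.Def_DescFam
import Groth.Prelude.Def_SGA1
import Groth.Agent.Lib.Helper5.NApprox.PropA
import Groth.Agent.Lib.Helper5.EtDesc.EtZh
import Groth.Agent.Lib.Helper5.EtDesc.EtZq

/-!
# Effectivity of étale descent data along proper surjective morphisms of finite presentation
over an arbitrary base (S14773, S2903)
-/

set_option autoImplicit false
set_option backward.isDefEq.respectTransparency false
set_option backward.isDefEq.respectTransparency.types false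

universe u

open CategoryTheory CategoryTheory.Limits AlgebraicGeometry MorphismProperty

namespace Groth.Agent.H5.EtDesc

/-- properness descends along cofiltered limits of affine schemes -/
theorem affineSystemDescent_isProper : Lim.AffineSystemDescent.{u} @IsProper
    (@LocallyOfFiniteType ⊓ (@QuasiCompact ⊓ @QuasiSeparated)) := by
  intro J _ _ E cE hcE _ j₁ Z₀ h₀ hΦ hP
  haveI : LocallyOfFiniteType h₀ := hΦ.1
  haveI : QuasiCompact h₀ := hΦ.2.1
  haveI : QuasiSeparated h₀ := hΦ.2.2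
  haveI : IsProper (pullback.snd h₀ (cE.π.app j₁)) := hP
  haveI : CompactSpace Z₀ := QuasiCompact.compactSpace_of_compactSpace h₀
  haveI : QuasiSeparatedSpace Z₀ := quasiSeparatedSpace_of_quasiSeparated h₀
  haveI : ∀ (i j : J) (f : i ⟶ j), IsAffineHom (E.map f) := fun i j f => inferInstance
  have hY : IsPullback (cE.π.app j₁) (𝟙 cE.pt) (𝟙 (E.obj j₁)) (cE.π.app j₁) := IsPullback.of_id_snd
  have hX : IsPullback (pullback.fst h₀ (cE.π.app j₁)) (pullback.snd h₀ (cE.π.app j₁)) h₀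
      (cE.π.app j₁) := IsPullback.of_hasPullback _ _
  obtain ⟨i, φ, Xi, Yi, fi, gi, pY, pX, hpY, hpX, hprop⟩ :=
    Groth.Agent.H5.NApprox.exists_isProper_descend E cE hcE j₁ h₀ (𝟙 (E.obj j₁))
      (pullback.snd h₀ (cE.π.app j₁)) (𝟙 cE.pt) (cE.π.app j₁) (pullback.fst h₀ (cE.π.app j₁))
      hY hX
  haveI := hprop
  haveI : IsIso gi := hpY.isIso_snd_of_isIso
  have hbig : IsPullback pX (fi ≫ gi) (h₀ ≫ 𝟙 _) (E.map φ) := hpX.paste_vert hpY
  rw [Category.comp_id] at hbig
  refine ⟨i, φ, ?_⟩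
  have e : pullback.snd h₀ (E.map φ) = hbig.isoPullback.inv ≫ fi ≫ gi := by
    rw [Iso.eq_inv_comp]
    exact hbig.isoPullback_hom_snd
  rw [e]
  infer_instance

section Main

/-- **S14773 over an affine base.** -/
theorem eff₀_of_proper_surjective_affine (A : Type u) [CommRing A] {S' : Scheme.{u}}
    (g : S' ⟶ Spec (CommRingCat.of A)) [IsProper g] [Surjective g]
    [LocallyOfFinitePresentation g]
    (D : Desc.SchDDFam (fun _ : PUnit.{1} => g)) [Etale (D.obj PUnit.unit).hom]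
    [IsSeparated (D.obj PUnit.unit).hom] [QuasiCompact (D.obj PUnit.unit).hom] : Eff₀ g D := by
  let g' : S' ⟶ (Lim.fgzCone A).pt := g
  let D' : Desc.SchDDFam (fun _ : PUnit.{1} => g') := D
  haveI : IsProper g' := ‹IsProper g›
  haveI : Surjective g' := ‹Surjective g›
  haveI : LocallyOfFinitePresentation g' := ‹LocallyOfFinitePresentation g›
  haveI : Etale (D'.obj PUnit.unit).hom := ‹Etale (D.obj PUnit.unit).hom›
  haveI : IsSeparated (D'.obj PUnit.unit).hom := ‹IsSeparated (D.obj PUnit.unit).hom›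
  haveI : QuasiCompact (D'.obj PUnit.unit).hom := ‹QuasiCompact (D.obj PUnit.unit).hom›
  have hc := Lim.isLimitFgzCone A
  -- initial approximation
  obtain ⟨k₀, ⟨A₀⟩⟩ := exists_apx hc g' D'
  -- properness
  haveI : LocallyOfFinitePresentation A₀.gk := A₀.gk_P
  obtain ⟨k₁, ψ₁, h₁⟩ := A₀.exists_gprop hc affineSystemDescent_isProper
    ⟨inferInstance, inferInstance, inferInstance⟩ (inferInstanceAs (IsProper g'))
  let A₁ : Apx (Lim.fgzDiagram A) (Lim.fgzCone A) g' D'
      (@LocallyOfFinitePresentation ⊓ @IsProper) ⊤ k₁ :=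
    (A₀.bc ψ₁).strengthen ⟨(A₀.bc ψ₁).gk_P, h₁⟩ trivial
  -- surjectivity
  haveI : LocallyOfFinitePresentation A₁.gk := A₁.gk_P.1
  obtain ⟨k₂, ψ₂, h₂⟩ := A₁.exists_gprop hc Lim.affineSystemDescent_surjective
    ⟨inferInstance, inferInstance, inferInstance⟩ (inferInstanceAs (Surjective g'))
  let A₂ : Apx (Lim.fgzDiagram A) (Lim.fgzCone A) g' D' (@IsProper ⊓ @Surjective) ⊤ k₂ :=
    (A₁.bc ψ₂).strengthen ⟨(A₁.bc ψ₂).gk_P.2, h₂⟩ trivial
  -- étaleness
  obtain ⟨k₃, ψ₃, h₃⟩ := A₂.exists_aprop hc Lim.affineSystemDescent_etale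
    ⟨inferInstance, inferInstance, inferInstance⟩
    (inferInstanceAs (Etale (D'.obj PUnit.unit).hom))
  let A₃ : Apx (Lim.fgzDiagram A) (Lim.fgzCone A) g' D' (@IsProper ⊓ @Surjective) @Etale k₃ :=
    (A₂.bc ψ₃).strengthen (A₂.bc ψ₃).gk_P h₃
  -- separatedness
  obtain ⟨k₄, ψ₄, h₄⟩ := A₃.exists_asep hc
  let A₄ : Apx (Lim.fgzDiagram A) (Lim.fgzCone A) g' D' (@IsProper ⊓ @Surjective)
      (@Etale ⊓ @IsSeparated) k₄ :=
    (A₃.bc ψ₄).strengthen (A₃.bc ψ₄).gk_P ⟨(A₃.bc ψ₄).ak_P, h₄⟩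
  -- the descent datum
  obtain ⟨k, A', T, hT⟩ := exists_tauData hc A₄
  haveI : IsProper A'.gk := A'.gk_P.1
  haveI : Surjective A'.gk := A'.gk_P.2
  haveI : Etale A'.ak := A'.ak_P.1
  haveI : IsSeparated A'.ak := A'.ak_P.2
  haveI : IsNoetherianRing ↥k.unop.1 := isNoetherianRing_of_fg A k.unop.1 k.unop.2
  haveI : IsLocallyNoetherian ((Lim.fgzDiagram A).obj k) :=
    inferInstanceAs (IsLocallyNoetherian (Spec (CommRingCat.of ↥k.unop.1)))
  haveI : Etale (((ddOfTau T).obj PUnit.unit).hom) := inferInstanceAs (Etale A'.ak)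
  haveI : IsSeparated (((ddOfTau T).obj PUnit.unit).hom) := inferInstanceAs (IsSeparated A'.ak)
  haveI : QuasiCompact (((ddOfTau T).obj PUnit.unit).hom) := inferInstanceAs (QuasiCompact A'.ak)
  obtain ⟨U₀, hU₀, ⟨d₀⟩⟩ := eff₀_iff_eff0Data.mp (eff₀_proper_main A'.gk (ddOfTau T))
  haveI := hU₀
  have sq₂' : IsPullback A'.rX (D'.obj PUnit.unit).hom
      ((ddOfTau T).obj PUnit.unit).hom A'.r := A'.sq₂
  let d : Eff0Data g' D' (Over.mk (pullback.snd U₀.hom ((Lim.fgzCone A).π.app k))) :=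
    Eff0Data.ofBaseChange A'.sq₁ sq₂'
      (fun y₀ y₁ h h' v hv hv' => compat_tr A' T hT y₀ y₁ h h' v hv hv') d₀
  haveI : Etale (Over.mk (pullback.snd U₀.hom ((Lim.fgzCone A).π.app k))).hom :=
    inferInstanceAs (Etale (pullback.snd U₀.hom ((Lim.fgzCone A).π.app k)))
  exact d.eff₀

/-- **S14773 in terms of `Eff₀`**: over an arbitrary base. -/
theorem eff₀_of_proper_surjective {S S' : Scheme.{u}} (g : S' ⟶ S) [IsProper g] [Surjective g]
    [LocallyOfFinitePresentation g]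
    (D : Desc.SchDDFam (fun _ : PUnit.{1} => g)) [Etale (D.obj PUnit.unit).hom]
    [IsSeparated (D.obj PUnit.unit).hom] [QuasiCompact (D.obj PUnit.unit).hom] : Eff₀ g D := by
  have hg : SGA1.UnivSubmersive g := univSubmersive_of_universallyClosed_of_surjective g
  rw [eff₀_iff_stalk hg]
  intro a
  change Eff₀ (pullback.snd g (S.fromSpecStalk a)) (pullD g D (S.fromSpecStalk a))
  exact eff₀_of_proper_surjective_affine (S.presheaf.stalk a)
    (pullback.snd g (S.fromSpecStalk a)) (pullD g D (S.fromSpecStalk a))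

/-- **S14773**. -/
theorem main_S14773 {S S' : Scheme.{u}} (g : S' ⟶ S) [IsProper g] [Surjective g]
    [LocallyOfFinitePresentation g]
    (D : Desc.SchDD g) [QuasiCompact D.obj.hom] [IsSeparated D.obj.hom] [Etale D.obj.hom] :
    ∃ U : Over S, QuasiCompact U.hom ∧ IsSeparated U.hom ∧ Etale U.hom ∧
      Nonempty ((Desc.toDD g).obj U ≅ D) := by
  have hg : SGA1.UnivSubmersive g := univSubmersive_of_universallyClosed_of_surjective g
  let D' : Desc.SchDDFam (fun _ : PUnit.{1} => g) := (Desc.SchDDFam.ofSchDD.{0} g).obj D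
  haveI : Etale (D'.obj PUnit.unit).hom := ‹Etale D.obj.hom›
  haveI : IsSeparated (D'.obj PUnit.unit).hom := ‹IsSeparated D.obj.hom›
  haveI : QuasiCompact (D'.obj PUnit.unit).hom := ‹QuasiCompact D.obj.hom›
  obtain ⟨U, hU, ⟨Θ⟩⟩ := eff₀_of_proper_surjective g D'
  let d : EffData g D' (𝟙 S) U := EffData.ofIso₀ Θ
  refine ⟨U, d.quasiCompact hg, d.isSeparated hg, hU, ⟨?_⟩⟩
  exact (Desc.SchDDFam.toSchDD.{0} g).mapIso Θ

/-- **S2903**. -/
theorem main_S2903 {S S' : Scheme.{u}} (g : S' ⟶ S) [IsProper g] [Surjective g]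
    [LocallyOfFinitePresentation g] (D : Desc.SchDD g) [IsFinite D.obj.hom] [Etale D.obj.hom] :
    ∃ U : Over S, IsFinite U.hom ∧ Etale U.hom ∧ Nonempty ((Desc.toDD g).obj U ≅ D) := by
  obtain ⟨U, hqc, hsep, het, ⟨Θ⟩⟩ := main_S14773 g D
  haveI := hqc
  haveI := hsep
  haveI := het
  refine ⟨U, ?_, het, ⟨Θ⟩⟩
  -- the pullback of `U` is finite over `S'`
  have e1 : Θ.hom.hom.left ≫ D.obj.hom = pullback.fst g U.hom := Over.w Θ.hom.hom
  haveI : IsIso Θ.hom.hom.left := by
    refine ⟨Θ.inv.hom.left, ?_, ?_⟩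
    · have := congrArg (fun m => m.hom.left) Θ.hom_inv_id
      exact this
    · have := congrArg (fun m => m.hom.left) Θ.inv_hom_id
      exact this
  haveI : IsFinite (pullback.fst g U.hom) := by
    rw [← e1]
    infer_instance
  haveI : Surjective (pullback.snd g U.hom) := inferInstance
  haveI : UniversallyClosed (pullback.snd g U.hom ≫ U.hom) := by
    rw [← pullback.condition]
    infer_instance
  haveI : UniversallyClosed U.hom :=
    UniversallyClosed.of_comp_surjective (pullback.snd g U.hom) U.hom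
  haveI : LocallyQuasiFinite U.hom := locallyQuasiFinite_of_unramified' _
  haveI : IsProper U.hom := {}
  exact IsFinite.of_isProper_of_locallyQuasiFinite U.hom

end Main

end Groth.Agent.H5.EtDesc
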