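import Mathlib
import Groth.Prelude.Def_Desc
import Groth.Prelude.Def_DescFam
import Groth.Prelude.Def_SGA1
import Groth.Agent.Lib.Helper1.EtSections
import Groth.Agent.Lib.Helper5.EtDesc.EtZf

/-!
# Topological invariance of the étale site: descent of morphisms and canonical descent data
along integral, universally injective, surjective morphisms (S289, S75)
-/

set_option autoImplicit false
set_option backward.isDefEq.respectTransparency false
set_option backward.isDefEq.respectTransparency.types false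

universe u

open CategoryTheory CategoryTheory.Limits AlgebraicGeometry MorphismProperty

namespace Groth.Agent.H5.EtDesc

section UH

variable {X Y : Scheme.{u}} (f : X ⟶ Y) [IsIntegralHom f] [UniversallyInjective f] [Surjective f]

/-- **descent of morphisms into étale schemes** along a universal homeomorphism -/
theorem exists_unique_desc_hom {V₁ V₂ : Scheme.{u}} (a₁ : V₁ ⟶ Y) (a₂ : V₂ ⟶ Y) [Etale a₂]
    (φ : pullback a₁ f ⟶ pullback a₂ f) (hφ : φ ≫ pullback.snd a₂ f = pullback.snd a₁ f) :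
    ∃! ψ : V₁ ⟶ V₂, ψ ≫ a₂ = a₁ ∧ pullback.fst a₁ f ≫ ψ = φ ≫ pullback.fst a₂ f := by
  let q : pullback a₁ f ⟶ V₁ := pullback.fst a₁ f
  haveI : IsIntegralHom q := MorphismProperty.pullback_fst (P := @IsIntegralHom) _ _ inferInstance
  haveI : UniversallyInjective q :=
    MorphismProperty.pullback_fst (P := @UniversallyInjective) _ _ inferInstance
  haveI : Surjective q := MorphismProperty.pullback_fst (P := @Surjective) _ _ inferInstance
  let p : pullback a₂ a₁ ⟶ V₁ := pullback.snd a₂ a₁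
  haveI : Etale p := inferInstance
  have hc : (φ ≫ pullback.fst a₂ f) ≫ a₂ = q ≫ a₁ := by
    rw [Category.assoc, pullback.condition, reassoc_of% hφ]
    exact pullback.condition.symm
  let s' : pullback a₁ f ⟶ pullback p q :=
    pullback.lift (pullback.lift (φ ≫ pullback.fst a₂ f) q hc) (𝟙 _)
      (by rw [pullback.lift_snd, Category.id_comp])
  have hs' : s' ≫ pullback.snd p q = 𝟙 _ := pullback.lift_snd _ _ _
  obtain ⟨s, hs1, hs2⟩ := Groth.Agent.H1.EtSections.exists_section_of_section_pullback p q s' hs'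
  have hs'f : s' ≫ pullback.fst p q = pullback.lift (φ ≫ pullback.fst a₂ f) q hc :=
    pullback.lift_fst _ _ _
  refine ⟨s ≫ pullback.fst a₂ a₁, ⟨?_, ?_⟩, ?_⟩
  · rw [Category.assoc, pullback.condition, reassoc_of% hs1]
  · change q ≫ s ≫ pullback.fst a₂ a₁ = _
    rw [← Category.assoc, ← hs2, hs'f, pullback.lift_fst]
  · rintro ψ' ⟨h1, h2⟩
    refine Groth.Agent.H1.EtSections.eq_of_comp_eq_of_surjective a₂ q _ _ ?_ ?_
    · rw [h1, Category.assoc, pullback.condition, reassoc_of% hs1]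
    · change pullback.fst a₁ f ≫ ψ' = q ≫ s ≫ pullback.fst a₂ a₁
      rw [h2, ← Category.assoc q, ← hs2, hs'f, pullback.lift_fst]

section Functor

variable (P : MorphismProperty Scheme.{u}) [P.IsStableUnderBaseChange] (hP : P ≤ @Etale)

include hP in
/-- base change along a universal homeomorphism is faithful on étale schemes -/
theorem faithful_pullback : (MorphismProperty.Over.pullback P ⊤ f).Faithful := by
  constructor
  intro A B g g' h
  haveI : Etale B.hom := hP _ B.prop
  have h1 : ((MorphismProperty.Over.pullback P ⊤ f).map g).left ≫ pullback.fst B.hom f =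
      ((MorphismProperty.Over.pullback P ⊤ f).map g').left ≫ pullback.fst B.hom f := by rw [h]
  have e1 : ((MorphismProperty.Over.pullback P ⊤ f).map g).left ≫ pullback.fst B.hom f =
      pullback.fst A.hom f ≫ g.left := pullback.lift_fst _ _ _
  have e2 : ((MorphismProperty.Over.pullback P ⊤ f).map g').left ≫ pullback.fst B.hom f =
      pullback.fst A.hom f ≫ g'.left := pullback.lift_fst _ _ _
  rw [e1, e2] at h1
  haveI : Surjective (pullback.fst A.hom f) :=
    MorphismProperty.pullback_fst (P := @Surjective) _ _ inferInstance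
  apply MorphismProperty.Over.Hom.ext
  exact Groth.Agent.H1.EtSections.eq_of_comp_eq_of_surjective B.hom (pullback.fst A.hom f) _ _
    ((MorphismProperty.Over.w g).trans (MorphismProperty.Over.w g').symm) h1

include hP in
/-- base change along a universal homeomorphism is full on étale schemes -/
theorem full_pullback : (MorphismProperty.Over.pullback P ⊤ f).Full := by
  constructor
  intro A B φ
  haveI : Etale B.hom := hP _ B.prop
  have hφ : φ.left ≫ pullback.snd B.hom f = pullback.snd A.hom f := MorphismProperty.Over.w φ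
  obtain ⟨ψ, ⟨h1, h2⟩, -⟩ := exists_unique_desc_hom f A.hom B.hom φ.left hφ
  refine ⟨MorphismProperty.Over.homMk ψ h1 trivial, ?_⟩
  apply MorphismProperty.Over.Hom.ext
  apply pullback.hom_ext
  · refine (pullback.lift_fst _ _ _).trans ?_
    exact h2
  · refine (pullback.lift_snd _ _ _).trans ?_
    exact hφ.symm

end Functor

section Tau

variable {W : Scheme.{u}} (a : W ⟶ X) [Etale a]

instance isIntegralHom_diagonal : IsIntegralHom (pullback.diagonal f) := inferInstance

instance surjective_diagonal : Surjective (pullback.diagonal f) :=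
  (UniversallyInjective.iff_diagonal f).mp inferInstance

/-- the equalizer of two points of `X` with the same image in `Y` -/
noncomputable abbrev eqz {T : Scheme.{u}} (u₁ u₂ : T ⟶ X) (h : u₁ ≫ f = u₂ ≫ f) :
    pullback (pullback.lift u₁ u₂ h) (pullback.diagonal f) ⟶ T :=
  pullback.fst _ _

lemma eqz_comp {T : Scheme.{u}} (u₁ u₂ : T ⟶ X) (h : u₁ ≫ f = u₂ ≫ f) :
    eqz f u₁ u₂ h ≫ u₁ = eqz f u₁ u₂ h ≫ u₂ := by
  have hc : eqz f u₁ u₂ h ≫ pullback.lift u₁ u₂ h =
      pullback.snd (pullback.lift u₁ u₂ h) (pullback.diagonal f) ≫ pullback.diagonal f :=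
    pullback.condition
  have h1 := congrArg (· ≫ pullback.fst f f) hc
  have h2 := congrArg (· ≫ pullback.snd f f) hc
  simp only [Category.assoc, pullback.lift_fst, pullback.lift_snd, pullback.diagonal_fst,
    pullback.diagonal_snd, Category.comp_id] at h1 h2
  rw [h1, h2]

instance {T : Scheme.{u}} (u₁ u₂ : T ⟶ X) (h : u₁ ≫ f = u₂ ≫ f) :
    IsIntegralHom (eqz f u₁ u₂ h) :=
  MorphismProperty.pullback_fst (P := @IsIntegralHom) _ _ inferInstance

instance {T : Scheme.{u}} (u₁ u₂ : T ⟶ X) (h : u₁ ≫ f = u₂ ≫ f) :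
    UniversallyInjective (eqz f u₁ u₂ h) :=
  MorphismProperty.pullback_fst (P := @UniversallyInjective) _ _ inferInstance

instance {T : Scheme.{u}} (u₁ u₂ : T ⟶ X) (h : u₁ ≫ f = u₂ ≫ f) :
    Surjective (eqz f u₁ u₂ h) :=
  MorphismProperty.pullback_fst (P := @Surjective) _ _ inferInstance

/-- a point equalizing `u₁, u₂` factors through the equalizer -/
lemma exists_fac_eqz {T R : Scheme.{u}} (u₁ u₂ : T ⟶ X) (h : u₁ ≫ f = u₂ ≫ f) (r : R ⟶ T)
    (hr : r ≫ u₁ = r ≫ u₂) : ∃ r' : R ⟶ pullback (pullback.lift u₁ u₂ h) (pullback.diagonal f),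
      r' ≫ eqz f u₁ u₂ h = r := by
  refine ⟨pullback.lift r (r ≫ u₁) ?_, pullback.lift_fst _ _ _⟩
  apply pullback.hom_ext
  · rw [Category.assoc, Category.assoc, pullback.lift_fst, pullback.diagonal_fst, Category.comp_id]
  · rw [Category.assoc, Category.assoc, pullback.lift_snd, pullback.diagonal_snd, Category.comp_id,
      hr]

/-- the canonical transport morphism -/
theorem exists_tau : ∃ τ : pullback (a ≫ f) f ⟶ W, τ ≫ a = pullback.snd (a ≫ f) f ∧
    ∀ {T : Scheme.{u}} (v : T ⟶ W) (y : T ⟶ X) (h : v ≫ a ≫ f = y ≫ f), v ≫ a = y →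
      pullback.lift v y h ≫ τ = v := by
  let v₀ : pullback (a ≫ f) f ⟶ W := pullback.fst _ _
  let y₀ : pullback (a ≫ f) f ⟶ X := pullback.snd _ _
  have h₀ : (v₀ ≫ a) ≫ f = y₀ ≫ f := by
    rw [Category.assoc]
    exact pullback.condition
  let q := eqz f (v₀ ≫ a) y₀ h₀
  have hq : q ≫ v₀ ≫ a = q ≫ y₀ := eqz_comp f _ _ h₀
  let p : pullback a y₀ ⟶ pullback (a ≫ f) f := pullback.snd a y₀
  haveI : Etale p := inferInstance
  let s' : pullback (pullback.lift (v₀ ≫ a) y₀ h₀) (pullback.diagonal f) ⟶ pullback p q :=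
    pullback.lift (pullback.lift (q ≫ v₀) q (by rw [Category.assoc]; exact hq)) (𝟙 _)
      (by rw [pullback.lift_snd, Category.id_comp])
  have hs' : s' ≫ pullback.snd p q = 𝟙 _ := pullback.lift_snd _ _ _
  obtain ⟨s, hs1, hs2⟩ := Groth.Agent.H1.EtSections.exists_section_of_section_pullback p q s' hs'
  have hs'f : s' ≫ pullback.fst p q =
      pullback.lift (q ≫ v₀) q (by rw [Category.assoc]; exact hq) := pullback.lift_fst _ _ _
  have hqτ : q ≫ s ≫ pullback.fst a y₀ = q ≫ v₀ := by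
    rw [← Category.assoc, ← hs2, hs'f, pullback.lift_fst]
  refine ⟨s ≫ pullback.fst a y₀, ?_, ?_⟩
  · rw [Category.assoc, pullback.condition, reassoc_of% hs1]
  · intro T v y h hvy
    have hr : pullback.lift v y h ≫ (v₀ ≫ a) = pullback.lift v y h ≫ y₀ := by
      rw [← Category.assoc, pullback.lift_fst, pullback.lift_snd, hvy]
    obtain ⟨r', hr'⟩ := exists_fac_eqz f (v₀ ≫ a) y₀ h₀ (pullback.lift v y h) hr
    have hr'' : r' ≫ q = pullback.lift v y h := hr'
    rw [← hr'', Category.assoc, hqτ, ← Category.assoc, hr'', pullback.lift_fst]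

/-- **the canonical descent datum** on an étale scheme over `X`, relative to a universal
homeomorphism `f : X ⟶ Y` -/
theorem nonempty_tauData : Nonempty (TauData f a) := by
  obtain ⟨τ, hτ, hself⟩ := exists_tau f a
  have hnat : ∀ {T R : Scheme.{u}} (r : R ⟶ T) (v : T ⟶ W) (y : T ⟶ X)
      (h : v ≫ a ≫ f = y ≫ f),
      r ≫ pullback.lift v y h ≫ τ =
        pullback.lift (r ≫ v) (r ≫ y) (by rw [Category.assoc, h, Category.assoc]) ≫ τ := by
    intro T R r v y h
    rw [← Category.assoc]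
    congr 1
    apply pullback.hom_ext
    · rw [Category.assoc, pullback.lift_fst, pullback.lift_fst]
    · rw [Category.assoc, pullback.lift_snd, pullback.lift_snd]
  refine ⟨{ τ := τ, τ_hom := hτ, self := hself _ _ _ (Category.id_comp _), coc := ?_ }⟩
  intro T v y₁ y₂ h₁ h₂ h₃
  -- pass to the locus where `v ≫ a = y₁ = y₂`
  have h₁' : (v ≫ a) ≫ f = y₁ ≫ f := by rw [Category.assoc]; exact h₁
  let r₁ := eqz f (v ≫ a) y₁ h₁'
  have hr₁ : r₁ ≫ v ≫ a = r₁ ≫ y₁ := eqz_comp f _ _ h₁'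
  have h₁₂ : (r₁ ≫ y₁) ≫ f = (r₁ ≫ y₂) ≫ f := by
    rw [Category.assoc, Category.assoc, ← h₁, h₃]
  let r₂ := eqz f (r₁ ≫ y₁) (r₁ ≫ y₂) h₁₂
  have hr₂ : r₂ ≫ r₁ ≫ y₁ = r₂ ≫ r₁ ≫ y₂ := eqz_comp f _ _ h₁₂
  haveI : Surjective (r₂ ≫ r₁) := inferInstance
  refine Groth.Agent.H1.EtSections.eq_of_comp_eq_of_surjective a (r₂ ≫ r₁) _ _ ?_ ?_
  · rw [Category.assoc, Category.assoc, hτ, pullback.lift_snd, pullback.lift_snd]
  · have e1 : (r₂ ≫ r₁) ≫ v ≫ a = (r₂ ≫ r₁) ≫ y₁ := by
      rw [Category.assoc, hr₁, Category.assoc]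
    have e2 : (r₂ ≫ r₁) ≫ v ≫ a = (r₂ ≫ r₁) ≫ y₂ := by
      rw [e1, Category.assoc, hr₂, Category.assoc]
    have k1 : (r₂ ≫ r₁) ≫ pullback.lift v y₁ h₁ ≫ τ = (r₂ ≫ r₁) ≫ v := by
      rw [hnat]
      exact hself _ _ _ (by rw [Category.assoc]; exact e1)
    have k2 : (r₂ ≫ r₁) ≫ pullback.lift v y₂ h₃ ≫ τ = (r₂ ≫ r₁) ≫ v := by
      rw [hnat]
      exact hself _ _ _ (by rw [Category.assoc]; exact e2)
    rw [hnat, k2]
    have h₂'' : pullback.lift v y₁ h₁ ≫ τ ≫ a ≫ f = y₂ ≫ f := by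
      rw [← Category.assoc]; exact h₂
    have hA : ((r₂ ≫ r₁) ≫ pullback.lift v y₁ h₁ ≫ τ) ≫ a ≫ f = ((r₂ ≫ r₁) ≫ y₂) ≫ f := by
      simp only [Category.assoc, h₂'']
    have hB : ((r₂ ≫ r₁) ≫ v) ≫ a ≫ f = ((r₂ ≫ r₁) ≫ y₂) ≫ f := by
      simp only [Category.assoc, h₃]
    have k3 : pullback.lift ((r₂ ≫ r₁) ≫ pullback.lift v y₁ h₁ ≫ τ) ((r₂ ≫ r₁) ≫ y₂) hA =
        pullback.lift ((r₂ ≫ r₁) ≫ v) ((r₂ ≫ r₁) ≫ y₂) hB := by
      apply pullback.hom_ext
      · rw [pullback.lift_fst, pullback.lift_fst, k1]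
      · rw [pullback.lift_snd, pullback.lift_snd]
    rw [k3]
    exact hself _ _ _ (by rw [Category.assoc]; exact e2)

end Tau

end UH

end Groth.Agent.H5.EtDesc
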