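import Mathlib
import Groth.Prelude.Def_Desc
import Groth.Prelude.Def_DescFam
import Groth.Prelude.Def_SGA1
import Groth.Prelude.Def_FEt
import Groth.Agent.Lib.Helper5.EtDesc.EtZs
import Groth.Agent.Lib.Helper5.EtDesc.EtZn

/-!
# Topological invariance of the category of finite étale covers (S289)
-/

set_option autoImplicit false
set_option backward.isDefEq.respectTransparency false
set_option backward.isDefEq.respectTransparency.types false

universe u

open CategoryTheory CategoryTheory.Limits AlgebraicGeometry MorphismProperty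

namespace Groth.Agent.H5.EtDesc

section UH

variable {X Y : Scheme.{u}} (f : X ⟶ Y) [IsIntegralHom f] [UniversallyInjective f] [Surjective f]

/-- étale separated quasi-compact schemes descend along universal homeomorphisms -/
theorem exists_descent_etale_sep_qc {W : Scheme.{u}} (a : W ⟶ X) [Etale a] [IsSeparated a]
    [QuasiCompact a] :
    ∃ (U : Scheme.{u}) (b : U ⟶ Y), Etale b ∧ IsSeparated b ∧ QuasiCompact b ∧
      ∃ e : pullback b f ≅ W, e.hom ≫ a = pullback.snd b f := by
  obtain ⟨t⟩ := nonempty_tauData f a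
  have hf : SGA1.UnivSubmersive f := univSubmersive_of_universallyClosed_of_surjective f
  haveI : Etale (((ddOfTau t).obj PUnit.unit).hom) := inferInstanceAs (Etale a)
  haveI : IsSeparated (((ddOfTau t).obj PUnit.unit).hom) := inferInstanceAs (IsSeparated a)
  haveI : QuasiCompact (((ddOfTau t).obj PUnit.unit).hom) := inferInstanceAs (QuasiCompact a)
  obtain ⟨U, hU, ⟨Θ⟩⟩ := eff₀_of_integral_surjective f (ddOfTau t)
  let d : EffData f (ddOfTau t) (𝟙 Y) U := EffData.ofIso₀ Θ
  let d₀ : Eff0Data f (ddOfTau t) U := Eff0Data.ofIso Θ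
  refine ⟨U.left, U.hom, hU, d.isSeparated hf, d.quasiCompact hf,
    (pullbackSymmetry U.hom f) ≪≫ asIso d₀.ev, ?_⟩
  have h1 : d₀.ev ≫ a = pullback.fst f U.hom := d₀.ev_hom
  rw [Iso.trans_hom, asIso_hom, Category.assoc, h1]
  exact pullbackSymmetry_hom_comp_fst _ _

/-- finite étale covers descend along universal homeomorphisms -/
theorem exists_descent_finite_etale {W : Scheme.{u}} (a : W ⟶ X) [Etale a] [IsFinite a] :
    ∃ (U : Scheme.{u}) (b : U ⟶ Y), IsFinite b ∧ Etale b ∧
      ∃ e : pullback b f ≅ W, e.hom ≫ a = pullback.snd b f := by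
  obtain ⟨U, b, hb1, hb2, hb3, e, he⟩ := exists_descent_etale_sep_qc f a
  haveI := hb1
  haveI := hb2
  haveI := hb3
  refine ⟨U, b, ?_, hb1, e, he⟩
  haveI : IsFinite (pullback.snd b f) := by
    rw [← he]
    infer_instance
  haveI : Surjective (pullback.fst b f) :=
    MorphismProperty.pullback_fst (P := @Surjective) _ _ inferInstance
  haveI : UniversallyClosed (pullback.fst b f ≫ b) := by
    rw [pullback.condition]
    infer_instance
  haveI : UniversallyClosed b := UniversallyClosed.of_comp_surjective (pullback.fst b f) b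
  haveI : LocallyQuasiFinite b := locallyQuasiFinite_of_unramified' _
  haveI : IsProper b := {}
  exact IsFinite.of_isProper_of_locallyQuasiFinite b

/-- **S289** -/
theorem main_S289 : (FEt.restrict f).IsEquivalence := by
  have hP : FEt.prop.{u} ≤ @Etale := fun _ _ _ h => h.2
  haveI : (FEt.restrict f).Faithful := faithful_pullback f FEt.prop hP
  haveI : (FEt.restrict f).Full := full_pullback f FEt.prop hP
  haveI : (FEt.restrict f).EssSurj := by
    constructor
    intro Wo
    haveI : IsFinite Wo.hom := Wo.prop.1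
    haveI : Etale Wo.hom := Wo.prop.2
    obtain ⟨U, b, hb1, hb2, e, he⟩ := exists_descent_finite_etale f Wo.hom
    refine ⟨MorphismProperty.Over.mk ⊤ b ⟨hb1, hb2⟩, ⟨?_⟩⟩
    exact MorphismProperty.Over.isoMk e he
  exact { }

end UH

end Groth.Agent.H5.EtDesc
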