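import Mathlib
import Groth.Prelude.Def_SGA1
import Groth.Agent.Lib.Helper1.EtSections
import Groth.Agent.Lib.Helper5.EtDesc.EtU

/-!
# Gluing of descended étale schemes along a universally injective, universally submersive morphism
-/

set_option autoImplicit false
set_option backward.isDefEq.respectTransparency false
set_option backward.isDefEq.respectTransparency.types false

universe u

open CategoryTheory CategoryTheory.Limits AlgebraicGeometry MorphismProperty

namespace Groth.Agent.H5.EtDesc.Ti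

/-- étale + universally injective ⇒ open immersion -/
lemma isOpenImmersion_of_etale_of_universallyInjective {A B : Scheme.{u}} (e : A ⟶ B) [Etale e]
    [UniversallyInjective e] : IsOpenImmersion e := by
  haveI : Surjective (pullback.diagonal e) := (UniversallyInjective.iff_diagonal e).mp inferInstance
  haveI : IsIso (pullback.diagonal e) :=
    (isIso_iff_isOpenImmersion_and_surjective _).mpr ⟨inferInstance, inferInstance⟩
  haveI : Mono e := (pullback.isIso_diagonal_iff e).mp inferInstance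
  exact IsOpenImmersion.of_flat_of_mono e

section Glue

variable {X Y : Scheme.{u}} (f : X ⟶ Y)

lemma univSubmersive_of_isPullback (hf : SGA1.UnivSubmersive f) {W U : Scheme.{u}} {p : W ⟶ U}
    {a : W ⟶ X} {b : U ⟶ Y} (h : IsPullback p a b f) : SGA1.UnivSubmersive p := by
  haveI : (SGA1.UnivSubmersive : MorphismProperty Scheme.{u}).IsStableUnderBaseChange := by
    unfold SGA1.UnivSubmersive
    infer_instance
  exact MorphismProperty.of_isPullback h.flip hf

/-- descent of morphisms between étale schemes, in square form -/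
theorem exists_unique_desc_sq (hf : SGA1.UnivSubmersive f) [UniversallyInjective f]
    {U₁ U₂ W₁ W₂ : Scheme.{u}} {p₁ : W₁ ⟶ U₁} {a₁ : W₁ ⟶ X} {b₁ : U₁ ⟶ Y}
    {p₂ : W₂ ⟶ U₂} {a₂ : W₂ ⟶ X} {b₂ : U₂ ⟶ Y} [Etale b₂]
    (h₁ : IsPullback p₁ a₁ b₁ f) (h₂ : IsPullback p₂ a₂ b₂ f) (φ : W₁ ⟶ W₂)
    (hφ : φ ≫ a₂ = a₁) :
    ∃! ψ : U₁ ⟶ U₂, ψ ≫ b₂ = b₁ ∧ p₁ ≫ ψ = φ ≫ p₂ := by
  have hp₁ : SGA1.UnivSubmersive p₁ := univSubmersive_of_isPullback f hf h₁
  haveI : UniversallyInjective p₁ :=
    MorphismProperty.of_isPullback (P := @UniversallyInjective) h₁.flip inferInstance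
  refine exists_unique_desc b₂ b₁ p₁ hp₁ (φ ≫ p₂) ?_ ?_
  · rw [Category.assoc, h₂.w, reassoc_of% hφ, h₁.w]
  · intro K _ α β hαβ
    have h01 : UniversallyInjective p₁ → ∀ (K : Type u) [Field K],
        Function.Injective (fun g : Spec (.of K) ⟶ W₁ ↦ g ≫ p₁) :=
      ((tfae_universallyInjective p₁).out 0 1).mp
    have := h01 inferInstance K hαβ
    rw [this]

/-- **gluing of descended étale schemes** along a locally directed open cover of the source -/
theorem exists_descent_of_cover (hf : SGA1.UnivSubmersive f) [UniversallyInjective f]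
    {W : Scheme.{u}} (a : W ⟶ X) (𝒲 : Scheme.OpenCover.{u} W) [Category.{u} 𝒲.I₀]
    [Quiver.IsThin 𝒲.I₀] [𝒲.LocallyDirected]
    (H : ∀ i, ∃ (U : Scheme.{u}) (b : U ⟶ Y) (p : 𝒲.X i ⟶ U),
      Etale b ∧ IsPullback p (𝒲.f i ≫ a) b f) :
    ∃ (U : Scheme.{u}) (b : U ⟶ Y) (p : W ⟶ U), Etale b ∧ IsPullback p a b f := by
  choose U b p hb hpb using H
  haveI := hb
  haveI : Surjective f := UnivSubmersive.surjective hf
  haveI hps : ∀ i, Surjective (p i) := fun i =>
    MorphismProperty.of_isPullback (P := @Surjective) (hpb i).flip inferInstance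
  haveI hpi : ∀ i, UniversallyInjective (p i) := fun i =>
    MorphismProperty.of_isPullback (P := @UniversallyInjective) (hpb i).flip inferInstance
  have hψ : ∀ {i j : 𝒲.I₀} (hij : i ⟶ j), ∃! ψ : U i ⟶ U j,
      ψ ≫ b j = b i ∧ p i ≫ ψ = 𝒲.trans hij ≫ p j := fun {i j} hij =>
    exists_unique_desc_sq f hf (hpb i) (hpb j) (𝒲.trans hij)
      (by rw [← Category.assoc, 𝒲.trans_map])
  let ψ : ∀ {i j : 𝒲.I₀} (hij : i ⟶ j), U i ⟶ U j := fun hij => (hψ hij).choose
  have ψ1 : ∀ {i j : 𝒲.I₀} (hij : i ⟶ j), ψ hij ≫ b j = b i := fun hij =>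
    (hψ hij).choose_spec.1.1
  have ψ2 : ∀ {i j : 𝒲.I₀} (hij : i ⟶ j), p i ≫ ψ hij = 𝒲.trans hij ≫ p j := fun hij =>
    (hψ hij).choose_spec.1.2
  have ψu : ∀ {i j : 𝒲.I₀} (hij : i ⟶ j) (ψ' : U i ⟶ U j), ψ' ≫ b j = b i →
      p i ≫ ψ' = 𝒲.trans hij ≫ p j → ψ' = ψ hij := fun hij ψ' h1 h2 =>
    (hψ hij).choose_spec.2 ψ' ⟨h1, h2⟩
  let F : 𝒲.I₀ ⥤ Scheme.{u} :=
    { obj := U
      map := fun hij => ψ hij
      map_id := fun i => (ψu (𝟙 i) (𝟙 _) (Category.id_comp _)
        (by rw [𝒲.trans_id, Category.comp_id, Category.id_comp])).symm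
      map_comp := fun hij hjk => (ψu (hij ≫ hjk) (ψ hij ≫ ψ hjk)
        (by rw [Category.assoc, ψ1, ψ1])
        (by rw [← Category.assoc, ψ2, Category.assoc, ψ2, 𝒲.trans_comp, Category.assoc])).symm }
  have hsq : ∀ {i j : 𝒲.I₀} (hij : i ⟶ j), IsPullback (𝒲.trans hij) (p i) (p j) (ψ hij) := by
    intro i j hij
    have big : IsPullback (𝒲.trans hij ≫ 𝒲.f j ≫ a) (p i) f (ψ hij ≫ b j) := by
      rw [ψ1, ← Category.assoc, 𝒲.trans_map]
      exact (hpb i).flip
    exact IsPullback.of_right big (ψ2 hij).symm (hpb j).flip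
  haveI hFo : ∀ {i j : 𝒲.I₀} (hij : i ⟶ j), IsOpenImmersion (F.map hij) := by
    intro i j hij
    change IsOpenImmersion (ψ hij)
    haveI : UniversallyInjective (ψ hij) :=
      Groth.Agent.H1.EtSections.universallyInjective_of_isPullback_of_surjective (hsq hij)
    haveI : Etale (ψ hij) :=
      MorphismProperty.of_postcomp (W := @Etale) (W' := @Etale) (ψ hij) (b j) (hb j)
        (by rw [ψ1]; exact hb i)
    exact isOpenImmersion_of_etale_of_universallyInjective _
  haveI : (F ⋙ Scheme.forget).IsLocallyDirected := by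
    constructor
    intro i j k fi fj xi xj hx
    obtain ⟨wi, rfl⟩ := (p i).surjective xi
    obtain ⟨wj, rfl⟩ := (p j).surjective xj
    have hx' : ψ fi (p i wi) = ψ fj (p j wj) := hx
    rw [← Scheme.Hom.comp_apply, ← Scheme.Hom.comp_apply, ψ2, ψ2, Scheme.Hom.comp_apply,
      Scheme.Hom.comp_apply] at hx'
    have hx'' := (p k).injective hx'
    obtain ⟨l, fli, flj, w, h1, h2⟩ := 𝒲.exists_of_trans_eq_trans fi fj wi wj hx''
    refine ⟨l, fli, flj, p l w, ?_, ?_⟩
    · change ψ fli (p l w) = p i wi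
      rw [← Scheme.Hom.comp_apply, ψ2, Scheme.Hom.comp_apply, h1]
    · change ψ flj (p l w) = p j wj
      rw [← Scheme.Hom.comp_apply, ψ2, Scheme.Hom.comp_apply, h2]
  have hnat : ∀ ⦃i j : 𝒲.I₀⦄ (hij : i ⟶ j),
      F.map hij ≫ b j = b i ≫ ((Functor.const 𝒲.I₀).obj Y).map hij := by
    intro i j hij
    change ψ hij ≫ b j = b i ≫ 𝟙 _
    rw [ψ1, Category.comp_id]
  let c : Cocone F := { pt := Y, ι := { app := b, naturality := hnat } }
  let bb : colimit F ⟶ Y := colimit.desc F c
  have hbb : ∀ i, colimit.ι F i ≫ bb = b i := fun i => colimit.ι_desc c i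
  haveI : Etale bb := by
    refine IsZariskiLocalAtSource.of_openCover (P := @Etale)
      (Scheme.IsLocallyDirected.openCover F) (fun i => ?_)
    change Etale (colimit.ι F i ≫ bb)
    rw [hbb]
    exact hb i
  let pp : W ⟶ colimit F := 𝒲.glueMorphismsOfLocallyDirected (fun i => p i ≫ colimit.ι F i)
    (fun {i j} hij => by
      rw [← Category.assoc, ← ψ2, Category.assoc]
      congr 1
      exact colimit.w F hij)
  have hpp : ∀ i, 𝒲.f i ≫ pp = p i ≫ colimit.ι F i := fun i =>
    𝒲.map_glueMorphismsOfLocallyDirected _ _ i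
  have comm : pp ≫ bb = a ≫ f := by
    refine 𝒲.hom_ext _ _ (fun i => ?_)
    rw [reassoc_of% hpp, hbb, (hpb i).w, Category.assoc]
  let h : W ⟶ pullback bb f := pullback.lift pp a comm
  have hh1 : h ≫ pullback.fst bb f = pp := pullback.lift_fst _ _ _
  have hh2 : h ≫ pullback.snd bb f = a := pullback.lift_snd _ _ _
  -- injectivity of `pp`
  have hinj : Function.Injective pp := by
    intro w w' hww
    obtain ⟨i, wi, rfl⟩ := 𝒲.exists_eq w
    obtain ⟨j, wj, rfl⟩ := 𝒲.exists_eq w'
    rw [← Scheme.Hom.comp_apply, ← Scheme.Hom.comp_apply, hpp, hpp, Scheme.Hom.comp_apply,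
      Scheme.Hom.comp_apply] at hww
    obtain ⟨k, fi, fj, x, h1, h2⟩ := (Scheme.IsLocallyDirected.ι_eq_ι_iff F).mp hww
    obtain ⟨wk, rfl⟩ := (p k).surjective x
    have h1' : ψ fi (p k wk) = p i wi := h1
    have h2' : ψ fj (p k wk) = p j wj := h2
    have e1 : 𝒲.trans fi wk = wi := (p i).injective (by
      rw [← Scheme.Hom.comp_apply, ← ψ2, Scheme.Hom.comp_apply]; exact h1')
    have e2 : 𝒲.trans fj wk = wj := (p j).injective (by
      rw [← Scheme.Hom.comp_apply, ← ψ2, Scheme.Hom.comp_apply]; exact h2')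
    rw [← e1, ← e2, ← Scheme.Hom.comp_apply, ← Scheme.Hom.comp_apply, 𝒲.trans_map, 𝒲.trans_map]
  have hinj' : Function.Injective h := by
    intro w w' hww
    apply hinj
    rw [← hh1, Scheme.Hom.comp_apply, Scheme.Hom.comp_apply, hww]
  -- local structure of `h`
  haveI hloc : ∀ i, IsOpenImmersion (𝒲.f i ≫ h) := by
    intro i
    have e : 𝒲.f i ≫ h = (hpb i).isoPullback.hom ≫
        pullback.map (b i) f bb f (colimit.ι F i) (𝟙 X) (𝟙 Y)
          (by rw [Category.comp_id, hbb]) (by rw [Category.comp_id, Category.id_comp]) := by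
      apply pullback.hom_ext
      · rw [Category.assoc, hh1, hpp, Category.assoc, pullback.lift_fst,
          IsPullback.isoPullback_hom_fst_assoc]
      · rw [Category.assoc, hh2, Category.assoc, pullback.lift_snd, Category.comp_id,
          IsPullback.isoPullback_hom_snd]
    rw [e]
    infer_instance
  haveI : ∀ w, IsIso (h.stalkMap w) := by
    intro w
    obtain ⟨i, wi, rfl⟩ := 𝒲.exists_eq w
    haveI : IsIso (h.stalkMap (𝒲.f i wi) ≫ (𝒲.f i).stalkMap wi) := by
      rw [← Scheme.Hom.stalkMap_comp]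
      infer_instance
    exact IsIso.of_isIso_comp_right _ ((𝒲.f i).stalkMap wi)
  haveI : Etale (pullback.snd bb f) := inferInstance
  haveI : Etale h := by
    refine MorphismProperty.of_postcomp (W := @Etale) (W' := @Etale) h (pullback.snd bb f)
      inferInstance ?_
    rw [hh2]
    refine IsZariskiLocalAtSource.of_openCover (P := @Etale) 𝒲 (fun i => ?_)
    exact MorphismProperty.of_isPullback (P := @Etale) (hpb i) (hb i)
  have hemb : Topology.IsOpenEmbedding h :=
    .of_continuous_injective_isOpenMap h.continuous hinj' h.isOpenMap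
  haveI : IsOpenImmersion h := IsOpenImmersion.of_isIso_stalkMap h hemb
  haveI : UniversallyInjective (pullback.fst bb f) :=
    MorphismProperty.pullback_fst (P := @UniversallyInjective) _ _ inferInstance
  haveI : Surjective h := by
    constructor
    intro z
    obtain ⟨i, xi, hxi⟩ := Scheme.IsLocallyDirected.ι_jointly_surjective F (pullback.fst bb f z)
    obtain ⟨wi, rfl⟩ := (p i).surjective xi
    refine ⟨𝒲.f i wi, ?_⟩
    apply (pullback.fst bb f).injective
    rw [← Scheme.Hom.comp_apply, hh1, ← Scheme.Hom.comp_apply, hpp, Scheme.Hom.comp_apply]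
    exact hxi
  haveI : IsIso h := (isIso_iff_isOpenImmersion_and_surjective h).mpr ⟨inferInstance, inferInstance⟩
  exact ⟨colimit F, bb, pp, inferInstance,
    IsPullback.of_iso_pullback ⟨comm⟩ (asIso h) hh1 hh2⟩

end Glue

end Groth.Agent.H5.EtDesc.Ti
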