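import Mathlib
import Groth.Prelude.Def_SGA1
import Groth.Prelude.Def_EtBase
import Groth.Agent.Lib.Helper5.EtDesc.EtZt
import Groth.Agent.Lib.Helper5.EtDesc.TiA

/-!
# Topological invariance of the small étale site (S75)
-/

set_option autoImplicit false
set_option backward.isDefEq.respectTransparency false
set_option backward.isDefEq.respectTransparency.types false

universe u

open CategoryTheory CategoryTheory.Limits AlgebraicGeometry MorphismProperty

namespace Groth.Agent.H5.EtDesc.Ti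

section Cover

variable {X Y : Scheme.{u}} (f : X ⟶ Y) {W : Scheme.{u}} (a : W ⟶ X)

/-- affine opens of `W` lying over an affine open of `Y` -/
def JA : Type u :=
  {O : W.Opens // IsAffineOpen O ∧ ∃ Y₀ : Y.Opens, IsAffineOpen Y₀ ∧ O ≤ a ⁻¹ᵁ f ⁻¹ᵁ Y₀}

instance : Preorder (JA f a) :=
  inferInstanceAs (Preorder
    {O : W.Opens // IsAffineOpen O ∧ ∃ Y₀ : Y.Opens, IsAffineOpen Y₀ ∧ O ≤ a ⁻¹ᵁ f ⁻¹ᵁ Y₀})

lemma isBasis_JA : TopologicalSpace.Opens.IsBasis (Set.range (fun j : JA f a => j.1)) := by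
  rw [TopologicalSpace.Opens.isBasis_iff_nbhd]
  intro O x hx
  obtain ⟨Y₀, hY₀, hxY₀, -⟩ := TopologicalSpace.Opens.isBasis_iff_nbhd.mp Y.isBasis_affineOpens
    (show f (a x) ∈ (⊤ : Y.Opens) from trivial)
  have hx' : x ∈ O ⊓ a ⁻¹ᵁ f ⁻¹ᵁ Y₀ := ⟨hx, hxY₀⟩
  obtain ⟨O', hO', hxO', hle⟩ :=
    TopologicalSpace.Opens.isBasis_iff_nbhd.mp W.isBasis_affineOpens hx'
  exact ⟨O', ⟨⟨O', hO', Y₀, hY₀, hle.trans inf_le_right⟩, rfl⟩, hxO', hle.trans inf_le_left⟩

lemma isOpenCover_JA : TopologicalSpace.IsOpenCover (fun j : JA f a => j.1) := by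
  change ⨆ j : JA f a, j.1 = ⊤
  rw [eq_top_iff]
  intro x hx
  obtain ⟨O', ⟨j, rfl⟩, hxO', -⟩ :=
    TopologicalSpace.Opens.isBasis_iff_nbhd.mp (isBasis_JA f a) hx
  exact TopologicalSpace.Opens.mem_iSup.mpr ⟨j, hxO'⟩

/-- the cover of `W` by affine opens lying over affine opens of `Y` -/
noncomputable def jaCover : Scheme.OpenCover.{u} W :=
  W.openCoverOfIsOpenCover (fun j : JA f a => j.1) (isOpenCover_JA f a)

instance : Preorder (jaCover f a).I₀ := inferInstanceAs (Preorder (JA f a))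

lemma jaCover_opensRange (j : JA f a) : ((jaCover f a).f j).opensRange = j.1 := by
  change (j.1.ι).opensRange = j.1
  exact Scheme.Opens.opensRange_ι _

noncomputable instance : (jaCover f a).LocallyDirected :=
  .ofIsBasisOpensRange
    (by
      intro i j
      rw [jaCover_opensRange, jaCover_opensRange]
      exact Iff.rfl)
    (by
      have e : (fun i : (jaCover f a).I₀ => ((jaCover f a).f i).opensRange) =
          (fun j : JA f a => j.1) := funext (jaCover_opensRange f a)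
      rw [e]
      exact isBasis_JA f a)

end Cover

section UH

variable {X Y : Scheme.{u}} (f : X ⟶ Y) [IsIntegralHom f] [UniversallyInjective f] [Surjective f]

/-- local descent: an affine open of `W` over an affine open of `Y` descends -/
lemma exists_descent_piece {W : Scheme.{u}} (a : W ⟶ X) [Etale a] (O : W.Opens)
    (hO : IsAffineOpen O) (Y₀ : Y.Opens) (hY₀ : IsAffineOpen Y₀) (hle : O ≤ a ⁻¹ᵁ f ⁻¹ᵁ Y₀) :
    ∃ (U : Scheme.{u}) (b : U ⟶ Y) (p : O.toScheme ⟶ U), Etale b ∧ IsPullback p (O.ι ≫ a) b f := by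
  let X₀ : X.Opens := f ⁻¹ᵁ Y₀
  let f₀ : X₀.toScheme ⟶ Y₀.toScheme := f ∣_ Y₀
  have hsq : IsPullback X₀.ι f₀ f Y₀.ι := (isPullback_morphismRestrict f Y₀).flip
  haveI : IsIntegralHom f₀ := MorphismProperty.of_isPullback (P := @IsIntegralHom) hsq inferInstance
  haveI : UniversallyInjective f₀ :=
    MorphismProperty.of_isPullback (P := @UniversallyInjective) hsq inferInstance
  haveI : Surjective f₀ := MorphismProperty.of_isPullback (P := @Surjective) hsq inferInstance
  haveI : IsAffine O.toScheme := hO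
  haveI : IsAffine X₀.toScheme := hY₀.preimage f
  have hrange : Set.range (O.ι ≫ a) ⊆ Set.range X₀.ι := by
    rw [Scheme.Opens.range_ι]
    rintro _ ⟨w, rfl⟩
    exact hle w.2
  let aO : O.toScheme ⟶ X₀.toScheme := IsOpenImmersion.lift X₀.ι (O.ι ≫ a) hrange
  have haO : aO ≫ X₀.ι = O.ι ≫ a := IsOpenImmersion.lift_fac _ _ _
  haveI : Etale aO := by
    refine MorphismProperty.of_postcomp (W := @Etale) (W' := @Etale) aO X₀.ι inferInstance ?_
    rw [haO]
    infer_instance
  obtain ⟨U, b₀, hb1, hb2, hb3, e, he⟩ := exists_descent_etale_sep_qc f₀ aO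
  haveI := hb1
  have hleft : IsPullback (e.inv ≫ pullback.fst b₀ f₀) aO b₀ f₀ := by
    refine IsPullback.of_iso_pullback ⟨?_⟩ e.symm (by simp) ?_
    · rw [Category.assoc, pullback.condition, ← he, Category.assoc, Iso.inv_hom_id_assoc]
    · rw [Iso.symm_hom, ← he, Iso.inv_hom_id_assoc]
  have hbig := (hleft.flip.paste_horiz hsq).flip
  rw [haO] at hbig
  exact ⟨U, b₀ ≫ Y₀.ι, e.inv ≫ pullback.fst b₀ f₀, inferInstance, hbig⟩

/-- **étale schemes descend along universal homeomorphisms** -/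
theorem exists_descent_etale {W : Scheme.{u}} (a : W ⟶ X) [Etale a] :
    ∃ (U : Scheme.{u}) (b : U ⟶ Y) (p : W ⟶ U), Etale b ∧ IsPullback p a b f := by
  have hf : SGA1.UnivSubmersive f := univSubmersive_of_universallyClosed_of_surjective f
  refine exists_descent_of_cover f hf a (jaCover f a) (fun j => ?_)
  obtain ⟨hO, Y₀, hY₀, hle⟩ := j.2
  exact exists_descent_piece f a j.1 hO Y₀ hY₀ hle

/-- **S75** -/
theorem main_S75 : (EtCoh.bc f).IsEquivalence := by
  have hP : EtCoh.etaleMP.{u} ≤ @Etale := le_rfl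
  haveI : (EtCoh.bc f).Faithful := faithful_pullback f EtCoh.etaleMP hP
  haveI : (EtCoh.bc f).Full := full_pullback f EtCoh.etaleMP hP
  haveI : (EtCoh.bc f).EssSurj := by
    constructor
    intro Wo
    haveI : Etale Wo.hom := Wo.prop
    obtain ⟨U, b, p, hb, hpb⟩ := exists_descent_etale f Wo.hom
    refine ⟨MorphismProperty.Over.mk ⊤ b hb, ⟨?_⟩⟩
    exact MorphismProperty.Over.isoMk hpb.isoPullback.symm (hpb.isoPullback_inv_snd)
  exact { }

end UH

end Groth.Agent.H5.EtDesc.Ti
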