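import Mathlib
import Groth.Prelude.Def_Desc
import Groth.Prelude.Def_DescFam
import Groth.Prelude.Def_SGA1
import Groth.Prelude.Def_EtBase
import Groth.Agent.Lib.Helper1.EtSections
import Groth.Agent.Lib.Helper1.Subtr3
import Groth.Agent.Lib.Helper3.IQA.EtSep
import Groth.Agent.Lib.Helper5.EtDesc.EtZf
import Groth.Agent.Lib.Helper5.EtDesc.TiB
import Groth.Agent.Lib.Helper5.Ultra.UpD

/-!
# Radicial fpqc invariance of the small étale site (S5115)
-/

set_option autoImplicit false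
set_option backward.isDefEq.respectTransparency false
set_option backward.isDefEq.respectTransparency.types false

universe u

open CategoryTheory CategoryTheory.Limits AlgebraicGeometry MorphismProperty

namespace Groth.Agent.H5.EtDesc.Ti

section Functor

variable {X Y : Scheme.{u}} (f : X ⟶ Y) (hf : SGA1.UnivSubmersive f) [UniversallyInjective f]
variable (P : MorphismProperty Scheme.{u}) [P.IsStableUnderBaseChange] (hP : P ≤ @Etale)

include hf hP in
/-- base change along a universally submersive, universally injective morphism is faithful on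
étale schemes -/
theorem faithful_pullback' : (MorphismProperty.Over.pullback P ⊤ f).Faithful := by
  constructor
  intro A B g g' h
  haveI : Etale B.hom := hP _ B.prop
  have h1 : ((MorphismProperty.Over.pullback P ⊤ f).map g).left ≫ pullback.fst B.hom f =
      ((MorphismProperty.Over.pullback P ⊤ f).map g').left ≫ pullback.fst B.hom f := by rw [h]
  have e1 : ((MorphismProperty.Over.pullback P ⊤ f).map g).left ≫ pullback.fst B.hom f =
      pullback.fst A.hom f ≫ g.left := pullback.lift_fst _ _ _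
  have e2 : ((MorphismProperty.Over.pullback P ⊤ f).map g').left ≫ pullback.fst B.hom f =
      pullback.fst A.hom f ≫ g'.left := pullback.lift_fst _ _ _
  rw [e1, e2] at h1
  obtain ⟨ψ, -, hu⟩ := exists_unique_desc_sq f hf (IsPullback.of_hasPullback A.hom f)
    (IsPullback.of_hasPullback B.hom f) ((MorphismProperty.Over.pullback P ⊤ f).map g).left
    (MorphismProperty.Over.w ((MorphismProperty.Over.pullback P ⊤ f).map g))
  apply MorphismProperty.Over.Hom.ext
  rw [hu g.left ⟨MorphismProperty.Over.w g, e1.symm⟩,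
    hu g'.left ⟨MorphismProperty.Over.w g', by rw [e1, h1]⟩]

include hf hP in
/-- base change along a universally submersive, universally injective morphism is full on
étale schemes -/
theorem full_pullback' : (MorphismProperty.Over.pullback P ⊤ f).Full := by
  constructor
  intro A B φ
  haveI : Etale B.hom := hP _ B.prop
  have hφ : φ.left ≫ pullback.snd B.hom f = pullback.snd A.hom f := MorphismProperty.Over.w φ
  obtain ⟨ψ, ⟨h1, h2⟩, -⟩ := exists_unique_desc_sq f hf (IsPullback.of_hasPullback A.hom f)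
    (IsPullback.of_hasPullback B.hom f) φ.left hφ
  refine ⟨MorphismProperty.Over.homMk ψ h1 trivial, ?_⟩
  apply MorphismProperty.Over.Hom.ext
  apply pullback.hom_ext
  · refine (pullback.lift_fst _ _ _).trans ?_
    exact h2
  · refine (pullback.lift_snd _ _ _).trans ?_
    exact hφ.symm

end Functor

section Tau

variable {X Y : Scheme.{u}} (f : X ⟶ Y) [IsIntegralHom (pullback.diagonal f)]
  [Surjective (pullback.diagonal f)]

variable {W : Scheme.{u}} (a : W ⟶ X) [Etale a]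

/-- the equalizer of two points of `X` with the same image in `Y` -/
noncomputable abbrev eqz' {T : Scheme.{u}} (u₁ u₂ : T ⟶ X) (h : u₁ ≫ f = u₂ ≫ f) :
    pullback (pullback.lift u₁ u₂ h) (pullback.diagonal f) ⟶ T :=
  pullback.fst _ _

lemma eqz'_comp {T : Scheme.{u}} (u₁ u₂ : T ⟶ X) (h : u₁ ≫ f = u₂ ≫ f) :
    eqz' f u₁ u₂ h ≫ u₁ = eqz' f u₁ u₂ h ≫ u₂ := by
  have hc : eqz' f u₁ u₂ h ≫ pullback.lift u₁ u₂ h =
      pullback.snd (pullback.lift u₁ u₂ h) (pullback.diagonal f) ≫ pullback.diagonal f :=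
    pullback.condition
  have h1 := congrArg (· ≫ pullback.fst f f) hc
  have h2 := congrArg (· ≫ pullback.snd f f) hc
  simp only [Category.assoc, pullback.lift_fst, pullback.lift_snd, pullback.diagonal_fst,
    pullback.diagonal_snd, Category.comp_id] at h1 h2
  rw [h1, h2]

instance {T : Scheme.{u}} (u₁ u₂ : T ⟶ X) (h : u₁ ≫ f = u₂ ≫ f) :
    IsIntegralHom (eqz' f u₁ u₂ h) :=
  MorphismProperty.pullback_fst (P := @IsIntegralHom) _ _ inferInstance

instance {T : Scheme.{u}} (u₁ u₂ : T ⟶ X) (h : u₁ ≫ f = u₂ ≫ f) :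
    UniversallyInjective (eqz' f u₁ u₂ h) :=
  MorphismProperty.pullback_fst (P := @UniversallyInjective) _ _ inferInstance

instance {T : Scheme.{u}} (u₁ u₂ : T ⟶ X) (h : u₁ ≫ f = u₂ ≫ f) :
    Surjective (eqz' f u₁ u₂ h) :=
  MorphismProperty.pullback_fst (P := @Surjective) _ _ inferInstance

/-- a point equalizing `u₁, u₂` factors through the equalizer -/
lemma exists_fac_eqz' {T R : Scheme.{u}} (u₁ u₂ : T ⟶ X) (h : u₁ ≫ f = u₂ ≫ f) (r : R ⟶ T)
    (hr : r ≫ u₁ = r ≫ u₂) : ∃ r' : R ⟶ pullback (pullback.lift u₁ u₂ h) (pullback.diagonal f),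
      r' ≫ eqz' f u₁ u₂ h = r := by
  refine ⟨pullback.lift r (r ≫ u₁) ?_, pullback.lift_fst _ _ _⟩
  apply pullback.hom_ext
  · rw [Category.assoc, Category.assoc, pullback.lift_fst, pullback.diagonal_fst, Category.comp_id]
  · rw [Category.assoc, Category.assoc, pullback.lift_snd, pullback.diagonal_snd, Category.comp_id,
      hr]

/-- the canonical transport morphism -/
theorem exists_tau' : ∃ τ : pullback (a ≫ f) f ⟶ W, τ ≫ a = pullback.snd (a ≫ f) f ∧
    ∀ {T : Scheme.{u}} (v : T ⟶ W) (y : T ⟶ X) (h : v ≫ a ≫ f = y ≫ f), v ≫ a = y →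
      pullback.lift v y h ≫ τ = v := by
  let v₀ : pullback (a ≫ f) f ⟶ W := pullback.fst _ _
  let y₀ : pullback (a ≫ f) f ⟶ X := pullback.snd _ _
  have h₀ : (v₀ ≫ a) ≫ f = y₀ ≫ f := by
    rw [Category.assoc]
    exact pullback.condition
  let q := eqz' f (v₀ ≫ a) y₀ h₀
  have hq : q ≫ v₀ ≫ a = q ≫ y₀ := eqz'_comp f _ _ h₀
  let p : pullback a y₀ ⟶ pullback (a ≫ f) f := pullback.snd a y₀
  haveI : Etale p := inferInstance
  let s' : pullback (pullback.lift (v₀ ≫ a) y₀ h₀) (pullback.diagonal f) ⟶ pullback p q :=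
    pullback.lift (pullback.lift (q ≫ v₀) q (by rw [Category.assoc]; exact hq)) (𝟙 _)
      (by rw [pullback.lift_snd, Category.id_comp])
  have hs' : s' ≫ pullback.snd p q = 𝟙 _ := pullback.lift_snd _ _ _
  obtain ⟨s, hs1, hs2⟩ := Groth.Agent.H1.EtSections.exists_section_of_section_pullback p q s' hs'
  have hs'f : s' ≫ pullback.fst p q =
      pullback.lift (q ≫ v₀) q (by rw [Category.assoc]; exact hq) := pullback.lift_fst _ _ _
  have hqτ : q ≫ s ≫ pullback.fst a y₀ = q ≫ v₀ := by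
    rw [← Category.assoc, ← hs2, hs'f, pullback.lift_fst]
  refine ⟨s ≫ pullback.fst a y₀, ?_, ?_⟩
  · rw [Category.assoc, pullback.condition, reassoc_of% hs1]
  · intro T v y h hvy
    have hr : pullback.lift v y h ≫ (v₀ ≫ a) = pullback.lift v y h ≫ y₀ := by
      rw [← Category.assoc, pullback.lift_fst, pullback.lift_snd, hvy]
    obtain ⟨r', hr'⟩ := exists_fac_eqz' f (v₀ ≫ a) y₀ h₀ (pullback.lift v y h) hr
    have hr'' : r' ≫ q = pullback.lift v y h := hr'
    rw [← hr'', Category.assoc, hqτ, ← Category.assoc, hr'', pullback.lift_fst]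

/-- **the canonical descent datum** on an étale scheme over `X`, relative to a radicial morphism
`f : X ⟶ Y` -/
theorem nonempty_tauData' : Nonempty (TauData f a) := by
  obtain ⟨τ, hτ, hself⟩ := exists_tau' f a
  have hnat : ∀ {T R : Scheme.{u}} (r : R ⟶ T) (v : T ⟶ W) (y : T ⟶ X)
      (h : v ≫ a ≫ f = y ≫ f),
      r ≫ pullback.lift v y h ≫ τ =
        pullback.lift (r ≫ v) (r ≫ y) (by rw [Category.assoc, h, Category.assoc]) ≫ τ := by
    intro T R r v y h
    rw [← Category.assoc]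
    congr 1
    apply pullback.hom_ext
    · rw [Category.assoc, pullback.lift_fst, pullback.lift_fst]
    · rw [Category.assoc, pullback.lift_snd, pullback.lift_snd]
  refine ⟨{ τ := τ, τ_hom := hτ, self := hself _ _ _ (Category.id_comp _), coc := ?_ }⟩
  intro T v y₁ y₂ h₁ h₂ h₃
  -- pass to the locus where `v ≫ a = y₁ = y₂`
  have h₁' : (v ≫ a) ≫ f = y₁ ≫ f := by rw [Category.assoc]; exact h₁
  let r₁ := eqz' f (v ≫ a) y₁ h₁'
  have hr₁ : r₁ ≫ v ≫ a = r₁ ≫ y₁ := eqz'_comp f _ _ h₁'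
  have h₁₂ : (r₁ ≫ y₁) ≫ f = (r₁ ≫ y₂) ≫ f := by
    rw [Category.assoc, Category.assoc, ← h₁, h₃]
  let r₂ := eqz' f (r₁ ≫ y₁) (r₁ ≫ y₂) h₁₂
  have hr₂ : r₂ ≫ r₁ ≫ y₁ = r₂ ≫ r₁ ≫ y₂ := eqz'_comp f _ _ h₁₂
  haveI : Surjective (r₂ ≫ r₁) := inferInstance
  refine Groth.Agent.H1.EtSections.eq_of_comp_eq_of_surjective a (r₂ ≫ r₁) _ _ ?_ ?_
  · rw [Category.assoc, Category.assoc, hτ, pullback.lift_snd, pullback.lift_snd]
  · have e1 : (r₂ ≫ r₁) ≫ v ≫ a = (r₂ ≫ r₁) ≫ y₁ := by
      rw [Category.assoc, hr₁, Category.assoc]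
    have e2 : (r₂ ≫ r₁) ≫ v ≫ a = (r₂ ≫ r₁) ≫ y₂ := by
      rw [e1, Category.assoc, hr₂, Category.assoc]
    have k1 : (r₂ ≫ r₁) ≫ pullback.lift v y₁ h₁ ≫ τ = (r₂ ≫ r₁) ≫ v := by
      rw [hnat]
      exact hself _ _ _ (by rw [Category.assoc]; exact e1)
    have k2 : (r₂ ≫ r₁) ≫ pullback.lift v y₂ h₃ ≫ τ = (r₂ ≫ r₁) ≫ v := by
      rw [hnat]
      exact hself _ _ _ (by rw [Category.assoc]; exact e2)
    rw [hnat, k2]
    have h₂'' : pullback.lift v y₁ h₁ ≫ τ ≫ a ≫ f = y₂ ≫ f := by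
      rw [← Category.assoc]; exact h₂
    have hA : ((r₂ ≫ r₁) ≫ pullback.lift v y₁ h₁ ≫ τ) ≫ a ≫ f = ((r₂ ≫ r₁) ≫ y₂) ≫ f := by
      simp only [Category.assoc, h₂'']
    have hB : ((r₂ ≫ r₁) ≫ v) ≫ a ≫ f = ((r₂ ≫ r₁) ≫ y₂) ≫ f := by
      simp only [Category.assoc, h₃]
    have k3 : pullback.lift ((r₂ ≫ r₁) ≫ pullback.lift v y₁ h₁ ≫ τ) ((r₂ ≫ r₁) ≫ y₂) hA =
        pullback.lift ((r₂ ≫ r₁) ≫ v) ((r₂ ≫ r₁) ≫ y₂) hB := by
      apply pullback.hom_ext
      · rw [pullback.lift_fst, pullback.lift_fst, k1]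
      · rw [pullback.lift_snd, pullback.lift_snd]
    rw [k3]
    exact hself _ _ _ (by rw [Category.assoc]; exact e2)

end Tau

section SDD

variable {S S' X : Scheme.{u}} {g : S' ⟶ S} {a : X ⟶ S'}

/-- the (single-morphism) descent datum defined by a transport morphism -/
noncomputable def sddOfTau (t : TauData g a) : Desc.SchDD g where
  obj := Over.mk a
  φ T x₀ x₁ h :=
    { toFun := fun v => ⟨t.tp v.1 x₁ (by
          have hv : v.1 ≫ a = x₀ := v.2
          rw [← h, ← Category.assoc, hv]), t.tp_hom _ _ _⟩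
      invFun := fun w => ⟨t.tp w.1 x₀ (by
          have hw : w.1 ≫ a = x₁ := w.2
          rw [h, ← Category.assoc, hw]), t.tp_hom _ _ _⟩
      left_inv := fun v => by
        have hv : v.1 ≫ a = x₀ := v.2
        apply Subtype.ext
        change t.tp (t.tp v.1 x₁ _) x₀ _ = v.1
        rw [t.tp_tp v.1 x₁ x₀ _ h.symm]
        exact t.tp_self v.1 x₀ hv _
      right_inv := fun w => by
        have hw : w.1 ≫ a = x₁ := w.2
        apply Subtype.ext
        change t.tp (t.tp w.1 x₀ _) x₁ _ = w.1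
        rw [t.tp_tp w.1 x₀ x₁ _ h]
        exact t.tp_self w.1 x₁ hw _ }
  φ_natural T T' r x₀ x₁ h h' v v' hv' := by
    change t.tp v'.1 (r ≫ x₁) _ = r ≫ t.tp v.1 x₁ _
    rw [t.tp_natural]
    exact t.tp_congr _ hv' rfl
  φ_self T x v := by
    apply Subtype.ext
    exact t.tp_self v.1 x v.2 _
  φ_comp T x₀ x₁ x₂ h₀₁ h₁₂ v := by
    apply Subtype.ext
    exact t.tp_tp v.1 x₁ x₂ _ h₁₂

end SDD

end Groth.Agent.H5.EtDesc.Ti
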