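import Mathlib
import Groth.Agent.Lib.Helper5.EtDesc.TiC

/-!
# Radicial fpqc invariance of the small étale site (S5115), part 2
-/

set_option autoImplicit false
set_option backward.isDefEq.respectTransparency false
set_option backward.isDefEq.respectTransparency.types false

universe u

open CategoryTheory CategoryTheory.Limits AlgebraicGeometry MorphismProperty

namespace Groth.Agent.H5.EtDesc.Ti

section Rad

variable {S S' : Scheme.{u}} (g : S' ⟶ S)

/-- the diagonal of a universally injective morphism is a closed immersion -/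
lemma isClosedImmersion_diagonal_of_universallyInjective [UniversallyInjective g] :
    IsClosedImmersion (pullback.diagonal g) := by
  haveI : Surjective (pullback.diagonal g) := (UniversallyInjective.iff_diagonal g).mp inferInstance
  refine .of_isPreimmersion _ ?_
  rw [Set.range_eq_univ.mpr (pullback.diagonal g).surjective]
  exact isClosed_univ

lemma isSeparated_of_universallyInjective [UniversallyInjective g] : IsSeparated g :=
  ⟨isClosedImmersion_diagonal_of_universallyInjective g⟩

variable [Flat g] [Surjective g] [QuasiCompact g] [UniversallyInjective g]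

lemma univSubmersive_of_fpqc : SGA1.UnivSubmersive g :=
  Groth.Agent.Lib.Helper1.Subtr3.univSubmersive_of_univSSubtrusive
    (Groth.Agent.H5.Ultra.univSSubtrusive_of_flat_of_surjective g)

/-- étale, separated, quasi-compact schemes descend along radicial fpqc morphisms -/
theorem exists_descent_sep_qc_fpqc {W : Scheme.{u}} (a : W ⟶ S') [Etale a] [IsSeparated a]
    [QuasiCompact a] :
    ∃ (U : Scheme.{u}) (b : U ⟶ S) (p : W ⟶ U), Etale b ∧ IsPullback p a b g := by
  haveI : Surjective (pullback.diagonal g) := (UniversallyInjective.iff_diagonal g).mp inferInstance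
  haveI : IsClosedImmersion (pullback.diagonal g) :=
    isClosedImmersion_diagonal_of_universallyInjective g
  obtain ⟨t⟩ := nonempty_tauData' g a
  haveI : QuasiCompact (sddOfTau t).obj.hom := ‹QuasiCompact a›
  haveI : IsSeparated (sddOfTau t).obj.hom := ‹IsSeparated a›
  haveI : Etale (sddOfTau t).obj.hom := ‹Etale a›
  obtain ⟨U, -, -, het, ⟨Θ⟩⟩ := Groth.Agent.H3.IQA.exists_etale_sep_qc_of_fpqc g (sddOfTau t)
  let θ : pullback g U.hom ⟶ W := Θ.hom.hom.left
  haveI hθiso : IsIso θ := by
    refine ⟨Θ.inv.hom.left, ?_, ?_⟩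
    · exact congrArg (fun m => (Desc.SchDD.Hom.hom m).left) Θ.hom_inv_id
    · exact congrArg (fun m => (Desc.SchDD.Hom.hom m).left) Θ.inv_hom_id
  have hθ : θ ≫ a = pullback.fst g U.hom := Over.w Θ.hom.hom
  have hθ' : inv θ ≫ pullback.fst g U.hom = a := by
    rw [IsIso.inv_comp_eq, hθ]
  refine ⟨U.left, U.hom, inv θ ≫ pullback.snd g U.hom, het, ?_⟩
  refine IsPullback.of_iso_pullback ⟨?_⟩ ((asIso θ).symm ≪≫ pullbackSymmetry g U.hom) ?_ ?_
  · rw [Category.assoc, ← pullback.condition, ← Category.assoc, hθ']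
  · rw [Iso.trans_hom, Iso.symm_hom, asIso_inv, Category.assoc, pullbackSymmetry_hom_comp_fst]
  · rw [Iso.trans_hom, Iso.symm_hom, asIso_inv, Category.assoc, pullbackSymmetry_hom_comp_snd, hθ']

/-- local descent: an affine open of `W` over an affine open of `S` descends -/
lemma exists_descent_piece_fpqc {W : Scheme.{u}} (a : W ⟶ S') [Etale a] (O : W.Opens)
    (hO : IsAffineOpen O) (S₀ : S.Opens) (hS₀ : IsAffineOpen S₀) (hle : O ≤ a ⁻¹ᵁ g ⁻¹ᵁ S₀) :
    ∃ (U : Scheme.{u}) (b : U ⟶ S) (p : O.toScheme ⟶ U), Etale b ∧ IsPullback p (O.ι ≫ a) b g := by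
  let X₀ : S'.Opens := g ⁻¹ᵁ S₀
  let g₀ : X₀.toScheme ⟶ S₀.toScheme := g ∣_ S₀
  have hsq : IsPullback X₀.ι g₀ g S₀.ι := (isPullback_morphismRestrict g S₀).flip
  haveI : Flat g₀ := MorphismProperty.of_isPullback (P := @Flat) hsq inferInstance
  haveI : QuasiCompact g₀ := MorphismProperty.of_isPullback (P := @QuasiCompact) hsq inferInstance
  haveI : UniversallyInjective g₀ :=
    MorphismProperty.of_isPullback (P := @UniversallyInjective) hsq inferInstance
  haveI : Surjective g₀ := MorphismProperty.of_isPullback (P := @Surjective) hsq inferInstance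
  haveI : IsSeparated g₀ := isSeparated_of_universallyInjective g₀
  haveI : IsAffine O.toScheme := hO
  haveI : IsAffine S₀.toScheme := hS₀
  have hrange : Set.range (O.ι ≫ a) ⊆ Set.range X₀.ι := by
    rw [Scheme.Opens.range_ι]
    rintro _ ⟨w, rfl⟩
    exact hle w.2
  let aO : O.toScheme ⟶ X₀.toScheme := IsOpenImmersion.lift X₀.ι (O.ι ≫ a) hrange
  have haO : aO ≫ X₀.ι = O.ι ≫ a := IsOpenImmersion.lift_fac _ _ _
  haveI : Etale aO := by
    refine MorphismProperty.of_postcomp (W := @Etale) (W' := @Etale) aO X₀.ι inferInstance ?_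
    rw [haO]
    infer_instance
  haveI : IsAffineHom (aO ≫ g₀) := inferInstance
  haveI : IsAffineHom aO := IsAffineHom.of_comp aO g₀
  obtain ⟨U, b₀, p₀, hb, hleft⟩ := exists_descent_sep_qc_fpqc g₀ aO
  haveI := hb
  have hbig := (hleft.flip.paste_horiz hsq).flip
  rw [haO] at hbig
  exact ⟨U, b₀ ≫ S₀.ι, p₀, inferInstance, hbig⟩

/-- **étale schemes descend along radicial fpqc morphisms** -/
theorem exists_descent_etale_fpqc {W : Scheme.{u}} (a : W ⟶ S') [Etale a] :
    ∃ (U : Scheme.{u}) (b : U ⟶ S) (p : W ⟶ U), Etale b ∧ IsPullback p a b g := by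
  have hg : SGA1.UnivSubmersive g := univSubmersive_of_fpqc g
  refine exists_descent_of_cover g hg a (jaCover g a) (fun j => ?_)
  obtain ⟨hO, S₀, hS₀, hle⟩ := j.2
  exact exists_descent_piece_fpqc g a j.1 hO S₀ hS₀ hle

/-- **S5115** -/
theorem main_S5115 : (EtCoh.bc g).IsEquivalence := by
  have hg : SGA1.UnivSubmersive g := univSubmersive_of_fpqc g
  have hP : EtCoh.etaleMP.{u} ≤ @Etale := le_rfl
  haveI : (EtCoh.bc g).Faithful := faithful_pullback' g hg EtCoh.etaleMP hP
  haveI : (EtCoh.bc g).Full := full_pullback' g hg EtCoh.etaleMP hP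
  haveI : (EtCoh.bc g).EssSurj := by
    constructor
    intro Wo
    haveI : Etale Wo.hom := Wo.prop
    obtain ⟨U, b, p, hb, hpb⟩ := exists_descent_etale_fpqc g Wo.hom
    refine ⟨MorphismProperty.Over.mk ⊤ b hb, ⟨?_⟩⟩
    exact MorphismProperty.Over.isoMk hpb.isoPullback.symm (hpb.isoPullback_inv_snd)
  exact { }

end Rad

end Groth.Agent.H5.EtDesc.Ti
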