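import Mathlib
import Groth.Prelude.Def_EtBase
import Groth.Prelude.Def_EtCore
import Groth.Agent.Lib.Helper5.EtDesc.TiB

/-!
# Topological invariance of étale cohomology (S642)
-/

set_option autoImplicit false
set_option backward.isDefEq.respectTransparency false
set_option backward.isDefEq.respectTransparency.types false

universe u

open CategoryTheory CategoryTheory.Limits AlgebraicGeometry MorphismProperty Opposite

namespace Groth.Agent.H5.EtDesc.Ti

section Site

variable {X Y : Scheme.{u}} (f : X ⟶ Y)

/-- if `bc f` is essentially surjective and full and `f` is surjective, `bc f` is cocontinuous -/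
theorem isCocontinuous_bc [Surjective f] [(EtCoh.bc f).Full] [(EtCoh.bc f).EssSurj] :
    (EtCoh.bc f).IsCocontinuous Y.smallEtaleTopology X.smallEtaleTopology := by
  constructor
  intro U S hS
  have eY : Y.smallEtaleTopology =
      (Y.smallPretopology (P := EtCoh.etaleMP) (Q := EtCoh.etaleMP)).toGrothendieck :=
    Scheme.smallGrothendieckTopology_eq_toGrothendieck_smallPretopology Y le_rfl
  have eX : X.smallEtaleTopology =
      (X.smallPretopology (P := EtCoh.etaleMP) (Q := EtCoh.etaleMP)).toGrothendieck :=
    Scheme.smallGrothendieckTopology_eq_toGrothendieck_smallPretopology X le_rfl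
  rw [eX] at hS
  rw [eY]
  replace hS := (Scheme.mem_toGrothendieck_smallPretopology ((EtCoh.bc f).obj U) S).1 hS
  refine (Scheme.mem_toGrothendieck_smallPretopology U _).2 ?_
  intro x
  haveI : Surjective (pullback.fst U.hom f) :=
    MorphismProperty.pullback_fst (P := @Surjective) _ _ inferInstance
  obtain ⟨x', hx'⟩ := (pullback.fst U.hom f).surjective x
  obtain ⟨W', g', w, hg', -, hw⟩ := hS x'
  let V : Y.Etale := (EtCoh.bc f).objPreimage W'
  let ε : (EtCoh.bc f).obj V ≅ W' := (EtCoh.bc f).objObjPreimageIso W'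
  obtain ⟨g, hg⟩ := (EtCoh.bc f).map_surjective (ε.hom ≫ g')
  have hSg : S ((EtCoh.bc f).map g) := by
    rw [hg]
    exact S.downward_closed hg' ε.hom
  let w'' : ((EtCoh.bc f).obj V).left := ε.inv.left w
  refine ⟨V, g, (pullback.fst V.hom f : ((EtCoh.bc f).obj V).left ⟶ V.left) w'', hSg,
    inferInstance, ?_⟩
  have sq := (EtCoh.isPullback_bc_map f g).w
  change ((pullback.fst V.hom f : ((EtCoh.bc f).obj V).left ⟶ V.left) ≫ g.left) w'' = x
  rw [← sq, Scheme.Hom.comp_apply, hg]
  have e1 : (ε.hom ≫ g').left w'' = g'.left w := by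
    change (ε.hom.left ≫ g'.left) (ε.inv.left w) = g'.left w
    rw [Scheme.Hom.comp_apply, ← Scheme.Hom.comp_apply ε.inv.left ε.hom.left]
    have : ε.inv.left ≫ ε.hom.left = 𝟙 _ :=
      congrArg (fun m : W' ⟶ W' => m.left) ε.inv_hom_id
    rw [this]
    rfl
  have e2 : (ε.hom ≫ g').left w'' = x' := e1.trans hw
  exact (congrArg (pullback.fst U.hom f) e2).trans hx'

end Site

section Coh

variable {X₀ X : Scheme.{u}} (i : X₀ ⟶ X) [IsIntegralHom i] [UniversallyInjective i] [Surjective i]

/-- direct image along a universal homeomorphism is an equivalence of categories of sheaves -/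
theorem isEquivalence_push : (EtCoh.push i).IsEquivalence := by
  haveI : (EtCoh.bc i).IsEquivalence := main_S75 i
  let e : X.Etale ≌ X₀.Etale := (EtCoh.bc i).asEquivalence
  haveI : e.functor.IsCocontinuous X.smallEtaleTopology X₀.smallEtaleTopology :=
    isCocontinuous_bc i
  haveI : e.inverse.IsCocontinuous X₀.smallEtaleTopology X.smallEtaleTopology :=
    (e.symm.toAdjunction.isCocontinuous_iff_coverPreserving _ _).mpr (EtCoh.coverPreserving_bc i)
  haveI : e.inverse.IsDenseSubsite X₀.smallEtaleTopology X.smallEtaleTopology :=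
    Equivalence.isDenseSubsite_inverse_of_isCocontinuous _ _ e
  let E := e.sheafCongr X.smallEtaleTopology X₀.smallEtaleTopology AddCommGrpCat.{u + 1}
  exact inferInstanceAs E.inverse.IsEquivalence

/-- inverse image along a universal homeomorphism is an equivalence of categories of sheaves -/
theorem isEquivalence_pull : (EtCoh.pull i).IsEquivalence :=
  haveI := isEquivalence_push i
  (EtCoh.pullPushAdj i).isEquivalence_left_of_isEquivalence_right

/-- **S642** -/
theorem hpull_bijective [PreservesFiniteLimits (EtCoh.pull i)] (F : EtCoh.Ab X) (q : ℕ) :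
    Function.Bijective (EtCore.Hpull i F q) := by
  haveI := isEquivalence_pull i
  haveI : (EtCoh.pull i).PreservesInjectiveObjects :=
    Functor.preservesInjectiveObjects_of_adjunction_of_preservesMonomorphisms
      ((EtCoh.pull i).asEquivalence.symm.toAdjunction)
  have h1 := Functor.mapExt_bijective_of_preservesInjectiveObjects (EtCoh.pull i)
    (EtCoh.const X ℤ) F q
  unfold EtCore.Hpull
  rw [AddMonoidHom.coe_comp]
  refine Function.Bijective.comp ?_ h1
  refine Function.bijective_iff_has_inverse.mpr
    ⟨fun e => (Abelian.Ext.mk₀ (EtCore.pullConst i ℤ).hom).comp e (zero_add q), ?_, ?_⟩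
  · intro e
    change (Abelian.Ext.mk₀ (EtCore.pullConst i ℤ).hom).comp
      ((Abelian.Ext.mk₀ (EtCore.pullConst i ℤ).inv).comp e (zero_add q)) (zero_add q) = e
    rw [Abelian.Ext.mk₀_comp_mk₀_assoc, Iso.hom_inv_id, Abelian.Ext.mk₀_id_comp]
  · intro e
    change (Abelian.Ext.mk₀ (EtCore.pullConst i ℤ).inv).comp
      ((Abelian.Ext.mk₀ (EtCore.pullConst i ℤ).hom).comp e (zero_add q)) (zero_add q) = e
    rw [Abelian.Ext.mk₀_comp_mk₀_assoc, Iso.inv_hom_id, Abelian.Ext.mk₀_id_comp]

end Coh

end Groth.Agent.H5.EtDesc.Ti
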