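import Mathlib
import Groth.Prelude.Def_EtBase
import Groth.Prelude.Def_EtCore
import Groth.Prelude.Def_PBC
import Groth.Prelude.Def_EtShriek2
import Groth.Agent.Lib.Helper7.CI7
import Groth.Agent.Lib.Helper7.CI10
import Groth.Agent.Lib.Helper7.ST4
import Groth.Agent.Lib.Helper7.ST7
import Groth.Agent.Lib.Helper7.ST9
import Groth.Agent.Lib.Helper5.EtDesc.TiE

/-!
# Direct image along integral universally injective morphisms (S631)
-/

set_option autoImplicit false
set_option backward.isDefEq.respectTransparency false
set_option backward.isDefEq.respectTransparency.types false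

universe u

open CategoryTheory CategoryTheory.Limits AlgebraicGeometry MorphismProperty Opposite

namespace Groth.Agent.H5.EtDesc.Ti

section ClosedImm

variable {Z Y : Scheme.{u}} (i : Z ⟶ Y) [IsClosedImmersion i]

/-- essential image of the direct image along a closed immersion, in terms of supports -/
theorem essImage_push_closedImmersion_iff_supp (G : EtCoh.Ab Y) :
    (EtCoh.push i).essImage G ↔ EtPBC.supp G ⊆ Set.range i.base := by
  constructor
  · rintro ⟨G', ⟨e⟩⟩ x ⟨Ω, _, _, ξ, hξ, hnz⟩
    by_contra hx
    apply hnz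
    have hd : Disjoint (Set.range ξ.base) (Set.range i.base) := by
      have : Set.range ξ.base = {x} := hξ
      rw [this, Set.disjoint_singleton_left]
      exact hx
    exact (Groth.Agent.H7.ST.S69_main i G' ξ hd).of_iso ((EtCoh.stalk ξ).mapIso e.symm)
  · intro hsupp
    rw [Groth.Agent.H7.CI.essImage_push_iff]
    intro U hU
    -- the open complement
    let V : Y.Opens := ⟨(Set.range i.base)ᶜ, i.isClosedEmbedding.isClosed_range.isOpen_compl⟩
    let j : V.toScheme ⟶ Y := V.ι
    have hrange : Set.range U.hom ⊆ Set.range j := by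
      rw [Scheme.Opens.range_ι]
      rintro _ ⟨w, rfl⟩
      intro hw
      exact Set.disjoint_left.mp hU ⟨w, rfl⟩ hw
    let l : U.left ⟶ V.toScheme := IsOpenImmersion.lift j U.hom hrange
    have hl : l ≫ j = U.hom := IsOpenImmersion.lift_fac _ _ _
    haveI : Etale U.hom := U.prop
    haveI : Etale l := by
      refine MorphismProperty.of_postcomp (W := @Etale) (W' := @Etale) l j inferInstance ?_
      rw [hl]
      infer_instance
    let U' : V.toScheme.Etale := MorphismProperty.Over.mk ⊤ l (inferInstanceAs (Etale l))
    let R : EtCoh.Ab V.toScheme := (EtShriek.restrAlong j).obj G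
    have hR : IsZero R := by
      rw [Groth.Agent.H7.ST.ab_isZero_iff]
      intro Ω _ _ ζ
      refine IsZero.of_iso ?_ ((Groth.Agent.H7.ST.stalkRestrIso j ζ).app G)
      by_contra hnz
      have hx : (ζ ≫ j) default ∈ EtPBC.supp G := by
        refine ⟨Ω, inferInstance, inferInstance, ζ ≫ j, ?_, hnz⟩
        ext y
        simp only [Set.mem_range, Set.mem_singleton_iff]
        constructor
        · rintro ⟨t, rfl⟩
          rw [Subsingleton.elim t default]
        · rintro rfl
          exact ⟨default, rfl⟩
      have h1 := hsupp hx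
      have h2 : (ζ ≫ j) default ∈ (V : Set Y) := by
        rw [Scheme.Hom.comp_apply]
        have : j (ζ default) ∈ Set.range j := ⟨_, rfl⟩
        rwa [Scheme.Opens.range_ι] at this
      exact h2 h1
    have hsec : IsZero (R.obj.obj (op U')) :=
      ((sheafSections V.toScheme.smallEtaleTopology AddCommGrpCat.{u + 1}).obj (op U')).map_isZero hR
    let eU : (EtShriek.compEtale j).obj U' ≅ U :=
      MorphismProperty.Over.isoMk (Iso.refl _) (by
        change 𝟙 _ ≫ U.hom = l ≫ j
        rw [Category.id_comp, hl])
    exact hsec.of_iso (G.obj.mapIso eU.op)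

end ClosedImm

section Main

variable {X Y : Scheme.{u}} (f : X ⟶ Y) [IsIntegralHom f] [UniversallyInjective f]

/-- **S631** -/
theorem main_S631 :
    (EtCoh.push f).Full ∧ (EtCoh.push f).Faithful ∧
    (∀ G : EtCoh.Ab Y, (EtCoh.push f).essImage G ↔ EtPBC.supp G ⊆ Set.range f.base) ∧
    ∀ F : EtCoh.Ab X, IsIso ((EtCoh.pullPushAdj f).counit.app F) := by
  let i : f.image ⟶ Y := f.imageι
  let h : X ⟶ f.image := f.toImage
  have hf : h ≫ i = f := f.toImage_imageι
  have sq : IsPullback h (𝟙 X) i f := by
    have h0 := (IsPullback.of_id_snd (f := h)).paste_horiz (IsKernelPair.id_of_mono i)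
    rw [Category.comp_id, hf] at h0
    exact h0
  haveI : IsIntegralHom h :=
    MorphismProperty.of_isPullback (P := @IsIntegralHom) sq.flip inferInstance
  haveI : UniversallyInjective h :=
    MorphismProperty.of_isPullback (P := @UniversallyInjective) sq.flip inferInstance
  haveI : Surjective h :=
    surjective_of_isDominant_of_isClosed_range h (h.isClosedMap.isClosed_range)
  haveI := isEquivalence_push h
  obtain ⟨hfull, hfaith⟩ := Groth.Agent.H7.CI.push_full_faithful i
  let e : EtCoh.push h ⋙ EtCoh.push i ≅ EtCoh.push f := EtCoh.pushComp i h ≪≫ EtCoh.pushCongr hf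
  haveI : (EtCoh.push f).Full := Functor.Full.of_iso e
  haveI : (EtCoh.push f).Faithful := Functor.Faithful.of_iso e
  refine ⟨inferInstance, inferInstance, ?_, ?_⟩
  · intro G
    have hr : Set.range f.base = Set.range i.base := by
      have h1 : Set.range (h ≫ i).base = Set.range i.base := by
        rw [Scheme.Hom.comp_base, TopCat.coe_comp, Set.range_comp,
          Set.range_eq_univ.mpr h.surjective, Set.image_univ]
      rw [← h1]
      exact congrArg (fun m : X ⟶ Y => Set.range m.base) hf.symm
    rw [hr, ← essImage_push_closedImmersion_iff_supp i G]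
    constructor
    · rintro ⟨F, ⟨ε⟩⟩
      exact ⟨(EtCoh.push h).obj F, ⟨(e.app F) ≪≫ ε⟩⟩
    · rintro ⟨F', ⟨ε⟩⟩
      exact ⟨(EtCoh.push h).objPreimage F', ⟨(e.app _).symm ≪≫
        (EtCoh.push i).mapIso ((EtCoh.push h).objObjPreimageIso F') ≪≫ ε⟩⟩
  · intro F
    infer_instance

end Main

end Groth.Agent.H5.EtDesc.Ti
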